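import Mathlib
import Cfsg.Agent.Helper7.SylowLemmas

set_option autoImplicit false

namespace Cfsg.Agent.Helper7

/-- Relative Sylow theorem: if `K` is a `p`-subgroup whose index in `H` is prime to `p`, then every
`p`-subgroup `Q` of `H` is conjugate into `K` by an element of `H`. -/
theorem exists_conj_le_of_not_dvd_relIndex {G : Type*} [Group G] [Finite G] {p : ℕ} [Fact p.Prime]
    (H K Q : Subgroup G) (hK : IsPGroup p K) (hidx : ¬ p ∣ K.relIndex H)
    (hQ : IsPGroup p Q) (hQH : Q ≤ H) : ∃ c ∈ H, ∀ x ∈ Q, c * x * c⁻¹ ∈ K := by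
  have hK' : IsPGroup p (K.subgroupOf H) := hK.comap_of_injective H.subtype H.subtype_injective
  have hQ' : IsPGroup p (Q.subgroupOf H) := hQ.comap_of_injective H.subtype H.subtype_injective
  have hidx' : ¬ p ∣ (K.subgroupOf H).index := hidx
  obtain ⟨R, hR⟩ := hQ'.exists_le_sylow
  obtain ⟨h, hh⟩ := MulAction.exists_smul_eq H R (hK'.toSylow hidx')
  refine ⟨(h : G), h.2, fun x hx => ?_⟩
  have hxR : (⟨x, hQH hx⟩ : H) ∈ R := hR (Subgroup.mem_subgroupOf.2 hx)
  have h1 : h * ⟨x, hQH hx⟩ * h⁻¹ ∈ h • R := by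
    rw [mem_smul_sylow_iff]
    have e : h⁻¹ * (h * ⟨x, hQH hx⟩ * h⁻¹) * h = (⟨x, hQH hx⟩ : H) := by group
    rw [e]
    exact hxR
  rw [hh, IsPGroup.mem_toSylow, Subgroup.mem_subgroupOf] at h1
  simpa using h1

end Cfsg.Agent.Helper7
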