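import Mathlib
import Cfsg.Agent.Helper7.SylowLemmas
import Cfsg.Agent.Helper7.RelSylow

set_option autoImplicit false

namespace Cfsg.Agent.Helper7

/-- `|NK : N| * |N ∩ K| = |K|` for `K` normal. -/
theorem relIndex_sup_mul_card_inf {G : Type*} [Group G] [Finite G] (N K : Subgroup G) [K.Normal] :
    N.relIndex (N ⊔ K) * Nat.card (N ⊓ K : Subgroup G) = Nat.card K := by
  have e1 : Nat.card (N ⊔ K : Subgroup G) = Nat.card N * N.relIndex (N ⊔ K) := by
    have h1 := Subgroup.card_mul_index (N.subgroupOf (N ⊔ K))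
    have h2 : Nat.card (N.subgroupOf (N ⊔ K)) = Nat.card N :=
      Nat.card_congr (Subgroup.subgroupOfEquivOfLe le_sup_left).toEquiv
    rw [h2] at h1
    exact h1.symm
  have e2 : Nat.card (N ⊔ K : Subgroup G) = Nat.card K * K.relIndex N := by
    have h1 := Subgroup.card_mul_index (K.subgroupOf (N ⊔ K))
    have h2 : Nat.card (K.subgroupOf (N ⊔ K)) = Nat.card K :=
      Nat.card_congr (Subgroup.subgroupOfEquivOfLe le_sup_right).toEquiv
    rw [h2] at h1
    rw [← h1]
    congr 1
    exact Subgroup.relIndex_sup_right N K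
  have e3 : Nat.card N = Nat.card (N ⊓ K : Subgroup G) * K.relIndex N := by
    have h1 := Subgroup.card_mul_index (K.subgroupOf N)
    have h2 : Nat.card (K.subgroupOf N) = Nat.card (N ⊓ K : Subgroup G) := by
      rw [← Subgroup.inf_subgroupOf_left]
      exact Nat.card_congr (Subgroup.subgroupOfEquivOfLe inf_le_left).toEquiv
    rw [h2] at h1
    exact h1.symm
  have hpos : 0 < K.relIndex N := by
    apply Nat.pos_of_ne_zero
    intro h0
    rw [h0, mul_zero] at e3
    exact Nat.card_pos.ne' e3
  have e4 : (N.relIndex (N ⊔ K) * Nat.card (N ⊓ K : Subgroup G)) * K.relIndex N =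
      Nat.card K * K.relIndex N := by
    rw [← e2, e1, e3]
    ring
  exact Nat.eq_of_mul_eq_mul_right hpos e4

/-- The normalizer of the image of a Sylow subgroup in a quotient is the image of the
normalizer. -/
theorem normalizer_map_sylow_mk {G : Type*} [Group G] [Finite G] (p : ℕ) [Fact p.Prime]
    (K : Subgroup G) [K.Normal] (P : Sylow p G) :
    Subgroup.normalizer (((P : Subgroup G).map (QuotientGroup.mk' K) : Subgroup (G ⧸ K)) : Set (G ⧸ K)) =
      (Subgroup.normalizer ((P : Subgroup G) : Set G)).map (QuotientGroup.mk' K) := by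
  apply le_antisymm
  · intro gbar hg
    obtain ⟨g, rfl⟩ := QuotientGroup.mk'_surjective K gbar
    have hcomap : ((P : Subgroup G).map (QuotientGroup.mk' K)).comap (QuotientGroup.mk' K) =
        (P : Subgroup G) ⊔ K := by
      rw [Subgroup.comap_map_eq, QuotientGroup.ker_mk']
    have hle : ((g • P : Sylow p G) : Subgroup G) ≤ (P : Subgroup G) ⊔ K := by
      intro x hx
      have h1 : g⁻¹ * x * g ∈ P := (mem_smul_sylow_iff g x P).1 hx
      have h2 : QuotientGroup.mk' K (g⁻¹ * x * g) ∈ (P : Subgroup G).map (QuotientGroup.mk' K) :=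
        Subgroup.mem_map_of_mem _ h1
      have h3 := (Subgroup.mem_normalizer_iff.1 hg _).1 h2
      have h4 : QuotientGroup.mk' K g * QuotientGroup.mk' K (g⁻¹ * x * g) *
          (QuotientGroup.mk' K g)⁻¹ = QuotientGroup.mk' K x := by
        rw [← map_inv, ← map_mul, ← map_mul]
        congr 1
        group
      rw [h4] at h3
      rw [← hcomap]
      exact h3
    have hidx : ¬ p ∣ (P : Subgroup G).relIndex ((P : Subgroup G) ⊔ K) := by
      intro hdiv
      apply P.not_dvd_index
      have h1 := Subgroup.relIndex_mul_index (le_sup_left : (P : Subgroup G) ≤ (P : Subgroup G) ⊔ K)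
      rw [← h1]
      exact Dvd.dvd.mul_right hdiv _
    obtain ⟨c, hcPK, hc⟩ := exists_conj_le_of_not_dvd_relIndex ((P : Subgroup G) ⊔ K)
      (P : Subgroup G) ((g • P : Sylow p G) : Subgroup G) P.2 hidx (g • P).2 hle
    have hcg : ((c * g) • P : Sylow p G) = P := by
      refine (sylow_eq_of_le ((c * g) • P) P ?_).symm
      intro y hy
      have h1 : (c * g)⁻¹ * y * (c * g) ∈ P := (mem_smul_sylow_iff (c * g) y P).1 hy
      have h2 : c⁻¹ * y * c ∈ (g • P : Sylow p G) := by
        rw [mem_smul_sylow_iff]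
        have e : g⁻¹ * (c⁻¹ * y * c) * g = (c * g)⁻¹ * y * (c * g) := by group
        rw [e]
        exact h1
      have h3 := hc _ h2
      have e : c * (c⁻¹ * y * c) * c⁻¹ = y := by group
      rwa [e] at h3
    have hcgN : c * g ∈ Subgroup.normalizer ((P : Subgroup G) : Set G) :=
      Sylow.smul_eq_iff_mem_normalizer.1 hcg
    have hcbar : QuotientGroup.mk' K c ∈
        (Subgroup.normalizer ((P : Subgroup G) : Set G)).map (QuotientGroup.mk' K) := by
      have h1 : c ∈ ((P : Subgroup G).map (QuotientGroup.mk' K)).comap (QuotientGroup.mk' K) := by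
        rw [hcomap]
        exact hcPK
      exact Subgroup.map_mono Subgroup.le_normalizer (Subgroup.mem_comap.1 h1)
    have h5 : QuotientGroup.mk' K g = (QuotientGroup.mk' K c)⁻¹ * QuotientGroup.mk' K (c * g) := by
      rw [map_mul, inv_mul_cancel_left]
    rw [h5]
    exact Subgroup.mul_mem _ (Subgroup.inv_mem _ hcbar) (Subgroup.mem_map_of_mem _ hcgN)
  · exact Subgroup.le_normalizer_map _

/-- `n_p(G) = n_p(G/K) * |N_G(P) K : N_G(P)|`. -/
theorem card_sylow_eq_card_sylow_quotient_mul {G : Type*} [Group G] [Finite G] (p : ℕ)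
    [Fact p.Prime] (K : Subgroup G) [K.Normal] (P : Sylow p G) :
    Nat.card (Sylow p G) = Nat.card (Sylow p (G ⧸ K)) *
      (Subgroup.normalizer ((P : Subgroup G) : Set G)).relIndex
        (Subgroup.normalizer ((P : Subgroup G) : Set G) ⊔ K) := by
  have h1 : Nat.card (Sylow p (G ⧸ K)) =
      (Subgroup.normalizer ((P : Subgroup G) : Set G) ⊔ K).index := by
    rw [(P.mapSurjective (QuotientGroup.mk'_surjective K)).card_eq_index_normalizer]
    show (Subgroup.normalizer (((P : Subgroup G).map (QuotientGroup.mk' K) : Subgroup (G ⧸ K)) :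
      Set (G ⧸ K))).index = _
    rw [normalizer_map_sylow_mk, Subgroup.index_map, QuotientGroup.ker_mk',
      MonoidHom.range_eq_top_of_surjective _ (QuotientGroup.mk'_surjective K), Subgroup.index_top,
      mul_one]
  rw [h1, P.card_eq_index_normalizer, mul_comm]
  exact (Subgroup.relIndex_mul_index le_sup_left).symm

end Cfsg.Agent.Helper7
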