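import Mathlib
import Cfsg.Agent.Helper7.SylowQuot

set_option autoImplicit false

namespace Cfsg.Agent.Helper7

/-- `|HK : H| = |K : H ∩ K|` when `H` normalizes `K`. -/
theorem relIndex_sup_eq_relIndex_of_le_normalizer {G : Type*} [Group G] [Finite G]
    (H K : Subgroup G) (h : H ≤ Subgroup.normalizer (K : Set G)) :
    H.relIndex (H ⊔ K) = H.relIndex K := by
  have e0 : K.relIndex H = K.relIndex (H ⊔ K) := by
    letI := Subgroup.normal_subgroupOf_of_le_normalizer h
    letI := Subgroup.normal_subgroupOf_sup_of_le_normalizer h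
    exact Nat.card_congr (QuotientGroup.quotientInfEquivProdNormalizerQuotient H K h).toEquiv
  have e1 : Nat.card (H ⊔ K : Subgroup G) = Nat.card H * H.relIndex (H ⊔ K) := by
    have h1 := Subgroup.card_mul_index (H.subgroupOf (H ⊔ K))
    have h2 : Nat.card (H.subgroupOf (H ⊔ K)) = Nat.card H :=
      Nat.card_congr (Subgroup.subgroupOfEquivOfLe le_sup_left).toEquiv
    rw [h2] at h1
    exact h1.symm
  have e2 : Nat.card (H ⊔ K : Subgroup G) = Nat.card K * K.relIndex H := by
    have h1 := Subgroup.card_mul_index (K.subgroupOf (H ⊔ K))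
    have h2 : Nat.card (K.subgroupOf (H ⊔ K)) = Nat.card K :=
      Nat.card_congr (Subgroup.subgroupOfEquivOfLe le_sup_right).toEquiv
    rw [h2] at h1
    rw [← h1, e0]
    rfl
  have e3 : Nat.card H = Nat.card (H ⊓ K : Subgroup G) * K.relIndex H := by
    have h1 := Subgroup.card_mul_index (K.subgroupOf H)
    have h2 : Nat.card (K.subgroupOf H) = Nat.card (H ⊓ K : Subgroup G) := by
      rw [← Subgroup.inf_subgroupOf_left]
      exact Nat.card_congr (Subgroup.subgroupOfEquivOfLe inf_le_left).toEquiv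
    rw [h2] at h1
    exact h1.symm
  have e4 : Nat.card K = Nat.card (H ⊓ K : Subgroup G) * H.relIndex K := by
    have h1 := Subgroup.card_mul_index (H.subgroupOf K)
    have h2 : Nat.card (H.subgroupOf K) = Nat.card (H ⊓ K : Subgroup G) := by
      rw [← Subgroup.inf_subgroupOf_right]
      exact Nat.card_congr (Subgroup.subgroupOfEquivOfLe inf_le_right).toEquiv
    rw [h2] at h1
    exact h1.symm
  have hpos1 : 0 < K.relIndex H := by
    apply Nat.pos_of_ne_zero
    intro h0
    rw [h0, mul_zero] at e3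
    exact Nat.card_pos.ne' e3
  have hpos2 : 0 < Nat.card (H ⊓ K : Subgroup G) := Nat.card_pos
  have e5 : (Nat.card (H ⊓ K : Subgroup G) * K.relIndex H) * H.relIndex (H ⊔ K) =
      (Nat.card (H ⊓ K : Subgroup G) * K.relIndex H) * H.relIndex K := by
    calc (Nat.card (H ⊓ K : Subgroup G) * K.relIndex H) * H.relIndex (H ⊔ K)
        = Nat.card H * H.relIndex (H ⊔ K) := by rw [← e3]
      _ = Nat.card (H ⊔ K : Subgroup G) := e1.symm
      _ = Nat.card K * K.relIndex H := e2
      _ = (Nat.card (H ⊓ K : Subgroup G) * H.relIndex K) * K.relIndex H := by rw [← e4]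
      _ = (Nat.card (H ⊓ K : Subgroup G) * K.relIndex H) * H.relIndex K := by ring
  exact Nat.eq_of_mul_eq_mul_left (Nat.mul_pos hpos2 hpos1) e5

end Cfsg.Agent.Helper7
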