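import Mathlib
import Cfsg.Agent.Helper7.SylowLemmas
import Cfsg.Agent.Helper7.SylowQuot2

set_option autoImplicit false

open scoped Pointwise

namespace Cfsg.Agent.Helper7

/-- A subgroup all of whose elements conjugate `Q` into itself normalizes `Q`. -/
theorem le_normalizer_of_forall_conj_mem {G : Type*} [Group G] (P Q : Subgroup G)
    (h : ∀ u ∈ P, ∀ x ∈ Q, u * x * u⁻¹ ∈ Q) : P ≤ Subgroup.normalizer (Q : Set G) := by
  intro u hu
  rw [Subgroup.mem_normalizer_iff]
  intro x
  constructor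
  · exact h u hu x
  · intro hx
    have h1 := h u⁻¹ (P.inv_mem hu) _ hx
    have e : u⁻¹ * (u * x * u⁻¹) * u⁻¹⁻¹ = x := by group
    rwa [e] at h1

/-- The conjugation action of a subgroup on a subgroup that it normalizes. -/
@[reducible] def conjMulDistribMulAction {G : Type*} [Group G] (P M : Subgroup G)
    (h : P ≤ Subgroup.normalizer (M : Set G)) : MulDistribMulAction P M where
  smul u m := ⟨(u : G) * (m : G) * (u : G)⁻¹, (Subgroup.mem_normalizer_iff.1 (h u.2) m).1 m.2⟩
  one_smul m := Subtype.ext (by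
    show ((1 : P) : G) * (m : G) * ((1 : P) : G)⁻¹ = m
    simp)
  mul_smul u v m := Subtype.ext (by
    show ((u * v : P) : G) * (m : G) * ((u * v : P) : G)⁻¹ =
      (u : G) * ((v : G) * (m : G) * (v : G)⁻¹) * (u : G)⁻¹
    simp [mul_assoc])
  smul_mul u m m' := Subtype.ext (by
    show (u : G) * ((m * m' : M) : G) * (u : G)⁻¹ =
      ((u : G) * (m : G) * (u : G)⁻¹) * ((u : G) * (m' : G) * (u : G)⁻¹)
    simp [mul_assoc])
  smul_one u := Subtype.ext (by
    show (u : G) * ((1 : M) : G) * (u : G)⁻¹ = 1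
    simp)

/-- A `p`-group normalizing a `p'`-subgroup `M` normalizes some Sylow `q`-subgroup of `M`. -/
theorem exists_invariant_sylow {G : Type*} [Group G] [Finite G] (p q : ℕ) [Fact p.Prime]
    [Fact q.Prime] (P M : Subgroup G) (hP : IsPGroup p P)
    (hPM : P ≤ Subgroup.normalizer (M : Set G)) (hM : ¬ p ∣ Nat.card M) :
    ∃ Q₁ : Subgroup G, Q₁ ≤ M ∧ IsPGroup q Q₁ ∧
      Nat.card Q₁ = q ^ (Nat.card M).factorization q ∧
      P ≤ Subgroup.normalizer (Q₁ : Set G) ∧
      ∀ Q₀ : Subgroup G, Q₀ ≤ M → IsPGroup q Q₀ → M ≤ Subgroup.normalizer (Q₀ : Set G) →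
        Q₀ ≤ Q₁ := by
  letI := conjMulDistribMulAction P M hPM
  have hcard : ¬ p ∣ Nat.card (Sylow q M) := by
    intro h
    apply hM
    exact h.trans (((default : Sylow q M).card_dvd_index).trans (Subgroup.index_dvd_card _))
  obtain ⟨S, hS⟩ := hP.nonempty_fixed_point_of_prime_not_dvd_card (Sylow q M) hcard
  refine ⟨(S : Subgroup M).map M.subtype, Subgroup.map_subtype_le _, S.2.map _, ?_, ?_, ?_⟩
  · rw [← S.card_eq_multiplicity]
    exact (Nat.card_congr (Subgroup.equivMapOfInjective _ _ M.subtype_injective).toEquiv).symm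
  · apply le_normalizer_of_forall_conj_mem
    intro u hu x hx
    obtain ⟨m, hm, rfl⟩ := Subgroup.mem_map.1 hx
    have h1 : (⟨u, hu⟩ : P) • S = S := hS ⟨u, hu⟩
    have h2 : (⟨u, hu⟩ : P) • m ∈ (⟨u, hu⟩ : P) • (S : Subgroup M) :=
      Subgroup.smul_mem_pointwise_smul m _ _ hm
    have h3 : (⟨u, hu⟩ : P) • m ∈ ((⟨u, hu⟩ : P) • S : Sylow q M) := h2
    rw [h1] at h3
    exact Subgroup.mem_map.2 ⟨_, h3, rfl⟩
  · intro Q₀ hQ₀M hQ₀ hMQ₀
    haveI : (Q₀.subgroupOf M).Normal :=
      (Subgroup.normal_subgroupOf_iff_le_normalizer hQ₀M).2 hMQ₀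
    have h1 := normal_pGroup_le_sylow (Q₀.subgroupOf M)
      (hQ₀.comap_of_injective M.subtype M.subtype_injective) S
    intro x hx
    exact Subgroup.mem_map.2 ⟨⟨x, hQ₀M hx⟩, h1 (Subgroup.mem_subgroupOf.2 hx), rfl⟩

/-- Coprime action: for a `p`-subgroup `P` and a normal `p'`-subgroup `K`, the `q`-parts of
`|K|` and `|C_K(P)|` are congruent modulo `p`. -/
theorem coprime_action_factorization {G : Type*} [Group G] [Finite G] (p q : ℕ) [Fact p.Prime]
    [Fact q.Prime] (P K : Subgroup G) [K.Normal] (hP : IsPGroup p P) (hK : ¬ p ∣ Nat.card K) :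
    q ^ (Nat.card K).factorization q ≡
      q ^ (Nat.card (K ⊓ Subgroup.centralizer (P : Set G) : Subgroup G)).factorization q
        [MOD p] := by
  classical
  have hqp : q.Prime := Fact.out
  -- a Sylow `q`-subgroup of the centralizer
  obtain ⟨R, hRC, hRq, hRcard⟩ : ∃ R : Subgroup G,
      R ≤ K ⊓ Subgroup.centralizer (P : Set G) ∧ IsPGroup q R ∧
      Nat.card R = q ^ (Nat.card (K ⊓ Subgroup.centralizer (P : Set G) : Subgroup G)).factorization q := by
    let R' : Sylow q (K ⊓ Subgroup.centralizer (P : Set G) : Subgroup G) := default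
    refine ⟨(R' : Subgroup _).map (Subgroup.subtype _), Subgroup.map_subtype_le _, R'.2.map _, ?_⟩
    rw [← R'.card_eq_multiplicity]
    exact (Nat.card_congr (Subgroup.equivMapOfInjective _ _
      (Subgroup.subtype_injective _)).toEquiv).symm
  have hcomm : ∀ u ∈ P, ∀ x ∈ Subgroup.centralizer (P : Set G), u * x * u⁻¹ = x := by
    intro u hu x hx
    rw [Subgroup.mem_centralizer_iff] at hx
    rw [hx u hu, mul_inv_cancel_right]
  have hRP : P ≤ Subgroup.normalizer (R : Set G) := by
    apply le_normalizer_of_forall_conj_mem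
    intro u hu x hx
    rw [hcomm u hu x (hRC hx).2]
    exact hx
  -- a maximal `P`-invariant `q`-subgroup of `K` containing `R`
  obtain ⟨Q, hQS, hQmax⟩ := Set.Finite.exists_maximalFor (fun Q : Subgroup G => Nat.card Q)
    {Q : Subgroup G | Q ≤ K ∧ IsPGroup q Q ∧ R ≤ Q ∧ P ≤ Subgroup.normalizer (Q : Set G)}
    (Set.toFinite _) ⟨R, hRC.trans inf_le_left, hRq, le_rfl, hRP⟩
  obtain ⟨hQK, hQq, hRQ, hPQ⟩ := hQS
  obtain ⟨j, hj⟩ := IsPGroup.iff_card.1 hQq
  have hjK : q ^ j ∣ Nat.card K := hj ▸ Subgroup.card_dvd_of_le hQK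
  have hQcard : Nat.card Q = q ^ (Nat.card K).factorization q := by
    rw [hj]
    congr 1
    by_contra hne
    have hjle : j ≤ (Nat.card K).factorization q :=
      (hqp.pow_dvd_iff_le_factorization Nat.card_pos.ne').1 hjK
    have hjlt : j + 1 ≤ (Nat.card K).factorization q := by omega
    have hdvd : q ^ (j + 1) ∣ Nat.card K :=
      (hqp.pow_dvd_iff_le_factorization Nat.card_pos.ne').2 hjlt
    -- the normalizer grows
    have hH : Nat.card (Q.subgroupOf K) = q ^ j := by
      rw [← hj]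
      exact Nat.card_congr (Subgroup.subgroupOfEquivOfLe hQK).toEquiv
    have h1 := Sylow.prime_dvd_card_quotient_normalizer hdvd hH
    have h2 := Subgroup.card_eq_card_quotient_mul_card_subgroup
      ((Q.subgroupOf K).comap (Subgroup.normalizer ((Q.subgroupOf K : Subgroup K) : Set K)).subtype)
    have h3 : Nat.card ((Q.subgroupOf K).comap
        (Subgroup.normalizer ((Q.subgroupOf K : Subgroup K) : Set K)).subtype) = q ^ j := by
      rw [← hH]
      exact Nat.card_congr (Subgroup.subgroupOfEquivOfLe Subgroup.le_normalizer).toEquiv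
    have h4 : q ^ (j + 1) ∣
        Nat.card (Subgroup.normalizer ((Q.subgroupOf K : Subgroup K) : Set K)) := by
      rw [h2, h3, pow_succ, mul_comm (q ^ j) q]
      exact Nat.mul_dvd_mul_right h1 _
    have h5 : Nat.card (Subgroup.normalizer ((Q.subgroupOf K : Subgroup K) : Set K)) =
        Nat.card (Subgroup.normalizer (Q : Set G) ⊓ K : Subgroup G) := by
      rw [← Subgroup.subgroupOf_normalizer_eq hQK, ← Subgroup.inf_subgroupOf_right]
      exact Nat.card_congr (Subgroup.subgroupOfEquivOfLe inf_le_right).toEquiv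
    rw [h5] at h4
    -- an invariant Sylow subgroup of the normalizer
    have hPM : P ≤ Subgroup.normalizer ((Subgroup.normalizer (Q : Set G) ⊓ K : Subgroup G) : Set G) := by
      apply le_normalizer_of_forall_conj_mem
      intro u hu x hx
      rw [Subgroup.mem_inf] at hx ⊢
      exact ⟨Subgroup.mul_mem _ (Subgroup.mul_mem _ (hPQ hu) hx.1) (Subgroup.inv_mem _ (hPQ hu)),
        Subgroup.Normal.conj_mem inferInstance x hx.2 u⟩
    have hMp : ¬ p ∣ Nat.card (Subgroup.normalizer (Q : Set G) ⊓ K : Subgroup G) :=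
      fun h => hK (h.trans (Subgroup.card_dvd_of_le inf_le_right))
    obtain ⟨Q₁, hQ₁M, hQ₁q, hQ₁card, hPQ₁, hQ₁max⟩ := exists_invariant_sylow p q P _ hP hPM hMp
    have hQQ₁ : Q ≤ Q₁ := hQ₁max Q (le_inf Subgroup.le_normalizer hQK) hQq inf_le_left
    have h6 := hQmax ⟨hQ₁M.trans inf_le_right, hQ₁q, hRQ.trans hQQ₁, hPQ₁⟩
      (Subgroup.card_le_of_le hQQ₁)
    have h7 : j + 1 ≤ (Nat.card (Subgroup.normalizer (Q : Set G) ⊓ K : Subgroup G)).factorization q :=
      (hqp.pow_dvd_iff_le_factorization Nat.card_pos.ne').1 h4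
    have h8 : q ^ (Nat.card (Subgroup.normalizer (Q : Set G) ⊓ K : Subgroup G)).factorization q ≤
        q ^ j := by
      have h9 : Nat.card Q₁ ≤ Nat.card Q := h6
      rwa [hQ₁card, hj] at h9
    have h10 := (Nat.pow_le_pow_iff_right hqp.one_lt).1 h8
    omega
  -- the fixed points
  have hF : Nat.card (Q ⊓ Subgroup.centralizer (P : Set G) : Subgroup G) =
      q ^ (Nat.card (K ⊓ Subgroup.centralizer (P : Set G) : Subgroup G)).factorization q := by
    have hFq : IsPGroup q (Q ⊓ Subgroup.centralizer (P : Set G) : Subgroup G) := hQq.to_le inf_le_left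
    obtain ⟨i, hi⟩ := IsPGroup.iff_card.1 hFq
    have h1 : q ^ i ∣ Nat.card (K ⊓ Subgroup.centralizer (P : Set G) : Subgroup G) :=
      hi ▸ Subgroup.card_dvd_of_le (inf_le_inf_right _ hQK)
    have h2 : i ≤ (Nat.card (K ⊓ Subgroup.centralizer (P : Set G) : Subgroup G)).factorization q :=
      (hqp.pow_dvd_iff_le_factorization Nat.card_pos.ne').1 h1
    have h3 : Nat.card R ∣ Nat.card (Q ⊓ Subgroup.centralizer (P : Set G) : Subgroup G) :=
      Subgroup.card_dvd_of_le (le_inf hRQ (hRC.trans inf_le_right))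
    rw [hRcard, hi] at h3
    have h4 := (Nat.pow_dvd_pow_iff_le_right hqp.one_lt).1 h3
    rw [hi]
    congr 1
    omega
  letI := conjMulDistribMulAction P Q hPQ
  have hfix := hP.card_modEq_card_fixedPoints Q
  have hfixcard : Nat.card (MulAction.fixedPoints P Q) =
      Nat.card (Q ⊓ Subgroup.centralizer (P : Set G) : Subgroup G) := by
    apply Nat.card_congr
    refine ⟨fun x => ⟨x.1.1, x.1.2, ?_⟩, fun y => ⟨⟨y.1, y.2.1⟩, ?_⟩, ?_, ?_⟩
    · show (x.1 : G) ∈ Subgroup.centralizer (P : Set G)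
      rw [Subgroup.mem_centralizer_iff]
      intro u hu
      have h1 : (⟨u, hu⟩ : P) • x.1 = x.1 := x.2 ⟨u, hu⟩
      have h2 : u * (x.1 : G) * u⁻¹ = (x.1 : G) := congrArg Subtype.val h1
      calc u * (x.1 : G) = (u * (x.1 : G) * u⁻¹) * u := by group
        _ = (x.1 : G) * u := by rw [h2]
    · intro u
      apply Subtype.ext
      show (u : G) * y.1 * (u : G)⁻¹ = y.1
      exact hcomm u u.2 y.1 y.2.2
    · intro x
      rfl
    · intro y
      rfl
  rw [hfixcard, hQcard, hF] at hfix
  exact hfix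

/-- If `G = K P` with `K` a normal `p'`-subgroup and `P` a Sylow `p`-subgroup, then every
prime-power part of the number of Sylow `p`-subgroups is `≡ 1` modulo `p`. -/
theorem pow_factorization_card_sylow_modEq_one {G : Type*} [Group G] [Finite G] (p : ℕ)
    [Fact p.Prime] (K : Subgroup G) [K.Normal] (P : Sylow p G)
    (hPK : (P : Subgroup G) ⊔ K = ⊤) (hK : ¬ p ∣ Nat.card K) (q : ℕ) (hq : q.Prime) :
    q ^ (Nat.card (Sylow p G)).factorization q ≡ 1 [MOD p] := by
  have hpp : p.Prime := Fact.out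
  haveI := Fact.mk hq
  have hsup : Subgroup.normalizer ((P : Subgroup G) : Set G) ⊔ K = ⊤ := by
    rw [eq_top_iff, ← hPK]
    exact sup_le_sup_right Subgroup.le_normalizer K
  have h1 := relIndex_sup_eq_relIndex_of_le_normalizer
    (Subgroup.normalizer ((P : Subgroup G) : Set G)) K Subgroup.le_normalizer_of_normal
  rw [hsup, Subgroup.relIndex_top_right] at h1
  have h2 : (Subgroup.normalizer ((P : Subgroup G) : Set G)).relIndex K *
      Nat.card (Subgroup.normalizer ((P : Subgroup G) : Set G) ⊓ K : Subgroup G) = Nat.card K := by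
    have h3 := Subgroup.card_mul_index
      ((Subgroup.normalizer ((P : Subgroup G) : Set G)).subgroupOf K)
    have h4 : Nat.card ((Subgroup.normalizer ((P : Subgroup G) : Set G)).subgroupOf K) =
        Nat.card (Subgroup.normalizer ((P : Subgroup G) : Set G) ⊓ K : Subgroup G) := by
      rw [← Subgroup.inf_subgroupOf_right]
      exact Nat.card_congr (Subgroup.subgroupOfEquivOfLe inf_le_right).toEquiv
    rw [h4, mul_comm] at h3
    exact h3
  have hPKbot : (P : Subgroup G) ⊓ K = ⊥ := by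
    have h3 : IsPGroup p ((P : Subgroup G) ⊓ K : Subgroup G) := P.2.to_le inf_le_left
    obtain ⟨i, hi⟩ := IsPGroup.iff_card.1 h3
    have h4 : p ^ i ∣ Nat.card K := hi ▸ Subgroup.card_dvd_of_le inf_le_right
    have h5 : i = 0 := by
      by_contra h0
      exact hK ((dvd_pow_self p h0).trans h4)
    rw [h5, pow_zero] at hi
    exact Subgroup.card_eq_one.1 hi
  have hNC : Subgroup.normalizer ((P : Subgroup G) : Set G) ⊓ K =
      K ⊓ Subgroup.centralizer ((P : Subgroup G) : Set G) := by
    apply le_antisymm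
    · intro k hk
      rw [Subgroup.mem_inf] at hk ⊢
      refine ⟨hk.2, ?_⟩
      rw [Subgroup.mem_centralizer_iff]
      intro u hu
      have h3 : k * u * k⁻¹ ∈ (P : Subgroup G) := (Subgroup.mem_normalizer_iff.1 hk.1 u).1 hu
      have h4 : k * u * k⁻¹ * u⁻¹ ∈ (P : Subgroup G) ⊓ K := by
        rw [Subgroup.mem_inf]
        refine ⟨Subgroup.mul_mem _ h3 (Subgroup.inv_mem _ hu), ?_⟩
        have h5 : u * k⁻¹ * u⁻¹ ∈ K :=
          Subgroup.Normal.conj_mem inferInstance _ (Subgroup.inv_mem _ hk.2) u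
        have e : k * u * k⁻¹ * u⁻¹ = k * (u * k⁻¹ * u⁻¹) := by group
        rw [e]
        exact Subgroup.mul_mem _ hk.2 h5
      rw [hPKbot, Subgroup.mem_bot] at h4
      have e : u * k = (k * u * k⁻¹ * u⁻¹)⁻¹ * (k * u) := by group
      rw [e, h4, inv_one, one_mul]
    · exact le_inf (inf_le_right.trans (Subgroup.centralizer_le_normalizer _)) inf_le_left
  rw [hNC, ← h1] at h2
  replace h2 : Nat.card (Sylow p G) *
      Nat.card (K ⊓ Subgroup.centralizer ((P : Subgroup G) : Set G) : Subgroup G) = Nat.card K := by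
    rw [P.card_eq_index_normalizer]
    exact h2
  have hne1 : Nat.card (Sylow p G) ≠ 0 := Nat.card_pos.ne'
  have hne2 : Nat.card (K ⊓ Subgroup.centralizer ((P : Subgroup G) : Set G) : Subgroup G) ≠ 0 :=
    Nat.card_pos.ne'
  have hCA := coprime_action_factorization p q (P : Subgroup G) K P.2 hK
  rw [← h2, Nat.factorization_mul hne1 hne2, Finsupp.add_apply, pow_add] at hCA
  have hcop : Nat.gcd p (q ^ (Nat.card (K ⊓ Subgroup.centralizer ((P : Subgroup G) : Set G) :
      Subgroup G)).factorization q) = 1 := by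
    have h3 : Nat.Coprime p (Nat.card K) := (Nat.Prime.coprime_iff_not_dvd hpp).2 hK
    apply Nat.Coprime.coprime_dvd_right _ h3
    exact (Nat.ordProj_dvd _ _).trans (Subgroup.card_dvd_of_le inf_le_left)
  have hCA' : q ^ (Nat.card (Sylow p G)).factorization q *
      q ^ (Nat.card (K ⊓ Subgroup.centralizer ((P : Subgroup G) : Set G) : Subgroup G)).factorization q ≡
      1 * q ^ (Nat.card (K ⊓ Subgroup.centralizer ((P : Subgroup G) : Set G) : Subgroup G)).factorization q
        [MOD p] := by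
    rw [one_mul]
    exact hCA
  exact Nat.ModEq.cancel_right_of_coprime hcop hCA'

end Cfsg.Agent.Helper7
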