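import Mathlib
import Cfsg.Prelude.Def_Solvable
import Cfsg.Agent.Lead.Fitting
import Cfsg.Agent.Helper3.Cores
import Cfsg.Agent.Helper7.OddNormCent
import Cfsg.Agent.Helper7.CoprimeAct

set_option autoImplicit false

universe u

namespace Cfsg.Agent.Helper7

open Cfsg

/-- The Engel sequence `x, [x, g], [x, g, g], …` with `[a, b] = a b a⁻¹ b⁻¹`. -/
def engelSeq {G : Type u} [Group G] (g x : G) : ℕ → G
  | 0 => x
  | n + 1 => engelSeq g x n * g * (engelSeq g x n)⁻¹ * g⁻¹

theorem foldl_replicate_engel {G : Type u} [Group G] (g x : G) (n : ℕ) :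
    (List.replicate n g).foldl (fun a b => a * b * a⁻¹ * b⁻¹) x = engelSeq g x n := by
  induction n with
  | zero => rfl
  | succ n ih =>
    rw [List.replicate_succ', List.foldl_append, ih]
    rfl

/-- The Fitting subgroup of a subgroup, as a subgroup of the ambient group. -/
def fitIn {G : Type u} [Group G] (H : Subgroup G) : Subgroup G :=
  (fittingSubgroup ↥H).map H.subtype

theorem fitIn_le {G : Type u} [Group G] (H : Subgroup G) : fitIn H ≤ H :=
  Subgroup.map_subtype_le _

theorem fitIn_isNilpotent {G : Type u} [Group G] [Finite G] (H : Subgroup G) :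
    Group.IsNilpotent (fitIn H) := by
  haveI := Lead.fitting_isNilpotent (G := ↥H)
  exact Group.nilpotent_of_mulEquiv
    ((fittingSubgroup ↥H).equivMapOfInjective H.subtype H.subtype_injective)

theorem le_normalizer_fitIn {G : Type u} [Group G] (H : Subgroup G) :
    H ≤ Subgroup.normalizer (fitIn H : Set G) := by
  apply le_normalizer_of_forall_conj_mem
  intro h hh r hr
  obtain ⟨r', hr', rfl⟩ := Subgroup.mem_map.1 hr
  exact Subgroup.mem_map.2 ⟨⟨h, hh⟩ * r' * ⟨h, hh⟩⁻¹,
    (Helper3.fitting_normal ↥H).conj_mem r' hr' ⟨h, hh⟩, rfl⟩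

theorem le_fitIn {G : Type u} [Group G] (H R : Subgroup G) (hRH : R ≤ H)
    (hn : H ≤ Subgroup.normalizer (R : Set G)) (hR : Group.IsNilpotent R) : R ≤ fitIn H := by
  haveI : (R.subgroupOf H).Normal := Subgroup.normal_subgroupOf_of_le_normalizer hn
  have hnil : Group.IsNilpotent (R.subgroupOf H) := by
    haveI := hR
    exact Group.nilpotent_of_mulEquiv (Subgroup.subgroupOfEquivOfLe hRH).symm
  have h1 : R.subgroupOf H ≤ fittingSubgroup ↥H := le_sSup ⟨inferInstance, hnil⟩
  intro r hr
  exact Subgroup.mem_map.2 ⟨⟨r, hRH hr⟩, h1 (Subgroup.mem_subgroupOf.2 hr), rfl⟩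

theorem fitIn_top {G : Type u} [Group G] [Finite G] :
    fitIn (⊤ : Subgroup G) = fittingSubgroup G := by
  apply le_antisymm
  · haveI : (fitIn (⊤ : Subgroup G)).Normal :=
      Subgroup.normalizer_eq_top_iff.1 (top_le_iff.1 (le_normalizer_fitIn ⊤))
    exact le_sSup ⟨inferInstance, fitIn_isNilpotent ⊤⟩
  · apply le_fitIn _ _ le_top
    · haveI := Helper3.fitting_normal G
      rw [Subgroup.normalizer_eq_top]
    · exact Lead.fitting_isNilpotent

theorem map_conj_le_fitIn {G : Type u} [Group G] [Finite G] (S H : Subgroup G) (x : G)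
    (h : S ≤ fitIn H) :
    S.map (MulAut.conj x).toMonoidHom ≤ fitIn (H.map (MulAut.conj x).toMonoidHom) := by
  refine (Subgroup.map_mono h).trans ?_
  apply le_fitIn
  · exact Subgroup.map_mono (fitIn_le H)
  · apply le_normalizer_of_forall_conj_mem
    intro u hu r hr
    obtain ⟨h', hh', rfl⟩ := Subgroup.mem_map.1 hu
    obtain ⟨r', hr', rfl⟩ := Subgroup.mem_map.1 hr
    refine Subgroup.mem_map.2 ⟨h' * r' * h'⁻¹,
      (Subgroup.mem_normalizer_iff.1 (le_normalizer_fitIn H hh') r').1 hr', ?_⟩
    simp only [MulEquiv.coe_toMonoidHom, MulAut.conj_apply]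
    group
  · haveI := fitIn_isNilpotent H
    exact Group.nilpotent_of_mulEquiv
      ((fitIn H).equivMapOfInjective _ (MulAut.conj x).injective)

/-- A zipper lemma for the Fitting subgroup: if `S` lies in the Fitting subgroup of every
proper subgroup containing it, but not in `F(G)`, then at most one maximal subgroup
contains `S`. -/
theorem zipper_fit {G : Type u} [Group G] [Finite G] : ∀ k : ℕ, ∀ S : Subgroup G,
    Nat.card G - Nat.card S = k →
    (∀ H : Subgroup G, H ≠ ⊤ → S ≤ H → S ≤ fitIn H) → ¬ S ≤ fittingSubgroup G →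
    ∀ M K : Subgroup G, IsCoatom M → IsCoatom K → S ≤ M → S ≤ K → M = K := by
  intro k
  induction k using Nat.strong_induction_on with
  | _ k ih =>
  intro S hk hS hSF M K hM hK hSM hSK
  have hSnil : Group.IsNilpotent S := by
    have h1 := hS M hM.1 hSM
    haveI := fitIn_isNilpotent M
    exact Group.nilpotent_of_mulEquiv (Subgroup.subgroupOfEquivOfLe h1)
  have hNS : Subgroup.normalizer (S : Set G) ≠ ⊤ := by
    intro h
    apply hSF
    haveI : S.Normal := Subgroup.normalizer_eq_top_iff.1 h
    exact le_sSup ⟨inferInstance, hSnil⟩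
  obtain ⟨M₀, hM₀, hNM₀⟩ :=
    (eq_top_or_exists_le_coatom (Subgroup.normalizer (S : Set G))).resolve_left hNS
  have key : ∀ K : Subgroup G, IsCoatom K → S ≤ K → K = M₀ := by
    intro K hK hSK
    by_cases hKn : K ≤ Subgroup.normalizer (S : Set G)
    · rcases hK.le_iff.1 (hKn.trans hNM₀) with h | h
      · exact absurd h hM₀.1
      · exact h.symm
    · have hSR : S ≤ fitIn K := hS K hK.1 hSK
      obtain ⟨x, hxK, hxS, hS'N, hS'R⟩ : ∃ x : G, x ∈ K ∧
          x ∉ Subgroup.normalizer (S : Set G) ∧
          S.map (MulAut.conj x).toMonoidHom ≤ Subgroup.normalizer (S : Set G) ∧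
          S.map (MulAut.conj x).toMonoidHom ≤ fitIn K := by
        by_cases hRn : fitIn K ≤ Subgroup.normalizer (S : Set G)
        · obtain ⟨x, hxK, hxN⟩ := SetLike.not_le_iff_exists.1 hKn
          have h1 : S.map (MulAut.conj x).toMonoidHom ≤ fitIn K := by
            rintro _ ⟨s, hs, rfl⟩
            exact (Subgroup.mem_normalizer_iff.1 (le_normalizer_fitIn K hxK) s).1 (hSR hs)
          exact ⟨x, hxK, hxN, h1.trans hRn, h1⟩
        · haveI := fitIn_isNilpotent K
          have hnc := Group.normalizerCondition_of_isNilpotent (G := ↥(fitIn K))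
            ((Subgroup.normalizer (S : Set G) ⊓ fitIn K).subgroupOf (fitIn K)) (by
              rw [lt_top_iff_ne_top, Ne, Subgroup.subgroupOf_eq_top]
              intro h
              exact hRn (fun r hr => (h hr).1))
          obtain ⟨y, hy1, hy2⟩ := SetLike.exists_of_lt hnc
          refine ⟨y.1, fitIn_le K y.2, ?_, ?_, ?_⟩
          · intro h
            exact hy2 (Subgroup.mem_subgroupOf.2 ⟨h, y.2⟩)
          · rintro _ ⟨s, hs, rfl⟩
            have hs1 : (⟨s, hSR hs⟩ : ↥(fitIn K)) ∈
                (Subgroup.normalizer (S : Set G) ⊓ fitIn K).subgroupOf (fitIn K) :=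
              Subgroup.mem_subgroupOf.2 ⟨Subgroup.le_normalizer hs, hSR hs⟩
            have h2 := (Subgroup.mem_normalizer_iff.1 hy1 ⟨s, hSR hs⟩).1 hs1
            exact (Subgroup.mem_subgroupOf.1 h2).1
          · rintro _ ⟨s, hs, rfl⟩
            exact Subgroup.mul_mem _ (Subgroup.mul_mem _ y.2 (hSR hs)) (Subgroup.inv_mem _ y.2)
      have hS'ne : ¬ S.map (MulAut.conj x).toMonoidHom ≤ S := by
        intro h
        apply hxS
        apply mem_normalizer_of_forall_conj_mem
        intro s hs
        exact h (Subgroup.mem_map.2 ⟨s, hs, rfl⟩)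
      have hT_lt : Nat.card S < Nat.card (S ⊔ S.map (MulAut.conj x).toMonoidHom : Subgroup G) := by
        by_contra hle
        push Not at hle
        have h1 : S = S ⊔ S.map (MulAut.conj x).toMonoidHom :=
          Subgroup.eq_of_le_of_card_ge le_sup_left hle
        apply hS'ne
        have h2 : S.map (MulAut.conj x).toMonoidHom ≤ S ⊔ S.map (MulAut.conj x).toMonoidHom :=
          le_sup_right
        rw [← h1] at h2
        exact h2
      have hTk : Nat.card G - Nat.card (S ⊔ S.map (MulAut.conj x).toMonoidHom : Subgroup G) < k := by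
        have := Subgroup.card_le_card_group (S ⊔ S.map (MulAut.conj x).toMonoidHom)
        omega
      have hT1 : ∀ H : Subgroup G, H ≠ ⊤ → S ⊔ S.map (MulAut.conj x).toMonoidHom ≤ H →
          S ⊔ S.map (MulAut.conj x).toMonoidHom ≤ fitIn H := by
        intro H hH hTH
        have h1 : S ≤ fitIn H := hS H hH (le_sup_left.trans hTH)
        have h2 : S.map (MulAut.conj x).toMonoidHom ≤ fitIn H := by
          have hH'top : H.map (MulAut.conj x⁻¹).toMonoidHom ≠ ⊤ := by
            intro h
            apply hH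
            apply Subgroup.eq_top_of_card_eq
            have hc : Nat.card (H.map (MulAut.conj x⁻¹).toMonoidHom) = Nat.card H :=
              Subgroup.card_map_of_injective (MulAut.conj x⁻¹).injective
            rw [← hc, h, Subgroup.card_top]
          have hSH' : S ≤ H.map (MulAut.conj x⁻¹).toMonoidHom := by
            intro s hs
            refine Subgroup.mem_map.2 ⟨x * s * x⁻¹,
              le_sup_right.trans hTH (Subgroup.mem_map.2 ⟨s, hs, rfl⟩), ?_⟩
            simp only [MulEquiv.coe_toMonoidHom, MulAut.conj_apply]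
            group
          have h3 := map_conj_le_fitIn S _ x (hS _ hH'top hSH')
          have e : (H.map (MulAut.conj x⁻¹).toMonoidHom).map (MulAut.conj x).toMonoidHom = H := by
            ext z
            constructor
            · rintro ⟨_, ⟨h', hh', rfl⟩, rfl⟩
              have e' : (MulAut.conj x).toMonoidHom ((MulAut.conj x⁻¹).toMonoidHom h') = h' := by
                simp only [MulEquiv.coe_toMonoidHom, MulAut.conj_apply]
                group
              rw [e']
              exact hh'
            · intro hz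
              refine ⟨(MulAut.conj x⁻¹).toMonoidHom z, ⟨z, hz, rfl⟩, ?_⟩
              simp only [MulEquiv.coe_toMonoidHom, MulAut.conj_apply]
              group
          rw [e] at h3
          exact h3
        exact sup_le h1 h2
      have hT2 : ¬ S ⊔ S.map (MulAut.conj x).toMonoidHom ≤ fittingSubgroup G :=
        fun h => hSF (le_sup_left.trans h)
      have hTM₀ : S ⊔ S.map (MulAut.conj x).toMonoidHom ≤ M₀ :=
        sup_le (Subgroup.le_normalizer.trans hNM₀) (hS'N.trans hNM₀)
      have hTK : S ⊔ S.map (MulAut.conj x).toMonoidHom ≤ K :=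
        sup_le hSK (hS'R.trans (fitIn_le K))
      exact ih _ (hk ▸ hTk) (S ⊔ S.map (MulAut.conj x).toMonoidHom) rfl hT1 hT2 K M₀ hK hM₀
        hTK hTM₀
  rw [key M hM hSM, key K hK hSK]

theorem engelSeq_coe {G : Type u} [Group G] (H : Subgroup G) (g x : H) (n : ℕ) :
    ((engelSeq g x n : H) : G) = engelSeq (g : G) (x : G) n := by
  induction n with
  | zero => rfl
  | succ n ih =>
    show ((engelSeq g x n * g * (engelSeq g x n)⁻¹ * g⁻¹ : H) : G) =
      engelSeq (g : G) (x : G) n * g * (engelSeq (g : G) (x : G) n)⁻¹ * (g : G)⁻¹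
    rw [← ih]
    rfl

/-- Elements of the Fitting subgroup are left Engel elements. -/
theorem engel_of_mem_fitting {G : Type u} [Group G] [Finite G] (g : G)
    (hg : g ∈ fittingSubgroup G) (x : G) : ∃ m : ℕ, engelSeq g x m = 1 := by
  haveI := Helper3.fitting_normal G
  obtain ⟨n, hn⟩ := (Subgroup.isNilpotent_iff_lowerCentralSeries (fittingSubgroup G)).1
    Lead.fitting_isNilpotent
  have h : ∀ k : ℕ, engelSeq g x (k + 1) ∈ (fittingSubgroup G).lowerCentralSeries k := by
    intro k
    induction k with
    | zero =>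
      show engelSeq g x 0 * g * (engelSeq g x 0)⁻¹ * g⁻¹ ∈ fittingSubgroup G
      exact Subgroup.mul_mem _
        ((inferInstance : (fittingSubgroup G).Normal).conj_mem g hg _) (Subgroup.inv_mem _ hg)
    | succ k ihk =>
      show engelSeq g x (k + 1) * g * (engelSeq g x (k + 1))⁻¹ * g⁻¹ ∈
        ⁅(fittingSubgroup G).lowerCentralSeries k, fittingSubgroup G⁆
      exact Subgroup.commutator_mem_commutator ihk hg
  refine ⟨n + 1, ?_⟩
  have := h n
  rw [hn, Subgroup.mem_bot] at this
  exact this

/-- Baer: left Engel elements of a finite group lie in the Fitting subgroup. -/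
theorem engel_mem_fitting : ∀ n : ℕ, ∀ (G : Type u) [Group G] [Finite G], Nat.card G = n →
    ∀ g : G, (∀ x : G, ∃ m : ℕ, engelSeq g x m = 1) → g ∈ fittingSubgroup G := by
  intro n
  induction n using Nat.strong_induction_on with
  | _ n ih =>
  intro G _ _ hn g hg
  by_contra hgF
  have hgS : g ∈ Subgroup.zpowers g := Subgroup.mem_zpowers g
  have hS1 : ∀ H : Subgroup G, H ≠ ⊤ → Subgroup.zpowers g ≤ H → Subgroup.zpowers g ≤ fitIn H := by
    intro H hH hSH
    have hgH : g ∈ H := hSH hgS
    have hlt : Nat.card H < n := by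
      rw [← hn]
      by_contra hle
      push Not at hle
      exact hH (Subgroup.eq_top_of_card_eq H (le_antisymm (Subgroup.card_le_card_group H) hle))
    have h1 : (⟨g, hgH⟩ : H) ∈ fittingSubgroup ↥H := by
      apply ih (Nat.card H) hlt ↥H rfl
      intro x
      obtain ⟨m, hm⟩ := hg x.1
      refine ⟨m, Subtype.ext ?_⟩
      rw [engelSeq_coe]
      exact hm
    rw [Subgroup.zpowers_le]
    exact Subgroup.mem_map.2 ⟨⟨g, hgH⟩, h1, rfl⟩
  have hS2 : ¬ Subgroup.zpowers g ≤ fittingSubgroup G := fun h => hgF (h hgS)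
  have hStop : Subgroup.zpowers g ≠ ⊤ := by
    intro h
    apply hS2
    rw [← fitIn_top]
    apply le_fitIn _ _ le_top
    · rw [h]
      exact Subgroup.le_normalizer
    · letI : CommGroup (Subgroup.zpowers g) := IsCyclic.commGroup
      infer_instance
  obtain ⟨M, hM, hSM⟩ := (eq_top_or_exists_le_coatom (Subgroup.zpowers g)).resolve_left hStop
  have hgM : g ∈ M := hSM hgS
  have huniqM : ∀ K : Subgroup G, IsCoatom K → Subgroup.zpowers g ≤ K → K = M :=
    fun K hK hSK => zipper_fit _ (Subgroup.zpowers g) rfl hS1 hS2 K M hK hM hSK hSM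
  have hprop : ∀ H : Subgroup G, H ≠ ⊤ → g ∈ H → H ≤ M := by
    intro H hH hgH
    obtain ⟨K, hK, hHK⟩ := (eq_top_or_exists_le_coatom H).resolve_left hH
    have h1 : Subgroup.zpowers g ≤ K := (Subgroup.zpowers_le.2 hgH).trans hHK
    rw [← huniqM K hK h1]
    exact hHK
  have hNM : Subgroup.normalizer (M : Set G) = M := by
    rcases hM.le_iff.1 (Subgroup.le_normalizer (H := M)) with h | h
    · exfalso
      apply hgF
      have hgR : g ∈ fitIn M := hS1 M hM.1 hSM hgS
      have hMn : ∀ (y m : G), m ∈ M → y * m * y⁻¹ ∈ M := by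
        intro y m hm
        have hy : y ∈ Subgroup.normalizer (M : Set G) := by rw [h]; exact Subgroup.mem_top y
        exact (Subgroup.mem_normalizer_iff.1 hy m).1 hm
      have hRy : ∀ y : G, (fitIn M).map (MulAut.conj y).toMonoidHom ≤ fitIn M := by
        intro y
        apply le_fitIn
        · rintro _ ⟨r, hr, rfl⟩
          exact hMn y r (fitIn_le M hr)
        · apply le_normalizer_of_forall_conj_mem
          intro m hm r' hr'
          obtain ⟨r, hr, rfl⟩ := Subgroup.mem_map.1 hr'
          have h1 : y⁻¹ * m * y ∈ M := by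
            have := hMn y⁻¹ m hm
            rwa [inv_inv] at this
          refine Subgroup.mem_map.2 ⟨(y⁻¹ * m * y) * r * (y⁻¹ * m * y)⁻¹,
            (Subgroup.mem_normalizer_iff.1 (le_normalizer_fitIn M h1) r).1 hr, ?_⟩
          simp only [MulEquiv.coe_toMonoidHom, MulAut.conj_apply]
          group
        · haveI := fitIn_isNilpotent M
          exact Group.nilpotent_of_mulEquiv
            ((fitIn M).equivMapOfInjective _ (MulAut.conj y).injective)
      haveI : (fitIn M).Normal := ⟨fun r hr y => hRy y (Subgroup.mem_map.2 ⟨r, hr, rfl⟩)⟩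
      have hle : fitIn M ≤ fittingSubgroup G := le_sSup ⟨inferInstance, fitIn_isNilpotent M⟩
      exact hle hgR
    · exact h
  have hconjM : ∀ a : G, a * g * a⁻¹ ∈ M → a ∈ M := by
    intro a ha
    have hcard : Nat.card (M.map (MulAut.conj a⁻¹).toMonoidHom) = Nat.card M :=
      Subgroup.card_map_of_injective (MulAut.conj a⁻¹).injective
    have hgM' : g ∈ M.map (MulAut.conj a⁻¹).toMonoidHom := by
      refine Subgroup.mem_map.2 ⟨a * g * a⁻¹, ha, ?_⟩
      simp only [MulEquiv.coe_toMonoidHom, MulAut.conj_apply]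
      group
    have hM'top : M.map (MulAut.conj a⁻¹).toMonoidHom ≠ ⊤ := by
      intro h
      apply hM.1
      apply Subgroup.eq_top_of_card_eq
      rw [← hcard, h, Subgroup.card_top]
    have hle : M.map (MulAut.conj a⁻¹).toMonoidHom ≤ M := hprop _ hM'top hgM'
    have hainv : a⁻¹ ∈ Subgroup.normalizer (M : Set G) := by
      apply mem_normalizer_of_forall_conj_mem
      intro y hy
      exact hle (Subgroup.mem_map.2 ⟨y, hy, rfl⟩)
    have ha' : a ∈ Subgroup.normalizer (M : Set G) := by
      have := Subgroup.inv_mem _ hainv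
      rwa [inv_inv] at this
    rw [hNM] at ha'
    exact ha'
  have hstep : ∀ x : G, ∀ m : ℕ, engelSeq g x m ∈ M → x ∈ M := by
    intro x m
    induction m with
    | zero => exact fun h => h
    | succ m ihm =>
      intro h
      apply ihm
      apply hconjM
      have h1 : engelSeq g x m * g * (engelSeq g x m)⁻¹ * g⁻¹ ∈ M := h
      have h2 := M.mul_mem h1 hgM
      rwa [inv_mul_cancel_right] at h2
  have hall : ∀ x : G, x ∈ M := by
    intro x
    obtain ⟨m, hm⟩ := hg x
    exact hstep x m (hm ▸ M.one_mem)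
  exact hM.1 (eq_top_iff.2 fun x _ => hall x)

end Cfsg.Agent.Helper7
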