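import Mathlib
import Cfsg.Prelude.Def_Solvable
import Cfsg.Agent.Lead.Fitting

set_option autoImplicit false

universe u

namespace Cfsg.Agent.Helper7

open Cfsg

/-- Equal order pairs: `N` and `F(G)` are comparable, and `N < F(G)` forces `F(G)` to be a
`p`-group. -/
theorem equal_order_fitting {G : Type u} [Group G] [Finite G] (N : Subgroup G) [hNn : N.Normal]
    (hN1 : N ≠ ⊥)
    (heq : ∀ x : G, x ∉ N → ∀ n ∈ N, orderOf (x * n) = orderOf x) :
    (N ≤ Cfsg.fittingSubgroup G ∨ Cfsg.fittingSubgroup G ≤ N) ∧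
    (N < Cfsg.fittingSubgroup G → IsPrimePow (Nat.card (Cfsg.fittingSubgroup G))) := by
  by_cases hFN : Cfsg.fittingSubgroup G ≤ N
  · exact ⟨Or.inr hFN, fun h => absurd hFN (not_le_of_gt h)⟩
  · have hFN' := hFN
    rw [Lead.fitting_eq_iSup_pCore] at hFN'
    have hex : ∃ q : Nat.Primes, ¬ Cfsg.pCore (q : ℕ) G ≤ N := by
      by_contra hcon
      push Not at hcon
      exact hFN' (iSup_le hcon)
    obtain ⟨⟨p, hp⟩, hpN⟩ := hex
    haveI : Fact p.Prime := ⟨hp⟩
    obtain ⟨x, hxO, hxN⟩ := SetLike.not_le_iff_exists.1 hpN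
    have hOn : (Cfsg.pCore p G).Normal := (Lead.pCore_normal_isPGroup p).1
    have hOp : IsPGroup p (Cfsg.pCore p G) := (Lead.pCore_normal_isPGroup p).2
    haveI := hOn
    obtain ⟨j, hj⟩ := (IsPGroup.iff_orderOf.1 hOp) ⟨x, hxO⟩
    rw [Subgroup.orderOf_mk] at hj
    -- `N` is a `p`-group
    have hNp : IsPGroup p N := by
      intro u
      have h1 : orderOf (x * (u : G)) = p ^ j := by rw [heq x hxN u u.2, hj]
      have h2 : (x * (u : G)) ^ (p ^ j) = 1 := by rw [← h1]; exact pow_orderOf_eq_one _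
      have h3 : (u : G) ^ (p ^ j) ∈ Cfsg.pCore p G := by
        rw [← QuotientGroup.eq_one_iff]
        have e1 : ((x * (u : G) : G) : G ⧸ Cfsg.pCore p G) = ((u : G) : G ⧸ Cfsg.pCore p G) := by
          rw [QuotientGroup.mk_mul, (QuotientGroup.eq_one_iff x).2 hxO, one_mul]
        rw [QuotientGroup.mk_pow, ← e1, ← QuotientGroup.mk_pow, h2]
        rfl
      obtain ⟨i, hi⟩ := hOp ⟨_, h3⟩
      refine ⟨j + i, ?_⟩
      apply Subtype.ext
      have hi' : ((u : G) ^ (p ^ j)) ^ (p ^ i) = 1 := congrArg Subtype.val hi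
      rw [Subgroup.coe_pow, pow_add, pow_mul]
      exact hi'
    have hNO : N ≤ Cfsg.pCore p G := Lead.le_pCore p hNn hNp
    have hNF : N ≤ Cfsg.fittingSubgroup G := by
      rw [Lead.fitting_eq_iSup_pCore]
      exact hNO.trans (le_iSup (fun q : Nat.Primes => Cfsg.pCore (q : ℕ) G) ⟨p, hp⟩)
    refine ⟨Or.inl hNF, fun _ => ?_⟩
    -- the other cores are trivial
    obtain ⟨n, hn, hn1⟩ : ∃ n : G, n ∈ N ∧ n ≠ 1 := by
      obtain ⟨a, ha⟩ := (Subgroup.ne_bot_iff_exists_ne_one (H := N)).1 hN1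
      exact ⟨a.1, a.2, fun h => ha (Subtype.ext h)⟩
    have hcores : ∀ q : Nat.Primes, Cfsg.pCore (q : ℕ) G ≤ Cfsg.pCore p G := by
      intro q
      by_cases hqp : (q : ℕ) = p
      · rw [hqp]
      · haveI : Fact (q : ℕ).Prime := ⟨q.2⟩
        have hQn : (Cfsg.pCore (q : ℕ) G).Normal := (Lead.pCore_normal_isPGroup (q : ℕ)).1
        have hQq : IsPGroup (q : ℕ) (Cfsg.pCore (q : ℕ) G) :=
          (Lead.pCore_normal_isPGroup (q : ℕ)).2
        have hdisj : Cfsg.pCore (q : ℕ) G ⊓ Cfsg.pCore p G = ⊥ :=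
          (IsPGroup.disjoint_of_ne (q : ℕ) p hqp _ _ hQq hOp).eq_bot
        intro y hy
        by_contra hy1
        have hy1' : y ≠ 1 := by
          intro h
          apply hy1
          rw [h]
          exact Subgroup.one_mem _
        have hyN : y ∉ N := by
          intro h
          have : y ∈ Cfsg.pCore (q : ℕ) G ⊓ Cfsg.pCore p G := ⟨hy, hNO h⟩
          rw [hdisj, Subgroup.mem_bot] at this
          exact hy1' this
        have h1 := heq y hyN n hn
        have hcomm : Commute y n := by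
          have h2 : y * n * y⁻¹ * n⁻¹ ∈ Cfsg.pCore (q : ℕ) G ⊓ Cfsg.pCore p G := by
            constructor
            · have e : y * n * y⁻¹ * n⁻¹ = y * (n * y⁻¹ * n⁻¹) := by group
              rw [e]
              exact Subgroup.mul_mem _ hy (hQn.conj_mem _ (Subgroup.inv_mem _ hy) n)
            · exact Subgroup.mul_mem _ (hOn.conj_mem _ (hNO hn) y) (Subgroup.inv_mem _ (hNO hn))
          rw [hdisj, Subgroup.mem_bot] at h2
          show y * n = n * y
          calc y * n = (y * n * y⁻¹ * n⁻¹) * (n * y) := by group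
            _ = n * y := by rw [h2, one_mul]
        have hco : (orderOf y).Coprime (orderOf n) := by
          obtain ⟨a, ha⟩ := (IsPGroup.iff_orderOf.1 hQq) ⟨y, hy⟩
          obtain ⟨b, hb⟩ := (IsPGroup.iff_orderOf.1 hOp) ⟨n, hNO hn⟩
          rw [Subgroup.orderOf_mk] at ha hb
          rw [ha, hb]
          exact Nat.Coprime.pow a b ((Nat.coprime_primes q.2 hp).2 hqp)
        rw [hcomm.orderOf_mul_eq_mul_orderOf_of_coprime hco] at h1
        have h2 : orderOf n = 1 := by
          have hpos : 0 < orderOf y := orderOf_pos y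
          have : orderOf y * orderOf n = orderOf y * 1 := by rw [h1, mul_one]
          exact Nat.eq_of_mul_eq_mul_left hpos this
        exact hn1 (orderOf_eq_one_iff.1 h2)
    have hFO : Cfsg.fittingSubgroup G ≤ Cfsg.pCore p G := by
      rw [Lead.fitting_eq_iSup_pCore]
      exact iSup_le hcores
    have hFp : IsPGroup p (Cfsg.fittingSubgroup G) := hOp.to_le hFO
    obtain ⟨k, hk⟩ := IsPGroup.iff_card.1 hFp
    rw [hk]
    have hk0 : k ≠ 0 := by
      rintro rfl
      rw [pow_zero] at hk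
      have : Cfsg.fittingSubgroup G = ⊥ := Subgroup.card_eq_one.1 hk
      apply hN1
      rw [eq_bot_iff, ← this]
      exact hNF
    exact IsPrimePow.pow hp.isPrimePow hk0

end Cfsg.Agent.Helper7
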