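import Mathlib
import Cfsg.Prelude.Def_Characters
import Cfsg.Prelude.Def_Solvable
import Cfsg.Agent.Lead.CharCore5
import Cfsg.Agent.Lead.CharCore6
import Cfsg.Agent.Lead.IndFun2
import Cfsg.Agent.Lead.CharOdd
import Cfsg.Agent.Lead.Frobenius
import Cfsg.Agent.Lead.Hall
import Cfsg.Agent.S0146
import Cfsg.Agent.S0139

set_option autoImplicit false

universe u

namespace Cfsg.Agent.Helper7

open Cfsg
open scoped ComplexConjugate Pointwise

/-- A class function with integral multiplicities, norm one and positive degree is an irreducible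
character. -/
theorem isIrrCharacter_of_int_classInner {G : Type u} [Group G] [Fintype G] (f : G → ℂ)
    (hf : IsClassFunction G f)
    (hint : ∀ χ : IrrCharacter G, ∃ z : ℤ, classInner f (χ : G → ℂ) = (z : ℂ))
    (hnorm : classInner f f = 1) (hdeg : ∃ n : ℕ, 0 < n ∧ f 1 = (n : ℂ)) :
    IsIrrCharacter G f := by
  classical
  haveI : Finite (IrrCharacter G) := Lead.finite_irrCharacter G
  haveI : Fintype (IrrCharacter G) := Fintype.ofFinite _
  choose z hz using hint
  have hexp : f = ∑ χ : IrrCharacter G, (z χ : ℂ) • (χ : G → ℂ) := by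
    have h := Lead.classFunction_eq_finsum f hf
    rw [finsum_eq_sum_of_fintype] at h
    have h2 : ∑ χ : IrrCharacter G, classInner f (χ : G → ℂ) • (χ : G → ℂ) =
        ∑ χ : IrrCharacter G, (z χ : ℂ) • (χ : G → ℂ) :=
      Finset.sum_congr rfl (fun χ _ => by rw [hz χ])
    exact h.trans h2
  have hsumC : classInner f f = ∑ χ : IrrCharacter G, (z χ : ℂ) * (z χ : ℂ) := by
    have h1 : classInner f f = classInner (∑ χ : IrrCharacter G, (z χ : ℂ) • (χ : G → ℂ)) f :=
      congrArg (fun t => classInner t f) hexp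
    rw [h1, Lead.classInner_sum_left]
    apply Finset.sum_congr rfl
    intro χ _
    rw [Lead.classInner_smul_left, ← Lead.classInner_conj_symm, hz χ]
    simp
  have hsum : ∑ χ : IrrCharacter G, (z χ) * (z χ) = 1 := by
    rw [hnorm] at hsumC
    exact_mod_cast hsumC.symm
  obtain ⟨χ₀, hχ₀⟩ : ∃ χ₀, z χ₀ ≠ 0 := by
    by_contra h
    push Not at h
    simp [h] at hsum
  have hsq : ∀ χ, z χ ≠ 0 → 1 ≤ z χ * z χ := by
    intro χ hχ
    have := Int.one_le_abs hχ
    nlinarith [abs_mul_abs_self (z χ), abs_nonneg (z χ)]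
  have hz0 : ∀ χ, χ ≠ χ₀ → z χ = 0 := by
    intro χ hχ
    by_contra hne
    have h1 := Finset.sum_le_sum_of_subset_of_nonneg (s := {χ₀, χ}) (t := Finset.univ)
      (f := fun i => z i * z i) (Finset.subset_univ _) (fun i _ _ => mul_self_nonneg (z i))
    rw [Finset.sum_pair hχ.symm, hsum] at h1
    have h2 := hsq χ hne
    have h3 := hsq χ₀ hχ₀
    linarith
  have hz1 : z χ₀ * z χ₀ = 1 := by
    rw [← hsum]
    symm
    apply Finset.sum_eq_single χ₀
    · intro χ _ hχ
      rw [hz0 χ hχ, mul_zero]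
    · intro h
      exact absurd (Finset.mem_univ χ₀) h
  have hf' : f = (z χ₀ : ℂ) • (χ₀ : G → ℂ) := by
    rw [hexp]
    apply Finset.sum_eq_single χ₀
    · intro χ _ hχ
      rw [hz0 χ hχ]
      simp
    · intro h
      exact absurd (Finset.mem_univ χ₀) h
  have hpm : z χ₀ = 1 ∨ z χ₀ = -1 := by
    have h : (z χ₀ - 1) * (z χ₀ + 1) = 0 := by ring_nf; linarith
    rcases mul_eq_zero.1 h with h | h
    · left; linarith
    · right; linarith
  rcases hpm with h1 | h1
  · rw [hf', h1]
    simp only [Int.cast_one, one_smul]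
    exact χ₀.2
  · exfalso
    obtain ⟨n, hn, hfn⟩ := hdeg
    obtain ⟨m, hm, hχm⟩ := Lead.isIrrCharacter_one_eq_nat χ₀.2
    have h2 : f 1 = -(m : ℂ) := by
      rw [hf', h1]
      simp [hχm]
    rw [hfn] at h2
    have h3 : ((n + m : ℕ) : ℂ) = 0 := by
      push_cast
      rw [h2]
      ring
    have h4 : n + m = 0 := by exact_mod_cast h3
    omega

/-- In a Frobenius complement, a conjugate of a non-identity element lies in the complement only
if the conjugating element does. -/
theorem frob_conj_mem_iff {G : Type u} [Group G] (H : Subgroup G) (hH : IsFrobeniusComplement H)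
    (h : G) (hh : h ∈ H) (h1 : h ≠ 1) (x : G) : x⁻¹ * h * x ∈ H ↔ x ∈ H := by
  constructor
  · intro hx
    by_contra hxH
    have h2 := hH.2.2 x hxH
    have h3 : h ∈ H ⊓ (MulAut.conj x • H) :=
      Subgroup.mem_inf.2 ⟨hh, Lead.mem_conj_smul_iff'.2 hx⟩
    rw [h2, Subgroup.mem_bot] at h3
    exact h1 h3
  · intro hx
    exact H.mul_mem (H.mul_mem (H.inv_mem hx) hh) hx

/-- Induction from a Frobenius complement: values on the complement. -/
theorem indFun_frob_apply {G : Type u} [Group G] [Fintype G] (H : Subgroup G)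
    (hH : IsFrobeniusComplement H) (ψ : H → ℂ) (hψ : IsClassFunction H ψ) (h : H) (h1 : h ≠ 1) :
    indFun H ψ h = ψ h := by
  classical
  haveI : Fintype H := Fintype.ofFinite H
  rw [Lead.indFun_apply]
  have hh1 : (h : G) ≠ 1 := fun e => h1 (Subtype.ext e)
  have hterm : ∀ x : G, extendByZero H ψ (x⁻¹ * (h : G) * x) =
      extendByZero H (fun _ => ψ h) x := by
    intro x
    by_cases hx : x ∈ H
    · have hmem : x⁻¹ * (h : G) * x ∈ H := (frob_conj_mem_iff H hH h h.2 hh1 x).2 hx
      rw [Lead.extendByZero_mem H _ hx, Lead.extendByZero_mem H ψ hmem]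
      have h2 := hψ h (⟨x, hx⟩ : H)⁻¹
      rw [← h2]
      congr 1
      apply Subtype.ext
      simp
    · rw [Lead.extendByZero_not_mem H _ hx, Lead.extendByZero_not_mem]
      intro hmem
      exact hx ((frob_conj_mem_iff H hH h h.2 hh1 x).1 hmem)
  rw [Finset.sum_congr rfl (fun x _ => hterm x), Lead.sum_extendByZero, Finset.sum_const,
    Finset.card_univ, nsmul_eq_mul, ← Nat.card_eq_fintype_card, ← mul_assoc,
    inv_mul_cancel₀ (Lead.natCard_ne_zero_complex H), one_mul]

/-- Induction from a subgroup vanishes off the conjugates of the subgroup. -/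
theorem indFun_eq_zero_of_forall_notMem {G : Type u} [Group G] [Fintype G] (H : Subgroup G)
    (ψ : H → ℂ) (g : G) (hg : ∀ x : G, g ∉ MulAut.conj x • H) : indFun H ψ g = 0 := by
  rw [Lead.indFun_apply]
  have h : ∀ x : G, extendByZero H ψ (x⁻¹ * g * x) = 0 := fun x =>
    Lead.extendByZero_not_mem H ψ (fun hmem => hg x (Lead.mem_conj_smul_iff'.2 hmem))
  rw [Finset.sum_congr rfl (fun x _ => h x)]
  simp

/-- Induction from a Frobenius complement is an isometry on class functions vanishing at `1`. -/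
theorem classInner_indFun_frob {G : Type u} [Group G] [Fintype G] (H : Subgroup G) [Fintype H]
    (hH : IsFrobeniusComplement H) (ψ : H → ℂ) (hψ : IsClassFunction H ψ) (hψ1 : ψ 1 = 0) :
    classInner (indFun H ψ) (indFun H ψ) = classInner ψ ψ := by
  rw [Cfsg.Agent.S0146.result H ψ (indFun H ψ) (Lead.indFun_isClassFunction H ψ)]
  unfold classInner
  congr 1
  apply Finset.sum_congr rfl
  intro h _
  by_cases h1 : h = 1
  · subst h1
    rw [hψ1]
    simp
  · beta_reduce
    rw [indFun_frob_apply H hH ψ hψ h h1]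

end Cfsg.Agent.Helper7
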