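import Mathlib
import Cfsg.Agent.Helper7.FrobThm

set_option autoImplicit false

universe u

namespace Cfsg.Agent.Helper7

open Cfsg
open scoped ComplexConjugate Pointwise

/-- The Frobenius extension `θ*` of an irreducible character of a Frobenius complement is an
irreducible character of the whole group. -/
theorem frob_star_isIrr {G : Type u} [Group G] [Fintype G] (H : Subgroup G)
    (hH : IsFrobeniusComplement H) (θ : H → ℂ) (hθ : IsIrrCharacter H θ) :
    IsIrrCharacter G (fun g => indFun H (fun h => θ h - θ 1) g + θ 1) := by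
  classical
  haveI : Fintype H := Fintype.ofFinite H
  obtain ⟨n, hn, hθ1⟩ := Lead.isIrrCharacter_one_eq_nat hθ
  have hθc : IsCharacter H θ := Lead.isCharacter_of_isIrrCharacter hθ
  set ψ : H → ℂ := fun h => θ h - θ 1 with hψdef
  have hψcf : IsClassFunction H ψ := by
    intro g h
    simp only [hψdef]
    rw [Lead.isCharacter_isClassFunction hθc g h]
  have hψ1 : ψ 1 = 0 := by simp [hψdef]
  have hψ_eq : ψ = θ + (-(n : ℂ)) • (fun _ : H => (1 : ℂ)) := by
    funext h
    simp [hψdef, hθ1]
    ring
  have hf_eq : (fun g => indFun H ψ g + θ 1) =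
      indFun H ψ + (n : ℂ) • (fun _ : G => (1 : ℂ)) := by
    funext g
    simp [hθ1]
  have e11 : classInner (fun _ : H => (1 : ℂ)) (fun _ => 1) = 1 :=
    Lead.classInner_self_of_isIrrCharacter Lead.isIrrCharacter_one
  have e11G : classInner (fun _ : G => (1 : ℂ)) (fun _ => 1) = 1 :=
    Lead.classInner_self_of_isIrrCharacter Lead.isIrrCharacter_one
  have eθθ : classInner θ θ = 1 := Lead.classInner_self_of_isIrrCharacter hθ
  obtain ⟨d, hd⟩ := Lead.classInner_isCharacter_nat hθc (Lead.isCharacter_one (G := H))
  have hd' : classInner (fun _ : H => (1 : ℂ)) θ = d := by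
    rw [← Lead.classInner_conj_symm, hd]
    simp
  have eψψ : classInner ψ ψ = 1 - 2 * n * d + n ^ 2 := by
    rw [hψ_eq, Lead.classInner_add_left, Lead.classInner_add_right, Lead.classInner_add_right,
      Lead.classInner_smul_left, Lead.classInner_smul_right, Lead.classInner_smul_right,
      Lead.classInner_smul_left, eθθ, hd, hd', e11]
    simp
    ring
  have eB : classInner (indFun H ψ) (fun _ : G => (1 : ℂ)) = d - n := by
    rw [Cfsg.Agent.S0146.result H ψ _ (fun _ _ => rfl)]
    show classInner ψ (fun _ : H => (1 : ℂ)) = _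
    rw [hψ_eq, Lead.classInner_add_left, Lead.classInner_smul_left, hd, e11]
    ring
  have eB' : classInner (fun _ : G => (1 : ℂ)) (indFun H ψ) = d - n := by
    rw [← Lead.classInner_conj_symm, eB]
    simp
  rw [hf_eq]
  apply isIrrCharacter_of_int_classInner
  · exact Lead.isClassFunction_add (Lead.indFun_isClassFunction H ψ)
      (Lead.isClassFunction_smul _ (fun _ _ => rfl))
  · intro χ
    have hχc : IsCharacter G (χ : G → ℂ) := Lead.isCharacter_of_isIrrCharacter χ.2
    have hres : IsCharacter H (fun h : H => (χ : G → ℂ) h) := Lead.isCharacter_res H hχc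
    obtain ⟨a, ha⟩ := Lead.classInner_isCharacter_nat hθc hres
    obtain ⟨b, hb⟩ := Lead.classInner_isCharacter_nat (Lead.isCharacter_one (G := H)) hres
    obtain ⟨c, hc⟩ := Lead.classInner_isCharacter_nat (Lead.isCharacter_one (G := G)) hχc
    refine ⟨(a : ℤ) - n * b + n * c, ?_⟩
    rw [Lead.classInner_add_left, Lead.classInner_smul_left, hc,
      Cfsg.Agent.S0146.result H ψ _ (Lead.isClassFunction_irr χ), hψ_eq,
      Lead.classInner_add_left, Lead.classInner_smul_left, ha, hb]
    push_cast
    ring
  · rw [Lead.classInner_add_left, Lead.classInner_add_right, Lead.classInner_add_right,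
      Lead.classInner_smul_left, Lead.classInner_smul_right, Lead.classInner_smul_right,
      Lead.classInner_smul_left, classInner_indFun_frob H hH ψ hψcf hψ1, eψψ, eB, eB', e11G]
    simp
    ring
  · refine ⟨n, hn, ?_⟩
    show indFun H ψ 1 + (n : ℂ) • (1 : ℂ) = n
    rw [Lead.indFun_one, hψ1]
    simp

end Cfsg.Agent.Helper7
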