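import Mathlib
import Cfsg.Agent.Helper7.FrobThm2

set_option autoImplicit false

universe u

namespace Cfsg.Agent.Helper7

open Cfsg
open scoped ComplexConjugate Pointwise

/-- Frobenius' theorem: the Frobenius kernel is a normal complement. -/
theorem frob_kernel_exists {G : Type u} [Group G] [Finite G] (H : Subgroup G)
    (hH : IsFrobeniusComplement H) :
    ∃ N : Subgroup G, (N : Set G) = frobeniusKernel H ∧ N.Normal ∧
      Subgroup.IsComplement' N H := by
  classical
  haveI : Fintype G := Fintype.ofFinite G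
  haveI : Fintype H := Fintype.ofFinite H
  have hstar : ∀ θ : IrrCharacter H, IsIrrCharacter G
      (fun g => indFun H (fun h => (θ : H → ℂ) h - (θ : H → ℂ) 1) g + (θ : H → ℂ) 1) :=
    fun θ => frob_star_isIrr H hH θ.1 θ.2
  choose n ρ hρirr hρchar using hstar
  -- membership in kernel of ρ θ
  have hker : ∀ (θ : IrrCharacter H) (g : G), g ∈ MonoidHom.ker (ρ θ) ↔
      indFun H (fun h => (θ : H → ℂ) h - (θ : H → ℂ) 1) g = 0 := by
    intro θ g
    rw [MonoidHom.mem_ker]
    have h1 := Cfsg.Agent.S0139.result (ρ θ) g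
    have h2 : (ρ θ).character 1 = (Module.finrank ℂ (Fin (n θ) → ℂ) : ℂ) :=
      Representation.char_one (ρ θ)
    rw [← h2, hρchar θ] at h1
    beta_reduce at h1
    rw [Lead.indFun_one] at h1
    have h3 : (ρ θ) g = 1 ↔ (ρ θ) g = LinearMap.id := Iff.rfl
    rw [h3, ← h1]
    simp
  let K : Subgroup G := ⨅ θ : IrrCharacter H, MonoidHom.ker (ρ θ)
  have hKn : K.Normal := Subgroup.normal_iInf_normal (fun θ => MonoidHom.normal_ker (ρ θ))
  have hKmem : ∀ g : G, g ∈ K ↔ ∀ θ : IrrCharacter H,
      indFun H (fun h => (θ : H → ℂ) h - (θ : H → ℂ) 1) g = 0 := by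
    intro g
    simp only [K, Subgroup.mem_iInf, hker]
  -- kernel ⊆ K
  have hsub : frobeniusKernel H ⊆ (K : Set G) := by
    intro g hg
    rcases hg with rfl | hg
    · exact K.one_mem
    · rw [SetLike.mem_coe, hKmem]
      intro θ
      exact indFun_eq_zero_of_forall_notMem H _ g hg
  -- K ∩ H = 1
  have hdisj : H ⊓ K = ⊥ := by
    rw [eq_bot_iff]
    intro h hh
    rw [Subgroup.mem_inf] at hh
    rw [Subgroup.mem_bot]
    by_contra h1
    have hK := (hKmem h).1 hh.2
    have hh1 : (⟨h, hh.1⟩ : H) ≠ 1 := fun e => h1 (congrArg Subtype.val e)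
    have hval : ∀ θ : IrrCharacter H, (θ : H → ℂ) ⟨h, hh.1⟩ = (θ : H → ℂ) 1 := by
      intro θ
      have h2 := indFun_frob_apply H hH (fun h => (θ : H → ℂ) h - (θ : H → ℂ) 1)
        (fun a b => by
          have := Lead.isCharacter_isClassFunction (Lead.isCharacter_of_isIrrCharacter θ.2) a b
          simp only [this]) ⟨h, hh.1⟩ hh1
      have h3 := hK θ
      rw [h2] at h3
      exact sub_eq_zero.1 h3
    have hnc : ¬ IsConj (⟨h, hh.1⟩ : H) 1 := by
      intro hc
      exact hh1 (isConj_one_left.1 hc)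
    have e1 := Lead.column_orth_of_not_isConj hnc
    have e2 := Lead.column_orth_of_isConj (IsConj.refl (1 : H))
    have e3 : ∑ᶠ χ : IrrCharacter H, (χ : H → ℂ) ⟨h, hh.1⟩ * conj ((χ : H → ℂ) 1) =
        ∑ᶠ χ : IrrCharacter H, (χ : H → ℂ) 1 * conj ((χ : H → ℂ) 1) :=
      finsum_congr (fun χ => by rw [hval χ])
    rw [e3, e2] at e1
    have e4 : (Nat.card (Subgroup.centralizer ({(1 : H)} : Set H)) : ℂ) ≠ 0 := by
      exact_mod_cast Nat.card_pos.ne'
    exact e4 e1
  have hcardK : Nat.card K = H.index := by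
    have h1 := @Lead.card_sup_of_inf_eq_bot G _ _ H K hKn hdisj
    have h2 : Nat.card (H ⊔ K : Subgroup G) ≤ Nat.card G := Subgroup.card_le_card_group _
    rw [h1, ← H.card_mul_index] at h2
    have h3 : Nat.card K ≤ H.index := Nat.le_of_mul_le_mul_left h2 Nat.card_pos
    have h4 : Nat.card (frobeniusKernel H) ≤ Nat.card K := by
      have := Set.ncard_le_ncard hsub (Set.toFinite _)
      rw [Set.ncard_eq_toFinset_card', Set.ncard_eq_toFinset_card'] at this
      simpa [Nat.card_eq_fintype_card] using this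
    rw [Lead.card_frobeniusKernel H hH] at h4
    exact le_antisymm h3 h4
  refine ⟨K, ?_, hKn, ?_⟩
  · symm
    apply Set.eq_of_subset_of_ncard_le hsub _ (Set.toFinite _)
    have h1 : (K : Set G).ncard = Nat.card K := rfl
    have h2 : (frobeniusKernel H).ncard = Nat.card (frobeniusKernel H) := rfl
    rw [h1, h2, Lead.card_frobeniusKernel H hH, hcardK]
  · apply Subgroup.isComplement'_of_card_mul_and_disjoint
    · rw [hcardK, mul_comm, H.card_mul_index]
    · rw [disjoint_iff, inf_comm]
      exact hdisj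

end Cfsg.Agent.Helper7
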