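import Mathlib
import Cfsg.Agent.S0035
import Cfsg.Agent.Lead.Frobenius
import Cfsg.Agent.Lead.Hall
import Cfsg.Agent.Helper3.SchurZ
import Cfsg.Agent.Helper3.Signalizer2

set_option autoImplicit false

universe u

namespace Cfsg.Agent.Helper7

open Cfsg
open scoped Pointwise

/-- In a semidirect product `K ⋊ M` of coprime orders with `M` solvable, `M` normalizes a Sylow
`q`-subgroup of `K`. -/
theorem exists_sylow_normalized_of_complement {X : Type u} [Group X] [Finite X]
    (K M : Subgroup X) [hK : K.Normal]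
    (hKM : K ⊓ M = ⊥) (hKMt : K ⊔ M = ⊤) (hcop : (Nat.card K).Coprime (Nat.card M))
    (hM : Group.IsSolvable M) (q : ℕ) [Fact q.Prime] :
    ∃ Q : Subgroup X, Q ≤ K ∧ IsPGroup q Q ∧ Nat.card Q = q ^ (Nat.card K).factorization q ∧
      M ≤ Subgroup.normalizer (Q : Set X) := by
  obtain S : Sylow q K := default
  set Q₀ : Subgroup X := (S : Subgroup K).map K.subtype with hQ₀
  have hQ₀K : Q₀ ≤ K := Subgroup.map_subtype_le _
  have hQ₀p : IsPGroup q Q₀ := S.2.map _
  have hQ₀c : Nat.card Q₀ = q ^ (Nat.card K).factorization q := by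
    rw [← S.card_eq_multiplicity]
    exact (Nat.card_congr (Subgroup.equivMapOfInjective _ _ K.subtype_injective).toEquiv).symm
  have hfr : Subgroup.normalizer (Q₀ : Set X) ⊔ K = ⊤ := Sylow.normalizer_sup_eq_top S
  set N₁ : Subgroup X := Subgroup.normalizer (Q₀ : Set X) with hN₁
  have hcardKM : Nat.card K * Nat.card M = Nat.card X := by
    have h1 := Lead.card_sup_of_inf_eq_bot M K (by rw [inf_comm]; exact hKM)
    rw [sup_comm, hKMt, Subgroup.card_top] at h1
    rw [h1, mul_comm]
  have hidxK : K.index = Nat.card M := by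
    have h1 := K.card_mul_index
    rw [← hcardKM] at h1
    exact Nat.eq_of_mul_eq_mul_left Nat.card_pos h1
  have hidx : (K.subgroupOf N₁).index = Nat.card M := by
    show K.relIndex N₁ = _
    rw [← Subgroup.relIndex_sup_right, hfr, Subgroup.relIndex_top_right, hidxK]
  have hcop1 : (Nat.card (K.subgroupOf N₁)).Coprime (K.subgroupOf N₁).index := by
    rw [hidx]
    refine Nat.Coprime.coprime_dvd_left ?_ hcop
    rw [← Subgroup.inf_subgroupOf_right]
    have h2 : Nat.card ((K ⊓ N₁).subgroupOf N₁) = Nat.card (K ⊓ N₁ : Subgroup X) :=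
      Nat.card_congr (Subgroup.subgroupOfEquivOfLe inf_le_right).toEquiv
    rw [h2]
    exact Subgroup.card_dvd_of_le inf_le_left
  obtain ⟨C, hC⟩ := Subgroup.exists_right_complement'_of_coprime hcop1
  set C' : Subgroup X := C.map N₁.subtype with hC'
  have hC'N : C' ≤ N₁ := Subgroup.map_subtype_le _
  have hcardC : Nat.card C' = Nat.card M := by
    have h1 : Nat.card C' = Nat.card C :=
      (Nat.card_congr (Subgroup.equivMapOfInjective _ _ N₁.subtype_injective).toEquiv).symm
    have h2 := hC.card_mul_card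
    have h3 := (K.subgroupOf N₁).card_mul_index
    rw [← h3, hidx] at h2
    rw [h1]
    exact Nat.eq_of_mul_eq_mul_left Nat.card_pos h2
  have hKC : K ⊓ C' = ⊥ := by
    rw [eq_bot_iff]
    intro c hc
    rw [Subgroup.mem_inf] at hc
    obtain ⟨c₀, hc₀, rfl⟩ := Subgroup.mem_map.1 hc.2
    have h1 : c₀ ∈ K.subgroupOf N₁ ⊓ C := Subgroup.mem_inf.2 ⟨Subgroup.mem_subgroupOf.2 hc.1, hc₀⟩
    rw [hC.disjoint.eq_bot, Subgroup.mem_bot] at h1
    rw [Subgroup.mem_bot, h1]
    rfl
  have hKCt : K ⊔ C' = ⊤ := by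
    apply Subgroup.eq_top_of_card_eq
    rw [sup_comm, Lead.card_sup_of_inf_eq_bot C' K (by rw [inf_comm]; exact hKC), hcardC, mul_comm,
      hcardKM]
  obtain ⟨x, hxK, hx⟩ := Helper3.sz_conj K M C' hKM hKMt hKC hKCt hcop (Or.inr hM)
  refine ⟨Q₀.map (MulAut.conj x⁻¹).toMonoidHom, ?_, ?_, ?_, ?_⟩
  · intro y hy
    obtain ⟨z, hz, rfl⟩ := Subgroup.mem_map.1 hy
    exact hK.conj_mem z (hQ₀K hz) x⁻¹
  · exact hQ₀p.map _
  · rw [← hQ₀c]
    exact (Nat.card_congr (Subgroup.equivMapOfInjective _ _
      (MulAut.conj x⁻¹).injective).toEquiv).symm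
  · intro m hm
    have h1 : x * m * x⁻¹ ∈ N₁ := by
      apply hC'N
      rw [← hx]
      exact Subgroup.mem_map.2 ⟨m, hm, rfl⟩
    rw [Subgroup.mem_normalizer_iff]
    have key : ∀ y : X, y ∈ Q₀.map (MulAut.conj x⁻¹).toMonoidHom ↔ x * y * x⁻¹ ∈ Q₀ := by
      intro y
      constructor
      · intro hy
        obtain ⟨z, hz, rfl⟩ := Subgroup.mem_map.1 hy
        have e : x * ((MulAut.conj x⁻¹).toMonoidHom z) * x⁻¹ = z := by
          simp [MulAut.conj_apply]
          group
        rw [e]
        exact hz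
      · intro hy
        refine Subgroup.mem_map.2 ⟨x * y * x⁻¹, hy, ?_⟩
        simp [MulAut.conj_apply, mul_assoc]
    intro y
    rw [key, key]
    have h2 := (Subgroup.mem_normalizer_iff.1 h1) (x * y * x⁻¹)
    rw [h2]
    have e : x * m * x⁻¹ * (x * y * x⁻¹) * (x * m * x⁻¹)⁻¹ = x * (m * y * m⁻¹) * x⁻¹ := by group
    rw [e]

/-- A Frobenius complement `M` containing a solvable subgroup `B` lying in no other maximal
subgroup: `B` normalizes a nontrivial solvable subgroup on which it acts without fixed points. -/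
theorem frob_solvable_aux {X : Type u} [Group X] [Finite X] (M B : Subgroup X)
    (hM : IsFrobeniusComplement M) (hBM : B ≤ M) (hBs : Group.IsSolvable B)
    (hB : ∀ L : Subgroup X, B ≤ L → L ≠ ⊤ → L ≤ M) :
    ∃ Q : Subgroup X, Q ≠ ⊥ ∧ Group.IsSolvable Q ∧ B ≤ Subgroup.normalizer (Q : Set X) ∧
      ∀ k ∈ Q, ∀ m ∈ M, k * m = m * k → k = 1 ∨ m = 1 := by
  obtain ⟨K, hKset, hKn, hKc⟩ := Cfsg.Agent.S0035.result M hM
  have hKM : K ⊓ M = ⊥ := hKc.disjoint.eq_bot
  have hKMt : K ⊔ M = ⊤ := hKc.sup_eq_top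
  have hcardK : Nat.card K = Nat.card (frobeniusKernel M) := by
    rw [← hKset]
    rfl
  have hdvd := Lead.card_dvd_card_frobeniusKernel_sub_one M hM
  rw [← hcardK] at hdvd
  have hcop : (Nat.card K).Coprime (Nat.card M) := by
    have h1 : Nat.gcd (Nat.card K) (Nat.card M) ∣ Nat.card K := Nat.gcd_dvd_left _ _
    have h2 : Nat.gcd (Nat.card K) (Nat.card M) ∣ Nat.card K - 1 :=
      (Nat.gcd_dvd_right _ _).trans hdvd
    have h3 : Nat.gcd (Nat.card K) (Nat.card M) ∣ Nat.card K - (Nat.card K - 1) :=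
      Nat.dvd_sub h1 h2
    have h4 : Nat.card K - (Nat.card K - 1) = 1 := by
      have : 0 < Nat.card K := Nat.card_pos
      omega
    rw [h4] at h3
    exact Nat.dvd_one.1 h3
  have hK1 : Nat.card K ≠ 1 := by
    intro h1
    have h2 := hKc.card_mul_card
    rw [h1, one_mul] at h2
    exact hM.2.1 (Subgroup.eq_top_of_card_eq _ h2)
  have hKbot : K ≠ ⊥ := by
    intro h
    apply hK1
    rw [h, Subgroup.card_bot]
  -- `B = M`
  have hBK : B ⊔ K = ⊤ := by
    by_contra hne
    have h1 := hB (B ⊔ K) le_sup_left hne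
    have h2 : K ≤ M := le_sup_right.trans h1
    apply hKbot
    rw [← hKM]
    exact (inf_of_le_left h2).symm
  have hBeq : B = M := by
    apply Subgroup.eq_of_le_of_card_ge hBM
    have h1 := Lead.card_sup_of_inf_eq_bot B K (by
      rw [eq_bot_iff, ← hKM, inf_comm]
      exact inf_le_inf_left K hBM)
    rw [hBK, Subgroup.card_top, ← hKc.card_mul_card, mul_comm] at h1
    exact (Nat.eq_of_mul_eq_mul_right Nat.card_pos h1).le
  have hMs : Group.IsSolvable M := hBeq ▸ hBs
  obtain ⟨q, hq, hqd⟩ := Nat.exists_prime_and_dvd hK1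
  haveI : Fact q.Prime := ⟨hq⟩
  obtain ⟨Q, hQK, hQp, hQc, hQn⟩ :=
    exists_sylow_normalized_of_complement K M hKM hKMt hcop hMs q
  refine ⟨Q, ?_, ?_, hBM.trans hQn, ?_⟩
  · intro hQ
    rw [hQ, Subgroup.card_bot] at hQc
    have h1 : 0 < (Nat.card K).factorization q :=
      hq.factorization_pos_of_dvd Nat.card_pos.ne' hqd
    have h2 : 1 < q ^ (Nat.card K).factorization q := Nat.one_lt_pow h1.ne' hq.one_lt
    omega
  · haveI := hQp.isNilpotent
    infer_instance
  · intro k hk m hm hkm
    by_cases hk1 : k = 1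
    · left
      exact hk1
    · right
      have hkM : k ∉ M := fun h => hk1 (by
        have h' : k ∈ K ⊓ M := Subgroup.mem_inf.2 ⟨hQK hk, h⟩
        rwa [hKM, Subgroup.mem_bot] at h')
      have h2 := hM.2.2 k hkM
      have h3 : m ∈ M ⊓ (MulAut.conj k • M) := by
        refine Subgroup.mem_inf.2 ⟨hm, ?_⟩
        rw [Lead.mem_conj_smul_iff']
        have e : k⁻¹ * m * k = m := by
          rw [mul_assoc, ← hkm]
          group
        rw [e]
        exact hm
      rwa [h2, Subgroup.mem_bot] at h3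

/-- A solvable subgroup that is central in every solvable subgroup containing it is central. -/
theorem central_of_central_in_solvable_aux : ∀ n : ℕ, ∀ (G : Type u) [Group G] [Finite G],
    Nat.card G = n → ∀ A : Subgroup G, Group.IsSolvable A →
    (∀ S : Subgroup G, A ≤ S → Group.IsSolvable S → ∀ a ∈ A, ∀ s ∈ S, a * s = s * a) →
    A ≤ Subgroup.center G := by
  intro n
  induction n using Nat.strong_induction_on with
  | _ n ih =>
  intro G _ _ hn A hA hc
  by_contra hcon
  -- (1) `A` is central in every proper subgroup containing it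
  have h1 : ∀ L : Subgroup G, L ≠ ⊤ → A ≤ L → ∀ a ∈ A, ∀ l ∈ L, a * l = l * a := by
    intro L hL hAL a ha l hl
    have hlt : Nat.card L < n := by
      rw [← hn]
      by_contra hge
      exact hL (Subgroup.eq_top_of_le_card L (not_lt.1 hge))
    have hA' : Group.IsSolvable (A.subgroupOf L) := by
      haveI := hA
      exact Group.isSolvable_of_isSolvable_injective
        (f := (Subgroup.subgroupOfEquivOfLe hAL).toMonoidHom)
        (Subgroup.subgroupOfEquivOfLe hAL).injective
    have key := ih (Nat.card L) hlt L rfl (A.subgroupOf L) hA' (by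
      intro S' hAS' hS' a' ha' s' hs'
      have hS : Group.IsSolvable (S'.map L.subtype) := by
        haveI := hS'
        exact Group.isSolvable_of_isSolvable_injective
          (f := (Subgroup.equivMapOfInjective S' L.subtype L.subtype_injective).symm.toMonoidHom)
          (Subgroup.equivMapOfInjective S' L.subtype L.subtype_injective).symm.injective
      have hAS : A ≤ S'.map L.subtype := by
        intro b hb
        exact Subgroup.mem_map.2 ⟨⟨b, hAL hb⟩, hAS' (Subgroup.mem_subgroupOf.2 hb), rfl⟩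
      have h := hc (S'.map L.subtype) hAS hS (a' : G) (Subgroup.mem_subgroupOf.1 ha') (s' : G)
        (Subgroup.mem_map.2 ⟨s', hs', rfl⟩)
      exact Subtype.ext h)
    have h2 : (⟨a, hAL ha⟩ : L) ∈ Subgroup.center L := key (Subgroup.mem_subgroupOf.2 ha)
    have h3 := Subgroup.mem_center_iff.1 h2 ⟨l, hl⟩
    exact (congrArg Subtype.val h3).symm
  -- (2) `A` is abelian
  have hAab : ∀ a ∈ A, ∀ b ∈ A, a * b = b * a := fun a ha b hb => hc A le_rfl hA a ha b hb
  set M : Subgroup G := Subgroup.centralizer (A : Set G) with hMdef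
  have hMmem : ∀ g : G, g ∈ M ↔ ∀ a ∈ A, a * g = g * a := fun g => Subgroup.mem_centralizer_iff
  have hAM : A ≤ M := fun a ha => (hMmem a).2 (fun b hb => hAab b hb a ha)
  have hZM : Subgroup.center G ≤ M := fun z hz => (hMmem z).2
    (fun a _ => Subgroup.mem_center_iff.1 hz a)
  have hMtop : M ≠ ⊤ := by
    intro h
    apply hcon
    intro a ha
    rw [Subgroup.mem_center_iff]
    intro g
    have hg : g ∈ M := by
      rw [h]
      trivial
    exact ((hMmem g).1 hg a ha).symm
  have hmax : ∀ L : Subgroup G, L ≠ ⊤ → A ≤ L → L ≤ M := by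
    intro L hL hAL l hl
    rw [hMmem]
    intro a ha
    exact h1 L hL hAL a ha l hl
  -- (4) `M` is not normal
  have hMnn : ¬ M.Normal := by
    intro hMn
    set N : Subgroup G := Subgroup.normalClosure (A : Set G) with hNdef
    haveI hNn : N.Normal := Subgroup.normalClosure_normal
    have hAN : A ≤ N := Subgroup.le_normalClosure
    have hNM : N ≤ M := Subgroup.normalClosure_le_normal hAM
    have hAC : (A : Set G) ⊆ (Subgroup.centralizer (N : Set G) : Subgroup G) := by
      intro a ha
      rw [SetLike.mem_coe, Subgroup.mem_centralizer_iff]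
      intro x hx
      exact ((hMmem x).1 (hNM hx) a ha).symm
    have hNC : N ≤ Subgroup.centralizer (N : Set G) := Subgroup.normalClosure_le_normal hAC
    have hNs : Group.IsSolvable N :=
      Group.isSolvable_of_comm (fun x y => Subtype.ext
        ((Subgroup.mem_centralizer_iff.1 (hNC y.2) x x.2)))
    apply hcon
    intro a ha
    rw [Subgroup.mem_center_iff]
    intro g
    have hzs : Group.IsSolvable (Subgroup.zpowers g) :=
      Group.isSolvable_of_comm (fun a b =>
        (inferInstance : IsMulCommutative (Subgroup.zpowers g)).is_comm.comm a b)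
    have hS := Helper3.sup_solvable_of_le_normalizer N (Subgroup.zpowers g)
      (by rw [Subgroup.normalizer_eq_top]; exact le_top) hNs hzs
    exact (hc (N ⊔ Subgroup.zpowers g) (hAN.trans le_sup_left) hS a ha g
      ((le_sup_right : Subgroup.zpowers g ≤ N ⊔ Subgroup.zpowers g)
        (Subgroup.mem_zpowers g))).symm
  -- (5) the TI property modulo the centre
  have hTI : ∀ g : G, g ∉ M → ∀ x ∈ M, g⁻¹ * x * g ∈ M → x ∈ Subgroup.center G := by
    intro g hg x hx hgx
    by_contra hxZ
    set C : Subgroup G := Subgroup.centralizer ({x} : Set G) with hCdef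
    have hCtop : C ≠ ⊤ := by
      intro h
      apply hxZ
      rw [Subgroup.mem_center_iff]
      intro y
      have hy : y ∈ C := by
        rw [h]
        trivial
      exact (Subgroup.mem_centralizer_singleton_iff.1 hy)
    have hAC : A ≤ C := by
      intro a ha
      rw [hCdef, Subgroup.mem_centralizer_singleton_iff]
      exact (hMmem x).1 hx a ha
    have hCM : C ≤ M := hmax C hCtop hAC
    have hgA : ∀ a ∈ A, g * a * g⁻¹ ∈ M := by
      intro a ha
      apply hCM
      rw [hCdef, Subgroup.mem_centralizer_singleton_iff]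
      have h2 := (hMmem _).1 hgx a ha
      calc g * a * g⁻¹ * x = g * (a * (g⁻¹ * x * g)) * g⁻¹ := by group
        _ = g * ((g⁻¹ * x * g) * a) * g⁻¹ := by rw [h2]
        _ = x * (g * a * g⁻¹) := by group
    -- `L = g⁻¹ M g` contains `A`
    set L : Subgroup G := M.map (MulAut.conj g⁻¹).toMonoidHom with hLdef
    have hLmem : ∀ y : G, y ∈ L ↔ g * y * g⁻¹ ∈ M := by
      intro y
      constructor
      · intro hy
        obtain ⟨z, hz, rfl⟩ := Subgroup.mem_map.1 hy
        have e : g * ((MulAut.conj g⁻¹).toMonoidHom z) * g⁻¹ = z := by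
          simp [MulAut.conj_apply]
          group
        rw [e]
        exact hz
      · intro hy
        refine Subgroup.mem_map.2 ⟨g * y * g⁻¹, hy, ?_⟩
        simp [MulAut.conj_apply, mul_assoc]
    have hcardL : Nat.card L = Nat.card M :=
      (Nat.card_congr (Subgroup.equivMapOfInjective _ _ (MulAut.conj g⁻¹).injective).toEquiv).symm
    have hLtop : L ≠ ⊤ := by
      intro h
      apply hMtop
      apply Subgroup.eq_top_of_card_eq
      rw [← hcardL, h, Subgroup.card_top]
    have hAL : A ≤ L := fun a ha => (hLmem a).2 (hgA a ha)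
    have hLM : L ≤ M := hmax L hLtop hAL
    have hLeq : L = M := Subgroup.eq_of_le_of_card_ge hLM hcardL.ge
    have hgN : g ∈ Subgroup.normalizer (M : Set G) := by
      rw [Subgroup.mem_normalizer_iff]
      intro y
      rw [← hLmem, hLeq]
    by_cases hNtop : Subgroup.normalizer (M : Set G) = ⊤
    · exact hMnn (Subgroup.normalizer_eq_top_iff.1 hNtop)
    · exact hg (hmax _ hNtop (hAM.trans Subgroup.le_normalizer) hgN)
  -- (6) a noncentral element of `A`
  obtain ⟨a₀, ha₀, ha₀Z⟩ := SetLike.not_le_iff_exists.1 hcon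
  -- (7) pass to the quotient by the centre
  set π : G →* G ⧸ Subgroup.center G := QuotientGroup.mk' (Subgroup.center G) with hπ
  have hπsurj : Function.Surjective π := QuotientGroup.mk'_surjective _
  have hπ1 : ∀ y : G, π y = 1 ↔ y ∈ Subgroup.center G := fun y => QuotientGroup.eq_one_iff y
  have hMbar : ∀ y : G, π y ∈ M.map π ↔ y ∈ M := by
    intro y
    constructor
    · intro hy
      obtain ⟨m, hm, hmy⟩ := Subgroup.mem_map.1 hy
      have h2 : π (m⁻¹ * y) = 1 := by
        rw [map_mul, map_inv, hmy, inv_mul_cancel]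
      have h3 : m⁻¹ * y ∈ M := hZM ((hπ1 _).1 h2)
      have h4 := M.mul_mem hm h3
      rwa [mul_inv_cancel_left] at h4
    · intro hy
      exact Subgroup.mem_map.2 ⟨y, hy, rfl⟩
  have hFrob : IsFrobeniusComplement (M.map π) := by
    refine ⟨?_, ?_, ?_⟩
    · intro h
      have h2 : π a₀ ∈ M.map π := (hMbar a₀).2 (hAM ha₀)
      rw [h, Subgroup.mem_bot, hπ1] at h2
      exact ha₀Z h2
    · intro h
      apply hMtop
      rw [eq_top_iff]
      intro y _
      rw [← hMbar, h]
      trivial
    · intro gb hgb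
      obtain ⟨g, rfl⟩ := hπsurj gb
      have hg : g ∉ M := fun h => hgb ((hMbar g).2 h)
      rw [eq_bot_iff]
      intro xb hxb
      rw [Subgroup.mem_inf, Lead.mem_conj_smul_iff'] at hxb
      obtain ⟨x, rfl⟩ := hπsurj xb
      have hx : x ∈ M := (hMbar x).1 hxb.1
      have hgx : g⁻¹ * x * g ∈ M := by
        rw [← hMbar, map_mul, map_mul, map_inv]
        exact hxb.2
      rw [Subgroup.mem_bot, hπ1]
      exact hTI g hg x hx hgx
  have hBs : Group.IsSolvable (A.map π) := by
    apply Group.isSolvable_of_comm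
    rintro ⟨x, hx⟩ ⟨y, hy⟩
    obtain ⟨a, ha, rfl⟩ := Subgroup.mem_map.1 hx
    obtain ⟨b, hb, rfl⟩ := Subgroup.mem_map.1 hy
    apply Subtype.ext
    show π a * π b = π b * π a
    rw [← map_mul, ← map_mul, hAab a ha b hb]
  have hBmax : ∀ Lb : Subgroup (G ⧸ Subgroup.center G), A.map π ≤ Lb → Lb ≠ ⊤ → Lb ≤ M.map π := by
    intro Lb hALb hLb
    have h2 : Lb.comap π ≠ ⊤ := by
      intro h
      apply hLb
      rw [eq_top_iff]
      intro yb _
      obtain ⟨y, rfl⟩ := hπsurj yb
      have : y ∈ Lb.comap π := by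
        rw [h]
        trivial
      exact this
    have h3 : A ≤ Lb.comap π := fun a ha => hALb (Subgroup.mem_map.2 ⟨a, ha, rfl⟩)
    have h4 := hmax _ h2 h3
    intro yb hyb
    obtain ⟨y, rfl⟩ := hπsurj yb
    exact (hMbar y).2 (h4 hyb)
  obtain ⟨Q, hQbot, hQs, hQn, hQfix⟩ := frob_solvable_aux (M.map π) (A.map π) hFrob
    (Subgroup.map_mono hAM) hBs hBmax
  have hSb : Group.IsSolvable ↥(Q ⊔ A.map π) :=
    Helper3.sup_solvable_of_le_normalizer Q (A.map π) hQn hQs hBs
  set S : Subgroup G := (Q ⊔ A.map π).comap π with hSdef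
  have hZS : Subgroup.center G ≤ S := by
    intro z hz
    show π z ∈ Q ⊔ A.map π
    rw [(hπ1 z).2 hz]
    exact Subgroup.one_mem _
  have hSs : Group.IsSolvable S := by
    haveI := hSb
    haveI : Group.IsSolvable (Subgroup.center G) :=
      Group.isSolvable_of_comm (fun a b =>
        (inferInstance : IsMulCommutative (Subgroup.center G)).is_comm.comm a b)
    refine Group.isSolvable_of_ker_le_range (Subgroup.inclusion hZS)
      (π.subgroupComap (Q ⊔ A.map π)) ?_
    intro s hs
    rw [MonoidHom.mem_ker] at hs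
    have h2 : π (s : G) = 1 := congrArg Subtype.val hs
    exact ⟨⟨s, (hπ1 _).1 h2⟩, rfl⟩
  have hAS : A ≤ S := fun a ha =>
    (le_sup_right : A.map π ≤ Q ⊔ A.map π) (Subgroup.mem_map.2 ⟨a, ha, rfl⟩)
  obtain ⟨⟨kb, hkb⟩, hkb1⟩ := (Subgroup.ne_bot_iff_exists_ne_one.1 hQbot)
  have hkb1' : kb ≠ 1 := fun h => hkb1 (Subtype.ext h)
  obtain ⟨k, rfl⟩ := hπsurj kb
  have hkS : k ∈ S := (le_sup_left : Q ≤ Q ⊔ A.map π) hkb
  have h5 := hc S hAS hSs a₀ ha₀ k hkS
  have h6 : π k * π a₀ = π a₀ * π k := by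
    rw [← map_mul, ← map_mul, h5]
  rcases hQfix (π k) hkb (π a₀) ((hMbar a₀).2 (hAM ha₀)) h6 with h7 | h7
  · exact hkb1' h7
  · exact ha₀Z ((hπ1 a₀).1 h7)

end Cfsg.Agent.Helper7
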