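import Mathlib
import Cfsg.Agent.S0035
import Cfsg.Agent.Lead.Frobenius
import Cfsg.Agent.Lead.Hall

set_option autoImplicit false

universe u

namespace Cfsg.Agent.Helper7

open Cfsg
open scoped Pointwise

/-- Membership in a subgroup whose carrier is the Frobenius kernel. -/
theorem mem_frob_kernel_iff {G : Type u} [Group G] (H K : Subgroup G)
    (hK : (K : Set G) = frobeniusKernel H) (x : G) :
    x ∈ K ↔ x = 1 ∨ ∀ g : G, x ∉ MulAut.conj g • H := by
  rw [← SetLike.mem_coe, hK]
  rfl

/-- The Frobenius kernel meets the complement trivially. -/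
theorem frob_kernel_inf {G : Type u} [Group G] (H K : Subgroup G)
    (hK : (K : Set G) = frobeniusKernel H) : K ⊓ H = ⊥ := by
  rw [eq_bot_iff]
  intro x hx
  rw [Subgroup.mem_inf, mem_frob_kernel_iff H K hK] at hx
  rw [Subgroup.mem_bot]
  rcases hx.1 with h | h
  · exact h
  · exfalso
    apply h 1
    rw [Lead.mem_conj_smul_iff']
    simpa using hx.2

/-- An element commuting with a nonidentity element of a Frobenius complement lies in it. -/
theorem frob_centralizer_le {G : Type u} [Group G] (H : Subgroup G) (hH : IsFrobeniusComplement H)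
    (h k : G) (hh : h ∈ H) (h1 : h ≠ 1) (hkh : k * h = h * k) : k ∈ H := by
  by_contra hk
  have h2 := hH.2.2 k hk
  have h3 : h ∈ H ⊓ (MulAut.conj k • H) := by
    refine Subgroup.mem_inf.2 ⟨hh, ?_⟩
    rw [Lead.mem_conj_smul_iff']
    have e : k⁻¹ * h * k = h := by
      rw [mul_assoc, ← hkh]
      group
    rw [e]
    exact hh
  rw [h2, Subgroup.mem_bot] at h3
  exact h1 h3

/-- The same for conjugates of the complement: a nonidentity element lying in a conjugate of `H`
commutes with no nonidentity element of the kernel. -/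
theorem frob_fpf {G : Type u} [Group G] (H K : Subgroup G) (hH : IsFrobeniusComplement H)
    (hK : (K : Set G) = frobeniusKernel H) (hKn : K.Normal) (y k : G) (hy : y ∉ K)
    (hk : k ∈ K) (hky : k * y = y * k) : k = 1 := by
  rw [mem_frob_kernel_iff H K hK] at hy
  push Not at hy
  obtain ⟨hy1, g, hg⟩ := hy
  rw [Lead.mem_conj_smul_iff'] at hg
  have h1 : g⁻¹ * y * g ≠ 1 := by
    intro h
    apply hy1
    have : y = g * (g⁻¹ * y * g) * g⁻¹ := by group
    rw [this, h]
    group
  have h2 : (g⁻¹ * k * g) * (g⁻¹ * y * g) = (g⁻¹ * y * g) * (g⁻¹ * k * g) := by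
    calc (g⁻¹ * k * g) * (g⁻¹ * y * g) = g⁻¹ * (k * y) * g := by group
      _ = g⁻¹ * (y * k) * g := by rw [hky]
      _ = (g⁻¹ * y * g) * (g⁻¹ * k * g) := by group
  have h3 := frob_centralizer_le H hH _ _ hg h1 h2
  have h4 : g⁻¹ * k * g ∈ K := by
    have := hKn.conj_mem k hk g⁻¹
    simpa using this
  have h5 : g⁻¹ * k * g ∈ K ⊓ H := Subgroup.mem_inf.2 ⟨h4, h3⟩
  rw [frob_kernel_inf H K hK, Subgroup.mem_bot] at h5
  have : k = g * (g⁻¹ * k * g) * g⁻¹ := by group
  rw [this, h5]
  group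

/-- The basic data of a Frobenius group. -/
theorem frob_kernel_data {G : Type u} [Group G] [Finite G] (H : Subgroup G)
    (hH : IsFrobeniusComplement H) :
    ∃ K : Subgroup G, (K : Set G) = frobeniusKernel H ∧ K.Normal ∧ K ⊓ H = ⊥ ∧ K ⊔ H = ⊤ ∧
      Nat.card K * Nat.card H = Nat.card G ∧ (Nat.card K).Coprime (Nat.card H) ∧ K ≠ ⊥ := by
  obtain ⟨K, hKset, hKn, hKc⟩ := Cfsg.Agent.S0035.result H hH
  have hcardK : Nat.card K = Nat.card (frobeniusKernel H) := by
    rw [← hKset]
    rfl
  have hdvd := Lead.card_dvd_card_frobeniusKernel_sub_one H hH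
  rw [← hcardK] at hdvd
  have hcop : (Nat.card K).Coprime (Nat.card H) := by
    have h1 : Nat.gcd (Nat.card K) (Nat.card H) ∣ Nat.card K := Nat.gcd_dvd_left _ _
    have h2 : Nat.gcd (Nat.card K) (Nat.card H) ∣ Nat.card K - 1 :=
      (Nat.gcd_dvd_right _ _).trans hdvd
    have h3 : Nat.gcd (Nat.card K) (Nat.card H) ∣ Nat.card K - (Nat.card K - 1) :=
      Nat.dvd_sub h1 h2
    have h4 : Nat.card K - (Nat.card K - 1) = 1 := by
      have : 0 < Nat.card K := Nat.card_pos
      omega
    rw [h4] at h3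
    exact Nat.dvd_one.1 h3
  have hK1 : Nat.card K ≠ 1 := by
    intro h1
    have h2 := hKc.card_mul_card
    rw [h1, one_mul] at h2
    exact hH.2.1 (Subgroup.eq_top_of_card_eq _ h2)
  refine ⟨K, hKset, hKn, hKc.disjoint.eq_bot, hKc.sup_eq_top, hKc.card_mul_card, hcop, ?_⟩
  intro h
  apply hK1
  rw [h, Subgroup.card_bot]

/-- A subgroup whose carrier is the Frobenius kernel is normal. -/
theorem frob_kernel_normal {G : Type u} [Group G] [Finite G] (H : Subgroup G)
    (hH : IsFrobeniusComplement H) (K : Subgroup G) (hK : (K : Set G) = frobeniusKernel H) :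
    K.Normal := by
  obtain ⟨K', hK', hKn, -⟩ := frob_kernel_data H hH
  have : K = K' := SetLike.coe_injective (hK.trans hK'.symm)
  rw [this]
  exact hKn

/-- A normal subgroup of a Frobenius group contains the kernel or is contained in it. -/
theorem frob_normal_dichotomy {G : Type u} [Group G] [Finite G] (H : Subgroup G)
    (hH : IsFrobeniusComplement H) (K : Subgroup G) (hK : (K : Set G) = frobeniusKernel H)
    (N : Subgroup G) (hN : N.Normal) : K ≤ N ∨ N ≤ K := by
  have hKn : K.Normal := frob_kernel_normal H hH K hK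
  by_cases hNK : N ≤ K
  · right
    exact hNK
  · left
    obtain ⟨n, hnN, hnK⟩ := SetLike.not_le_iff_exists.1 hNK
    have hnK' := hnK
    rw [mem_frob_kernel_iff H K hK] at hnK
    push Not at hnK
    obtain ⟨hn1, g, hg⟩ := hnK
    rw [Lead.mem_conj_smul_iff'] at hg
    set h : G := g⁻¹ * n * g with hh
    have hhN : h ∈ N := by
      have := hN.conj_mem n hnN g⁻¹
      simpa [hh] using this
    have hhK : h ∉ K := by
      intro hmem
      apply hnK'
      have := hKn.conj_mem h hmem g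
      have e : g * h * g⁻¹ = n := by
        rw [hh]
        group
      rwa [e] at this
    have hmemK : ∀ k : K, (k : G)⁻¹ * h⁻¹ * (k : G) * h ∈ K := by
      intro k
      have h1 : h⁻¹ * (k : G) * h ∈ K := by
        have := hKn.conj_mem k k.2 h⁻¹
        simpa using this
      have h2 := K.mul_mem (K.inv_mem k.2) h1
      have e : (k : G)⁻¹ * (h⁻¹ * (k : G) * h) = (k : G)⁻¹ * h⁻¹ * (k : G) * h := by group
      rwa [e] at h2
    let φ : K → K := fun k => ⟨(k : G)⁻¹ * h⁻¹ * (k : G) * h, hmemK k⟩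
    have hinj : Function.Injective φ := by
      intro k m hkm
      have h1 : (k : G)⁻¹ * h⁻¹ * (k : G) * h = (m : G)⁻¹ * h⁻¹ * (m : G) * h :=
        congrArg Subtype.val hkm
      have h3 : (k : G)⁻¹ * h⁻¹ * (k : G) = (m : G)⁻¹ * h⁻¹ * (m : G) := mul_right_cancel h1
      have h4 : h⁻¹ * ((k : G) * (m : G)⁻¹) = ((k : G) * (m : G)⁻¹) * h⁻¹ := by
        calc h⁻¹ * ((k : G) * (m : G)⁻¹) = (k : G) * ((k : G)⁻¹ * h⁻¹ * (k : G)) * (m : G)⁻¹ := by
              group
          _ = (k : G) * ((m : G)⁻¹ * h⁻¹ * (m : G)) * (m : G)⁻¹ := by rw [h3]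
          _ = ((k : G) * (m : G)⁻¹) * h⁻¹ := by group
      have h5 : ((k : G) * (m : G)⁻¹) * h = h * ((k : G) * (m : G)⁻¹) := by
        calc ((k : G) * (m : G)⁻¹) * h = h * (h⁻¹ * ((k : G) * (m : G)⁻¹)) * h := by group
          _ = h * (((k : G) * (m : G)⁻¹) * h⁻¹) * h := by rw [h4]
          _ = h * ((k : G) * (m : G)⁻¹) := by group
      have h6 := frob_fpf H K hH hK hKn h ((k : G) * (m : G)⁻¹) hhK
        (K.mul_mem k.2 (K.inv_mem m.2)) h5
      apply Subtype.ext
      exact mul_inv_eq_one.1 h6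
    have hsurj := Finite.surjective_of_injective hinj
    intro k hk
    obtain ⟨k', hk'⟩ := hsurj ⟨k, hk⟩
    have h1 : (k' : G)⁻¹ * h⁻¹ * (k' : G) * h = k := congrArg Subtype.val hk'
    rw [← h1]
    have h2 : (k' : G)⁻¹ * h⁻¹ * (k' : G) ∈ N := by
      have := hN.conj_mem h⁻¹ (N.inv_mem hhN) (k' : G)⁻¹
      simpa using this
    exact N.mul_mem h2 hhN

end Cfsg.Agent.Helper7
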