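import Mathlib

set_option autoImplicit false

namespace Cfsg.Agent.Helper7

universe u

open scoped commutatorElement

variable {G : Type u} [Group G]

/-- The elements of exponent `p` in a subgroup whose elements commute. -/
def omegaOfComm (A : Subgroup G) (hA : ∀ x ∈ A, ∀ y ∈ A, x * y = y * x) (p : ℕ) : Subgroup G where
  carrier := {x | x ∈ A ∧ x ^ p = 1}
  mul_mem' := by
    rintro x y ⟨hx, hx'⟩ ⟨hy, hy'⟩
    refine ⟨mul_mem hx hy, ?_⟩
    have hc : Commute x y := hA x hx y hy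
    rw [hc.mul_pow, hx', hy', one_mul]
  one_mem' := ⟨one_mem _, one_pow _⟩
  inv_mem' := by
    rintro x ⟨hx, hx'⟩
    refine ⟨inv_mem hx, ?_⟩
    rw [inv_pow, hx', inv_one]

theorem mem_omegaOfComm (A : Subgroup G) (hA : ∀ x ∈ A, ∀ y ∈ A, x * y = y * x) (p : ℕ) (x : G) :
    x ∈ omegaOfComm A hA p ↔ x ∈ A ∧ x ^ p = 1 := Iff.rfl

/-- A nontrivial finite solvable group has a nontrivial normal abelian subgroup of prime
exponent. -/
theorem exists_normal_exponent_prime [Finite G] [Group.IsSolvable G] [Nontrivial G] :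
    ∃ (p : ℕ) (K : Subgroup G), p.Prime ∧ K.Normal ∧ K ≠ ⊥ ∧ (∀ x ∈ K, x ^ p = 1) ∧
      (∀ x ∈ K, ∀ y ∈ K, x * y = y * x) := by
  classical
  have hsol := (Group.IsSolvable.solvable (G := G))
  have hn : derivedSeries G (Nat.find hsol) = ⊥ := Nat.find_spec hsol
  have hn0 : Nat.find hsol ≠ 0 := by
    intro h0
    rw [h0, derivedSeries_zero] at hn
    exact top_ne_bot hn
  obtain ⟨k, hk⟩ := Nat.exists_eq_succ_of_ne_zero hn0
  have hA : derivedSeries G k ≠ ⊥ := Nat.find_min hsol (by omega)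
  have hAab : ∀ x ∈ derivedSeries G k, ∀ y ∈ derivedSeries G k, x * y = y * x := by
    intro x hx y hy
    have h1 : ⁅x, y⁆ ∈ derivedSeries G (k + 1) := Subgroup.commutator_mem_commutator hx hy
    rw [← Nat.succ_eq_add_one, ← hk, hn, Subgroup.mem_bot] at h1
    exact (commutatorElement_eq_one_iff_mul_comm.1 h1)
  obtain ⟨a, ha1⟩ := (Subgroup.ne_bot_iff_exists_ne_one).1 hA
  have ha : a.1 ≠ 1 := fun h => ha1 (Subtype.ext h)
  have ho1 : orderOf a.1 ≠ 1 := fun h => ha (orderOf_eq_one_iff.1 h)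
  have hp : (Nat.minFac (orderOf a.1)).Prime := Nat.minFac_prime ho1
  haveI := derivedSeries_normal G k
  refine ⟨Nat.minFac (orderOf a.1), omegaOfComm _ hAab (Nat.minFac (orderOf a.1)), hp,
    ?_, ?_, ?_, ?_⟩
  · constructor
    rintro x ⟨hx, hx'⟩ g
    refine ⟨(derivedSeries_normal G k).conj_mem x hx g, ?_⟩
    rw [conj_pow, hx', mul_one, mul_inv_cancel]
  · intro hbot
    obtain ⟨t, ht⟩ := Nat.minFac_dvd (orderOf a.1)
    have htpos : 0 < t := by
      rcases Nat.eq_zero_or_pos t with h | h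
      · rw [h, mul_zero] at ht
        exact absurd ht (orderOf_pos a.1).ne'
      · exact h
    have h1 : a.1 ^ t ∈ omegaOfComm _ hAab (Nat.minFac (orderOf a.1)) := by
      refine ⟨pow_mem a.2 t, ?_⟩
      rw [← pow_mul, mul_comm, ← ht, pow_orderOf_eq_one]
    rw [hbot, Subgroup.mem_bot] at h1
    have h2 : t < orderOf a.1 := by
      have := hp.two_le
      nlinarith
    exact pow_ne_one_of_lt_orderOf htpos.ne' h2 h1
  · rintro x ⟨_, hx'⟩
    exact hx'
  · rintro x ⟨hx, _⟩ y ⟨hy, _⟩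
    exact hAab x hx y hy

end Cfsg.Agent.Helper7
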