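import Mathlib
import Cfsg.Agent.S0041
import Cfsg.Agent.Lead.Fpf
import Cfsg.Agent.Helper7.FrobKer
import Cfsg.Agent.Helper7.CentSolv
import Cfsg.Agent.Helper7.CoprimeAct
import Cfsg.Agent.Helper7.Solvable

set_option autoImplicit false

universe u

namespace Cfsg.Agent.Helper7

open Cfsg
open scoped Pointwise

/-- Relative version of `exists_sylow_normalized_of_complement`. -/
theorem exists_sylow_normalized_rel {G : Type u} [Group G] [Finite G] (K M : Subgroup G)
    (hMK : M ≤ Subgroup.normalizer (K : Set G)) (hKM : K ⊓ M = ⊥)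
    (hcop : (Nat.card K).Coprime (Nat.card M)) (hM : Group.IsSolvable M) (q : ℕ)
    [Fact q.Prime] :
    ∃ Q : Subgroup G, Q ≤ K ∧ IsPGroup q Q ∧ Nat.card Q = q ^ (Nat.card K).factorization q ∧
      M ≤ Subgroup.normalizer (Q : Set G) := by
  set X : Subgroup G := K ⊔ M with hX
  have hKX : K ≤ X := le_sup_left
  have hMX : M ≤ X := le_sup_right
  haveI : (K.subgroupOf X).Normal :=
    Subgroup.normal_subgroupOf_of_le_normalizer (sup_le Subgroup.le_normalizer hMK)
  have h1 : K.subgroupOf X ⊓ M.subgroupOf X = ⊥ := Helper3.subgroupOf_inf_eq_bot X K M hKM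
  have h2 : K.subgroupOf X ⊔ M.subgroupOf X = ⊤ :=
    Helper3.subgroupOf_sup_eq_top X K M hKX hMX rfl
  have h3 : Nat.card (K.subgroupOf X) = Nat.card K := Helper3.card_subgroupOf_of_le hKX
  have h4 : Nat.card (M.subgroupOf X) = Nat.card M := Helper3.card_subgroupOf_of_le hMX
  have h5 : Group.IsSolvable (M.subgroupOf X) := by
    haveI := hM
    exact Group.isSolvable_of_isSolvable_injective
      (f := (Subgroup.subgroupOfEquivOfLe hMX).toMonoidHom)
      (Subgroup.subgroupOfEquivOfLe hMX).injective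
  obtain ⟨Q', hQ'K, hQ'p, hQ'c, hQ'n⟩ := exists_sylow_normalized_of_complement
    (K.subgroupOf X) (M.subgroupOf X) h1 h2 (by rw [h3, h4]; exact hcop) h5 q
  refine ⟨Q'.map X.subtype, ?_, hQ'p.map _, ?_, ?_⟩
  · intro y hy
    obtain ⟨y', hy', rfl⟩ := Subgroup.mem_map.1 hy
    exact Subgroup.mem_subgroupOf.1 (hQ'K hy')
  · rw [← h3, ← hQ'c]
    exact (Nat.card_congr (Subgroup.equivMapOfInjective _ _ X.subtype_injective).toEquiv).symm
  · apply le_normalizer_of_forall_conj_mem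
    intro u hu y hy
    obtain ⟨y', hy', rfl⟩ := Subgroup.mem_map.1 hy
    have hu' : (⟨u, hMX hu⟩ : X) ∈ M.subgroupOf X := Subgroup.mem_subgroupOf.2 hu
    have h6 := (Subgroup.mem_normalizer_iff.1 (hQ'n hu') y').1 hy'
    exact Subgroup.mem_map.2 ⟨_, h6, rfl⟩

/-- Membership in the image of the centre of a subgroup. -/
theorem mem_map_center_iff {G : Type u} [Group G] (R : Subgroup G) (z : G) :
    z ∈ (Subgroup.center R).map R.subtype ↔ z ∈ R ∧ ∀ y ∈ R, y * z = z * y := by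
  constructor
  · intro hz
    obtain ⟨z', hz', rfl⟩ := Subgroup.mem_map.1 hz
    refine ⟨z'.2, fun y hy => ?_⟩
    have := Subgroup.mem_center_iff.1 hz' ⟨y, hy⟩
    exact congrArg Subtype.val this
  · rintro ⟨hzR, hz⟩
    refine Subgroup.mem_map.2 ⟨⟨z, hzR⟩, ?_, rfl⟩
    rw [Subgroup.mem_center_iff]
    intro y
    exact Subtype.ext (hz y y.2)

/-- The normalizer of a subgroup normalizes its centre. -/
theorem conj_mem_map_center {G : Type u} [Group G] (R : Subgroup G) (a z : G)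
    (ha : a ∈ Subgroup.normalizer (R : Set G)) (hz : z ∈ (Subgroup.center R).map R.subtype) :
    a * z * a⁻¹ ∈ (Subgroup.center R).map R.subtype := by
  rw [mem_map_center_iff] at hz ⊢
  refine ⟨(Subgroup.mem_normalizer_iff.1 ha z).1 hz.1, fun y hy => ?_⟩
  have h1 : a⁻¹ * y * a ∈ R := by
    have := (Subgroup.mem_normalizer_iff.1 (Subgroup.inv_mem _ ha) y).1 hy
    simpa using this
  have h2 := hz.2 _ h1
  calc y * (a * z * a⁻¹) = a * ((a⁻¹ * y * a) * z) * a⁻¹ := by group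
    _ = a * (z * (a⁻¹ * y * a)) * a⁻¹ := by rw [h2]
    _ = a * z * a⁻¹ * y := by group

/-- A solvable group acting without fixed points on a nontrivial group normalizes a nontrivial
abelian subgroup of it. -/
theorem fpf_exists_abelian_invariant {G : Type u} [Group G] [Finite G] (A K : Subgroup G)
    (hAK : A ≤ Subgroup.normalizer (K : Set G)) (hK : K ≠ ⊥)
    (hfpf : ∀ a ∈ A, a ≠ 1 → K ⊓ Subgroup.centralizer {a} = ⊥) (hA : Group.IsSolvable A) :
    ∃ V : Subgroup G, V ≤ K ∧ V ≠ ⊥ ∧ (∀ x ∈ V, ∀ y ∈ V, x * y = y * x) ∧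
      A ≤ Subgroup.normalizer (V : Set G) := by
  have hcop : (Nat.card A).Coprime (Nat.card K) := Lead.fpf_coprime A K hAK hfpf
  have hKA : K ⊓ A = ⊥ := (Subgroup.disjoint_of_coprime_natCard hcop.symm).eq_bot
  have hK1 : Nat.card K ≠ 1 := by
    intro h
    exact hK (Subgroup.card_eq_one.1 h)
  obtain ⟨r, hr, hrd⟩ := Nat.exists_prime_and_dvd hK1
  haveI : Fact r.Prime := ⟨hr⟩
  obtain ⟨R, hRK, hRp, hRc, hRn⟩ := exists_sylow_normalized_rel K A hAK hKA hcop.symm hA r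
  have hR1 : 1 < Nat.card R := by
    rw [hRc]
    exact Nat.one_lt_pow (hr.factorization_pos_of_dvd Nat.card_pos.ne' hrd).ne' hr.one_lt
  haveI : Nontrivial R := Finite.one_lt_card_iff_nontrivial.1 hR1
  have hcen : Nontrivial (Subgroup.center R) := hRp.center_nontrivial
  refine ⟨(Subgroup.center R).map R.subtype, ?_, ?_, ?_, ?_⟩
  · intro z hz
    exact hRK ((mem_map_center_iff R z).1 hz).1
  · obtain ⟨z, hz⟩ := exists_ne (1 : Subgroup.center R)
    intro h
    have h1 : ((z : R) : G) ∈ (Subgroup.center R).map R.subtype :=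
      Subgroup.mem_map.2 ⟨z, z.2, rfl⟩
    rw [h, Subgroup.mem_bot] at h1
    apply hz
    apply Subtype.ext
    apply Subtype.ext
    exact h1
  · intro x hx y hy
    exact (((mem_map_center_iff R y).1 hy).2 x ((mem_map_center_iff R x).1 hx).1)
  · apply le_normalizer_of_forall_conj_mem
    intro a ha z hz
    exact conj_mem_map_center R a z (hRn ha) hz

/-- A solvable group acting without fixed points on a nontrivial group is cyclic if it is abelian
or of order a product of two primes. -/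
theorem fpf_isCyclic {G : Type u} [Group G] [Finite G] (A K : Subgroup G)
    (hAK : A ≤ Subgroup.normalizer (K : Set G)) (hK : K ≠ ⊥)
    (hfpf : ∀ a ∈ A, a ≠ 1 → K ⊓ Subgroup.centralizer {a} = ⊥) (hAs : Group.IsSolvable A)
    (hA : IsMulCommutative A ∨ ∃ p q : ℕ, p.Prime ∧ q.Prime ∧ Nat.card A = p * q) :
    IsCyclic A := by
  obtain ⟨V, hVK, hV, hVc, hAV⟩ := fpf_exists_abelian_invariant A K hAK hK hfpf hAs
  haveI : IsMulCommutative V := ⟨⟨fun a b => Subtype.ext (hVc a a.2 b b.2)⟩⟩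
  refine Cfsg.Agent.S0041.result A V hV hAV ?_ hA
  intro a ha ha1
  rw [eq_bot_iff]
  intro x hx
  rw [Subgroup.mem_inf] at hx
  rw [← hfpf a ha ha1]
  exact Subgroup.mem_inf.2 ⟨hVK hx.1, hx.2⟩

/-- A group acting without fixed points on a nontrivial group contains no Frobenius group:
no subgroup `L` of it has a Frobenius complement `D`. -/
theorem fpf_no_frobenius {G : Type u} [Group G] [Finite G] (K L D : Subgroup G)
    (hLK : L ≤ Subgroup.normalizer (K : Set G)) (hK : K ≠ ⊥)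
    (hfpf : ∀ l ∈ L, l ≠ 1 → K ⊓ Subgroup.centralizer {l} = ⊥)
    (hDL : D ≤ L) (hD1 : D ≠ ⊥) (hDL' : D ≠ L)
    (hTI : ∀ l ∈ L, l ∉ D → ∀ x ∈ D, l⁻¹ * x * l ∈ D → x = 1) : False := by
  -- `D` is a Frobenius complement in `L`
  have hFrob : IsFrobeniusComplement (D.subgroupOf L) := by
    refine ⟨?_, ?_, ?_⟩
    · intro h
      apply hD1
      rw [eq_bot_iff]
      intro d hd
      have h1 : (⟨d, hDL hd⟩ : L) ∈ D.subgroupOf L := Subgroup.mem_subgroupOf.2 hd
      rw [h, Subgroup.mem_bot] at h1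
      rw [Subgroup.mem_bot]
      exact congrArg Subtype.val h1
    · intro h
      apply hDL'
      apply le_antisymm hDL
      intro l hl
      have h1 : (⟨l, hl⟩ : L) ∈ D.subgroupOf L := by
        rw [h]
        trivial
      exact Subgroup.mem_subgroupOf.1 h1
    · intro g hg
      rw [eq_bot_iff]
      intro x hx
      rw [Subgroup.mem_inf, Lead.mem_conj_smul_iff'] at hx
      rw [Subgroup.mem_bot]
      apply Subtype.ext
      exact hTI g g.2 (fun h => hg (Subgroup.mem_subgroupOf.2 h)) x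
        (Subgroup.mem_subgroupOf.1 hx.1) (Subgroup.mem_subgroupOf.1 hx.2)
  obtain ⟨L₁', hL₁set, hL₁n, hL₁D, hL₁Dt, hcard, hcop, hL₁bot⟩ := frob_kernel_data _ hFrob
  set L₁ : Subgroup G := L₁'.map L.subtype with hL₁
  have hL₁L : L₁ ≤ L := Subgroup.map_subtype_le _
  have hL₁mem : ∀ y : G, y ∈ L₁ ↔ ∃ hy : y ∈ L, (⟨y, hy⟩ : L) ∈ L₁' := by
    intro y
    constructor
    · intro hy
      obtain ⟨y', hy', rfl⟩ := Subgroup.mem_map.1 hy
      exact ⟨y'.2, hy'⟩
    · rintro ⟨hy, hy'⟩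
      exact Subgroup.mem_map.2 ⟨_, hy', rfl⟩
  have hcardL₁ : Nat.card L₁ = Nat.card L₁' :=
    (Nat.card_congr (Subgroup.equivMapOfInjective _ _ L.subtype_injective).toEquiv).symm
  have hcardD : Nat.card (D.subgroupOf L) = Nat.card D := Helper3.card_subgroupOf_of_le hDL
  have hcop' : (Nat.card L₁).Coprime (Nat.card D) := by
    rw [hcardL₁, ← hcardD]
    exact hcop
  have hL₁D' : ∀ y ∈ L₁, y ∈ D → y = 1 := by
    intro y hy hyD
    obtain ⟨hyL, hy'⟩ := (hL₁mem y).1 hy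
    have h1 : (⟨y, hyL⟩ : L) ∈ L₁' ⊓ D.subgroupOf L :=
      Subgroup.mem_inf.2 ⟨hy', Subgroup.mem_subgroupOf.2 hyD⟩
    rw [hL₁D, Subgroup.mem_bot] at h1
    exact congrArg Subtype.val h1
  have hL₁ne : L₁ ≠ ⊥ := by
    intro h
    apply hL₁bot
    rw [eq_bot_iff]
    intro y hy
    have h1 : (y : G) ∈ L₁ := (hL₁mem _).2 ⟨y.2, hy⟩
    rw [h, Subgroup.mem_bot] at h1
    rw [Subgroup.mem_bot]
    exact Subtype.ext h1
  have hLL₁ : L ≤ Subgroup.normalizer (L₁ : Set G) := by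
    apply le_normalizer_of_forall_conj_mem
    intro u hu y hy
    obtain ⟨hyL, hy'⟩ := (hL₁mem y).1 hy
    have h1 := hL₁n.conj_mem _ hy' ⟨u, hu⟩
    exact (hL₁mem _).2 ⟨L.mul_mem (L.mul_mem hu hyL) (L.inv_mem hu), h1⟩
  -- an element `x` of prime order `p` in `D`
  have hD1' : Nat.card D ≠ 1 := fun h => hD1 (Subgroup.card_eq_one.1 h)
  obtain ⟨p, hp, hpd⟩ := Nat.exists_prime_and_dvd hD1'
  haveI : Fact p.Prime := ⟨hp⟩
  obtain ⟨x', hx'⟩ := exists_prime_orderOf_dvd_card' p hpd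
  set x : G := (x' : G) with hxdef
  have hxD : x ∈ D := x'.2
  have hxord : orderOf x = p := by
    rw [hxdef, Subgroup.orderOf_coe, hx']
  have hx1 : x ≠ 1 := by
    intro h
    rw [h, orderOf_one] at hxord
    exact hp.one_lt.ne hxord
  set P : Subgroup G := Subgroup.zpowers x with hP
  have hPD : P ≤ D := Subgroup.zpowers_le.2 hxD
  have hPcard : Nat.card P = p := by
    rw [hP, Nat.card_zpowers, hxord]
  have hPp : IsPGroup p P := IsPGroup.of_card (n := 1) (by rw [hPcard, pow_one])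
  have hpL₁ : ¬ p ∣ Nat.card L₁ := by
    intro h
    have := Nat.dvd_gcd h hpd
    rw [Nat.Coprime.gcd_eq_one hcop'] at this
    exact hp.one_lt.ne' (Nat.dvd_one.1 this)
  -- an invariant Sylow `q`-subgroup `Q` of `L₁`
  have hL₁1 : Nat.card L₁ ≠ 1 := fun h => hL₁ne (Subgroup.card_eq_one.1 h)
  obtain ⟨q, hq, hqd⟩ := Nat.exists_prime_and_dvd hL₁1
  haveI : Fact q.Prime := ⟨hq⟩
  obtain ⟨Q, hQL₁, hQp, hQc, hPQ, -⟩ := exists_invariant_sylow p q P L₁ hPp
    ((hPD.trans hDL).trans hLL₁) hpL₁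
  have hQ1 : 1 < Nat.card Q := by
    rw [hQc]
    exact Nat.one_lt_pow (hq.factorization_pos_of_dvd Nat.card_pos.ne' hqd).ne' hq.one_lt
  haveI : Nontrivial Q := Finite.one_lt_card_iff_nontrivial.1 hQ1
  have hcen : Nontrivial (Subgroup.center Q) := hQp.center_nontrivial
  set Zq : Subgroup G := (Subgroup.center Q).map Q.subtype with hZq
  have hZqc : ∀ a ∈ Zq, ∀ b ∈ Zq, a * b = b * a := fun a ha b hb =>
    (((mem_map_center_iff Q b).1 hb).2 a ((mem_map_center_iff Q a).1 ha).1)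
  set Ω : Subgroup G := omegaOfComm Zq hZqc q with hΩ
  have hΩL₁ : Ω ≤ L₁ := fun z hz =>
    hQL₁ ((mem_map_center_iff Q z).1 ((mem_omegaOfComm Zq hZqc q z).1 hz).1).1
  have hΩL : Ω ≤ L := hΩL₁.trans hL₁L
  -- `Ω ≠ ⊥`
  have hcenp : IsPGroup q (Subgroup.center Q) := hQp.to_subgroup _
  have hqcen : q ∣ Nat.card (Subgroup.center Q) := by
    obtain ⟨n, hn⟩ := IsPGroup.iff_card.1 hcenp
    have hn0 : n ≠ 0 := by
      intro h0
      rw [h0, pow_zero] at hn
      have := Finite.one_lt_card_iff_nontrivial.2 hcen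
      omega
    rw [hn]
    exact dvd_pow_self q hn0
  obtain ⟨z', hz'⟩ := exists_prime_orderOf_dvd_card' q hqcen
  set z : G := ((z' : Q) : G) with hzdef
  have hzord : orderOf z = q := by
    rw [hzdef, Subgroup.orderOf_coe, Subgroup.orderOf_coe, hz']
  have hz1 : z ≠ 1 := by
    intro h
    rw [h, orderOf_one] at hzord
    exact hq.one_lt.ne hzord
  have hzΩ : z ∈ Ω := by
    rw [hΩ, mem_omegaOfComm]
    refine ⟨Subgroup.mem_map.2 ⟨z', z'.2, rfl⟩, ?_⟩
    rw [← hzord]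
    exact pow_orderOf_eq_one z
  have hΩne : Ω ≠ ⊥ := by
    intro h
    rw [h, Subgroup.mem_bot] at hzΩ
    exact hz1 hzΩ
  -- `Ω` is cyclic of order `q`
  have hfpfΩ : ∀ a ∈ Ω, a ≠ 1 → K ⊓ Subgroup.centralizer {a} = ⊥ :=
    fun a ha => hfpf a (hΩL ha)
  have hΩcomm : IsMulCommutative Ω := ⟨⟨fun a b => Subtype.ext
    (hZqc a ((mem_omegaOfComm Zq hZqc q a).1 a.2).1 b ((mem_omegaOfComm Zq hZqc q b).1 b.2).1)⟩⟩
  have hΩsol : Group.IsSolvable Ω :=
    Group.isSolvable_of_comm (fun a b => hΩcomm.is_comm.comm a b)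
  have hΩcyc : IsCyclic Ω := fpf_isCyclic Ω K (hΩL.trans hLK) hK hfpfΩ hΩsol (Or.inl hΩcomm)
  have hΩcard : Nat.card Ω = q := by
    have h1 : Monoid.exponent Ω = Nat.card Ω := IsCyclic.exponent_eq_card
    have h2 : Monoid.exponent Ω ∣ q := by
      apply Monoid.exponent_dvd_of_forall_pow_eq_one
      intro a
      apply Subtype.ext
      exact ((mem_omegaOfComm Zq hZqc q a).1 a.2).2
    rw [h1] at h2
    rcases (Nat.dvd_prime hq).1 h2 with h3 | h3
    · exact absurd (Subgroup.card_eq_one.1 h3) hΩne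
    · exact h3
  -- `P` normalizes `Ω`
  have hPΩ : P ≤ Subgroup.normalizer (Ω : Set G) := by
    apply le_normalizer_of_forall_conj_mem
    intro u hu a ha
    rw [hΩ, mem_omegaOfComm] at ha ⊢
    refine ⟨conj_mem_map_center Q u a (hPQ hu) ha.1, ?_⟩
    rw [conj_pow, ha.2]
    group
  -- the group `F = Ω P` of order `p q`
  set F : Subgroup G := Ω ⊔ P with hF
  have hFL : F ≤ L := sup_le hΩL (hPD.trans hDL)
  have hFsol : Group.IsSolvable F :=
    Helper3.sup_solvable_of_le_normalizer Ω P hPΩ hΩsol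
      (Group.isSolvable_of_comm (fun a b =>
        (inferInstance : IsMulCommutative (Subgroup.zpowers x)).is_comm.comm a b))
  have hpq : p ≠ q := by
    intro h
    apply hpL₁
    rw [h]
    exact hqd
  have hFcard : Nat.card F = p * q := by
    have h1 : Nat.card F ∣ Nat.card Ω * Nat.card P :=
      Helper3.card_sup_dvd_mul_of_le_normalizer Ω P hPΩ
    rw [hΩcard, hPcard] at h1
    have h2 : q ∣ Nat.card F := hΩcard ▸ Subgroup.card_dvd_of_le (le_sup_left : Ω ≤ F)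
    have h3 : p ∣ Nat.card F := hPcard ▸ Subgroup.card_dvd_of_le (le_sup_right : P ≤ F)
    have h4 : p * q ∣ Nat.card F :=
      Nat.Coprime.mul_dvd_of_dvd_of_dvd ((Nat.coprime_primes hp hq).2 hpq) h3 h2
    rw [mul_comm] at h1
    exact Nat.dvd_antisymm h1 h4
  have hfpfF : ∀ a ∈ F, a ≠ 1 → K ⊓ Subgroup.centralizer {a} = ⊥ :=
    fun a ha => hfpf a (hFL ha)
  have hFcyc : IsCyclic F := fpf_isCyclic F K (hFL.trans hLK) hK hfpfF hFsol
    (Or.inr ⟨p, q, hp, hq, hFcard⟩)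
  -- but `x` does not commute with `z`
  have hcomm : (⟨x, (le_sup_right : P ≤ F) (Subgroup.mem_zpowers x)⟩ : F) *
      ⟨z, (le_sup_left : Ω ≤ F) hzΩ⟩ = ⟨z, (le_sup_left : Ω ≤ F) hzΩ⟩ *
      ⟨x, (le_sup_right : P ≤ F) (Subgroup.mem_zpowers x)⟩ := by
    obtain ⟨g, hg⟩ := hFcyc
    obtain ⟨i, hi⟩ := Subgroup.mem_zpowers_iff.1 (hg ⟨x, (le_sup_right : P ≤ F)
      (Subgroup.mem_zpowers x)⟩)
    obtain ⟨j, hj⟩ := Subgroup.mem_zpowers_iff.1 (hg ⟨z, (le_sup_left : Ω ≤ F) hzΩ⟩)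
    rw [← hi, ← hj, ← zpow_add, ← zpow_add, add_comm]
  have hxz : x * z = z * x := congrArg Subtype.val hcomm
  have hzD : z ∉ D := fun h => hz1 (hL₁D' z (hΩL₁ hzΩ) h)
  have h9 : z⁻¹ * x * z = x := by
    rw [mul_assoc, hxz]
    group
  exact hx1 (hTI z (hΩL hzΩ) hzD x hxD (by rw [h9]; exact hxD))

end Cfsg.Agent.Helper7
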