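import Mathlib
import Cfsg.Prelude.Def_Solvable
import Cfsg.Agent.Lead.Fitting
import Cfsg.Agent.Helper7.EqOrdFit
import Cfsg.Agent.Helper7.FrobCompl
import Cfsg.Agent.S0016

set_option autoImplicit false

universe u

namespace Cfsg.Agent.Helper7

open Cfsg

/-- A finite `q`-group all of whose abelian subgroups are cyclic has at most one subgroup of
order `q`. -/
theorem unique_subgroup_prime_of_abelian_cyclic {T : Type u} [Group T] [Finite T] (q : ℕ)
    [Fact q.Prime] (hT : IsPGroup q T)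
    (hab : ∀ E : Subgroup T, (∀ x ∈ E, ∀ y ∈ E, x * y = y * x) → IsCyclic E) :
    ∀ H K : Subgroup T, Nat.card H = q → Nat.card K = q → H = K := by
  have hq : q.Prime := Fact.out
  have key : ∀ H : Subgroup T, Nat.card H = q → ∀ z : T, z ∈ Subgroup.center T →
      orderOf z = q → H = Subgroup.zpowers z := by
    intro H hH z hz hzq
    have hzc : ∀ a ∈ Subgroup.zpowers z, ∀ t : T, a * t = t * a := by
      intro a ha t
      exact (Subgroup.mem_center_iff.1 ((Subgroup.zpowers_le.2 hz) ha) t).symm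
    haveI hzn : (Subgroup.zpowers z).Normal := by
      constructor
      intro a ha t
      have e : t * a * t⁻¹ = a := by
        rw [mul_assoc, hzc a ha t⁻¹, ← mul_assoc, mul_inv_cancel, one_mul]
      rw [e]
      exact ha
    have hHcomm : ∀ x ∈ H, ∀ y ∈ H, x * y = y * x := by
      haveI : IsCyclic H := isCyclic_of_prime_card (p := q) hH
      letI := IsCyclic.commGroup (α := H)
      intro x hx y hy
      have := mul_comm (⟨x, hx⟩ : H) ⟨y, hy⟩
      exact congrArg Subtype.val this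
    have hEdecomp : ∀ x ∈ H ⊔ Subgroup.zpowers z, ∃ h ∈ H, ∃ a ∈ Subgroup.zpowers z,
        x = h * a := by
      intro x hx
      have hx' : x ∈ ((H ⊔ Subgroup.zpowers z : Subgroup T) : Set T) := hx
      rw [Subgroup.mul_normal] at hx'
      obtain ⟨h, hh, a, ha, rfl⟩ := Set.mem_mul.1 hx'
      exact ⟨h, hh, a, ha, rfl⟩
    have hEcomm : ∀ x ∈ H ⊔ Subgroup.zpowers z, ∀ y ∈ H ⊔ Subgroup.zpowers z,
        x * y = y * x := by
      intro x hx y hy
      obtain ⟨h, hh, a, ha, rfl⟩ := hEdecomp x hx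
      obtain ⟨h', hh', a', ha', rfl⟩ := hEdecomp y hy
      calc h * a * (h' * a') = h * (a * h') * a' := by group
        _ = h * (h' * a) * a' := by rw [hzc a ha h']
        _ = (h * h') * (a * a') := by group
        _ = (h' * h) * (a' * a) := by rw [hHcomm h hh h' hh', hzc a ha a']
        _ = h' * (h * a') * a := by group
        _ = h' * (a' * h) * a := by rw [hzc a' ha' h]
        _ = h' * a' * (h * a) := by group
    have hEcyc : IsCyclic ↥(H ⊔ Subgroup.zpowers z) := hab _ hEcomm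
    obtain ⟨g, hg⟩ := hEcyc.exists_generator
    have hEq : ∀ x ∈ H ⊔ Subgroup.zpowers z, x ^ q = 1 := by
      intro x hx
      obtain ⟨h, hh, a, ha, rfl⟩ := hEdecomp x hx
      have h1 : h ^ q = 1 := by
        have : (⟨h, hh⟩ : H) ^ Nat.card H = 1 := pow_card_eq_one'
        rw [hH] at this
        exact congrArg Subtype.val this
      have h2 : a ^ q = 1 := by
        obtain ⟨k, rfl⟩ := Subgroup.mem_zpowers_iff.1 ha
        rw [← zpow_natCast, ← zpow_mul, mul_comm, zpow_mul, zpow_natCast, ← hzq,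
          pow_orderOf_eq_one, one_zpow]
      rw [(show Commute h a from (hzc a ha h).symm).mul_pow, h1, h2, one_mul]
    have hcardE : Nat.card ↥(H ⊔ Subgroup.zpowers z) ≤ q := by
      have h1 : orderOf g = Nat.card ↥(H ⊔ Subgroup.zpowers z) :=
        orderOf_eq_card_of_forall_mem_zpowers hg
      have h2 : g ^ q = 1 := Subtype.ext (hEq g g.2)
      rw [← h1]
      exact Nat.le_of_dvd hq.pos (orderOf_dvd_of_pow_eq_one h2)
    have e1 : H = H ⊔ Subgroup.zpowers z :=
      Subgroup.eq_of_le_of_card_ge le_sup_left (by rw [hH]; exact hcardE)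
    have e2 : Subgroup.zpowers z = H ⊔ Subgroup.zpowers z :=
      Subgroup.eq_of_le_of_card_ge le_sup_right (by rw [Nat.card_zpowers, hzq]; exact hcardE)
    exact e1.trans e2.symm
  intro H K hH hK
  haveI : Nontrivial T := by
    have h1 : 1 < Nat.card H := by rw [hH]; exact hq.one_lt
    have h2 : Nat.card H ≤ Nat.card T := Subgroup.card_le_card_group H
    exact Finite.one_lt_card_iff_nontrivial.1 (lt_of_lt_of_le h1 h2)
  have hZ : Nontrivial (Subgroup.center T) := hT.center_nontrivial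
  have hdvd : q ∣ Nat.card (Subgroup.center T) := by
    obtain ⟨k, hk⟩ := IsPGroup.iff_card.mp (hT.to_subgroup (Subgroup.center T))
    have hk0 : k ≠ 0 := by
      rintro rfl
      rw [pow_zero] at hk
      exact (Finite.one_lt_card_iff_nontrivial.mpr hZ).ne' hk
    rw [hk]
    exact dvd_pow_self q hk0
  obtain ⟨z, hz⟩ := exists_prime_orderOf_dvd_card' q hdvd
  have hzq : orderOf (z : T) = q := by rw [Subgroup.orderOf_coe]; exact hz
  rw [key H hH z z.2 hzq, key K hK z z.2 hzq]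

/-- `q`-elements of the Fitting subgroup lie in `O_q`. -/
theorem mem_pCore_of_mem_fitting_of_pow {G : Type u} [Group G] [Finite G] (q : ℕ)
    [Fact q.Prime] (x : G) (hx : x ∈ fittingSubgroup G) (k : ℕ) (hxk : x ^ (q ^ k) = 1) :
    x ∈ pCore q G := by
  have hq : q.Prime := Fact.out
  obtain ⟨hOn, hOq⟩ := Lead.pCore_normal_isPGroup (G := G) q
  obtain ⟨hLn, hLc⟩ := Lead.sSup_pCore_ne_coprime (G := G) q
  haveI := hOn
  rw [Lead.fitting_eq_iSup_pCore, Lead.iSup_pCore_eq_sup q] at hx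
  have hx' : x ∈ ((pCore q G ⊔
      sSup {N : Subgroup G | ∃ r : Nat.Primes, (r : ℕ) ≠ q ∧ N = Cfsg.pCore (r : ℕ) G} :
        Subgroup G) : Set G) := hx
  rw [Subgroup.normal_mul] at hx'
  obtain ⟨a, ha, l, hl, rfl⟩ := Set.mem_mul.1 hx'
  have hz : IsPGroup q (Subgroup.zpowers (a * l)) := by
    obtain ⟨j, -, hj⟩ := (Nat.dvd_prime_pow hq).1 (orderOf_dvd_of_pow_eq_one hxk)
    exact IsPGroup.of_card (n := j) (by rw [Nat.card_zpowers, hj])
  have hW : IsPGroup q (pCore q G ⊔ Subgroup.zpowers (a * l) : Subgroup G) :=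
    IsPGroup.to_sup_of_normal_left hOq hz
  have hlW : l ∈ pCore q G ⊔ Subgroup.zpowers (a * l) := by
    have e : l = a⁻¹ * (a * l) := by group
    have h0 : a⁻¹ * (a * l) ∈ pCore q G ⊔ Subgroup.zpowers (a * l) :=
      Subgroup.mul_mem _ (Subgroup.mem_sup_left (Subgroup.inv_mem _ ha))
        (Subgroup.mem_sup_right (Subgroup.mem_zpowers _))
    rw [← e] at h0
    exact h0
  have hl1 : l = 1 := by
    obtain ⟨i, hi⟩ := hW ⟨l, hlW⟩
    have h1 : l ^ (q ^ i) = 1 := congrArg Subtype.val hi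
    have h2 : orderOf l ∣ q ^ i := orderOf_dvd_of_pow_eq_one h1
    have h3 : orderOf l ∣ Nat.card ↥(sSup {N : Subgroup G | ∃ r : Nat.Primes, (r : ℕ) ≠ q ∧
        N = Cfsg.pCore (r : ℕ) G}) := by
      have := orderOf_dvd_natCard (⟨l, hl⟩ : ↥(sSup {N : Subgroup G | ∃ r : Nat.Primes,
        (r : ℕ) ≠ q ∧ N = Cfsg.pCore (r : ℕ) G}))
      rwa [Subgroup.orderOf_mk] at this
    have h4 : orderOf l = 1 :=
      Nat.eq_one_of_dvd_coprimes (Nat.Coprime.pow_left i hLc.symm) h2 h3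
    exact orderOf_eq_one_iff.1 h4
  rw [hl1, mul_one]
  exact ha

/-- Equal order pairs with `N` nilpotent of non-prime-power order: `N = F(G)` and the Sylow
subgroups of `G ⧸ N` are cyclic or generalized quaternion. -/
theorem equal_order_nilpotent {G : Type u} [Group G] [Finite G] (N : Subgroup G)
    [hNn : N.Normal] (hN1 : N ≠ ⊥)
    (heq : ∀ x : G, x ∉ N → ∀ n ∈ N, orderOf (x * n) = orderOf x)
    (hnil : Group.IsNilpotent N) (hnpp : ¬ IsPrimePow (Nat.card N)) :
    N = Cfsg.fittingSubgroup G ∧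
    ∀ (q : ℕ) [Fact q.Prime] (Q : Sylow q (G ⧸ N)), IsCyclic (Q : Subgroup (G ⧸ N)) ∨
      ∃ n : ℕ, Nonempty ((Q : Subgroup (G ⧸ N)) ≃* QuaternionGroup (2 ^ n)) := by
  have hNF : N = Cfsg.fittingSubgroup G := by
    obtain ⟨-, h2⟩ := equal_order_fitting N hN1 heq
    have hle : N ≤ Cfsg.fittingSubgroup G := le_sSup ⟨hNn, hnil⟩
    by_contra hne
    have hlt : N < Cfsg.fittingSubgroup G := lt_of_le_of_ne hle hne
    obtain ⟨p, k, hp, hk, hpk⟩ := h2 hlt
    have hp' : p.Prime := Nat.prime_iff.2 hp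
    have hdvd : Nat.card N ∣ p ^ k := by
      rw [hpk]
      exact Subgroup.card_dvd_of_le hle
    obtain ⟨j, -, hj⟩ := (Nat.dvd_prime_pow hp').1 hdvd
    apply hnpp
    rw [hj]
    have hj0 : j ≠ 0 := by
      rintro rfl
      rw [pow_zero] at hj
      exact hN1 (Subgroup.card_eq_one.1 hj)
    exact IsPrimePow.pow hp'.isPrimePow hj0
  refine ⟨hNF, ?_⟩
  intro q _ Q
  have hq : q.Prime := Fact.out
  obtain ⟨p, hp, hpN, hpq⟩ : ∃ p : ℕ, p.Prime ∧ p ∣ Nat.card N ∧ p ≠ q := by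
    by_contra hcon
    push Not at hcon
    have hcard1 : Nat.card N ≠ 1 := fun h => hN1 (Subgroup.card_eq_one.1 h)
    have h1 := Nat.eq_prime_pow_of_unique_prime_dvd (n := Nat.card N) (p := q)
      Nat.card_pos.ne' (fun {r} hr hrd => hcon r hr hrd)
    apply hnpp
    rw [h1]
    apply IsPrimePow.pow hq.isPrimePow
    intro h0
    rw [h0, pow_zero] at h1
    exact hcard1 h1
  haveI : Fact p.Prime := ⟨hp⟩
  obtain ⟨hPn, hPp⟩ := Lead.pCore_normal_isPGroup (G := G) p
  obtain ⟨hOn, hOq⟩ := Lead.pCore_normal_isPGroup (G := G) q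
  haveI := hPn
  haveI := hOn
  have hP1 : pCore p G ≠ ⊥ := by
    intro hb
    obtain ⟨hLn, hLc⟩ := Lead.sSup_pCore_ne_coprime (G := G) p
    have h1 := Lead.iSup_pCore_eq_sup (G := G) p
    rw [hb, bot_sup_eq, ← Lead.fitting_eq_iSup_pCore, ← hNF] at h1
    rw [← h1] at hLc
    exact (Nat.Prime.coprime_iff_not_dvd hp).1 hLc.symm hpN
  have hPN : pCore p G ≤ N := by
    rw [hNF, Lead.fitting_eq_iSup_pCore]
    exact le_iSup (fun r : Nat.Primes => pCore (r : ℕ) G) ⟨p, hp⟩
  have hON : pCore q G ≤ N := by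
    rw [hNF, Lead.fitting_eq_iSup_pCore]
    exact le_iSup (fun r : Nat.Primes => pCore (r : ℕ) G) ⟨q, hq⟩
  have hdisj : pCore q G ⊓ pCore p G = ⊥ :=
    (IsPGroup.disjoint_of_ne q p hpq.symm _ _ hOq hPp).eq_bot
  obtain ⟨S⟩ : Nonempty (Sylow q G) := inferInstance
  have hSN : ∀ s ∈ (S : Subgroup G), s ∈ N → s ∈ pCore q G := by
    intro s hs hsN
    obtain ⟨k, hk⟩ := S.2 ⟨s, hs⟩
    have hk' : s ^ (q ^ k) = 1 := congrArg Subtype.val hk
    exact mem_pCore_of_mem_fitting_of_pow q s (hNF ▸ hsN) k hk'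
  set πq : G →* G ⧸ pCore q G := QuotientGroup.mk' (pCore q G) with hπq
  have hπq1 : ∀ y : G, πq y = 1 ↔ y ∈ pCore q G := fun y => QuotientGroup.eq_one_iff y
  set Kh : Subgroup (G ⧸ pCore q G) := (pCore p G).map πq with hKh
  set Sh : Subgroup (G ⧸ pCore q G) := (S : Subgroup G).map πq with hSh
  have hKhn : Kh.Normal := hPn.map πq (QuotientGroup.mk'_surjective _)
  have hKh1 : Kh ≠ ⊥ := by
    intro hb
    apply hP1
    rw [eq_bot_iff]
    intro v hv
    have h1 : πq v ∈ Kh := Subgroup.mem_map.2 ⟨v, hv, rfl⟩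
    rw [hb, Subgroup.mem_bot, hπq1] at h1
    have : v ∈ pCore q G ⊓ pCore p G := ⟨h1, hv⟩
    rwa [hdisj] at this
  have hfpf : ∀ a ∈ Sh, a ≠ 1 → Kh ⊓ Subgroup.centralizer {a} = ⊥ := by
    intro a ha ha1
    obtain ⟨s, hs, rfl⟩ := Subgroup.mem_map.1 ha
    rw [eq_bot_iff]
    rintro k ⟨hk1, hk2⟩
    obtain ⟨v, hv, rfl⟩ := Subgroup.mem_map.1 hk1
    rw [Subgroup.mem_bot]
    have hk2' : πq v * πq s = πq s * πq v := Subgroup.mem_centralizer_singleton_iff.1 hk2
    have hsN : s ∉ N := fun h => ha1 ((hπq1 s).2 (hSN s hs h))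
    have h1 : v * s * v⁻¹ * s⁻¹ ∈ pCore q G := by
      rw [← hπq1, map_mul, map_mul, map_mul, map_inv, map_inv, hk2']
      group
    have h2 : v * s * v⁻¹ * s⁻¹ ∈ pCore p G := by
      have e : v * s * v⁻¹ * s⁻¹ = v * (s * v⁻¹ * s⁻¹) := by group
      rw [e]
      exact Subgroup.mul_mem _ hv (hPn.conj_mem _ (Subgroup.inv_mem _ hv) s)
    have h3 : v * s * v⁻¹ * s⁻¹ ∈ pCore q G ⊓ pCore p G := ⟨h1, h2⟩
    rw [hdisj, Subgroup.mem_bot] at h3
    have hcomm : Commute s v := by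
      show s * v = v * s
      calc s * v = (v * s * v⁻¹ * s⁻¹)⁻¹ * (v * s) := by group
        _ = v * s := by rw [h3, inv_one, one_mul]
    have h4 := heq s hsN v (hPN hv)
    have hco : (orderOf s).Coprime (orderOf v) := by
      obtain ⟨a, ha⟩ := (IsPGroup.iff_orderOf.1 S.2) ⟨s, hs⟩
      obtain ⟨b, hb⟩ := (IsPGroup.iff_orderOf.1 hPp) ⟨v, hv⟩
      rw [Subgroup.orderOf_mk] at ha hb
      rw [ha, hb]
      exact Nat.Coprime.pow a b ((Nat.coprime_primes hq hp).2 hpq.symm)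
    rw [hcomm.orderOf_mul_eq_mul_orderOf_of_coprime hco] at h4
    have h5 : orderOf v = 1 := by
      have hpos : 0 < orderOf s := orderOf_pos s
      have : orderOf s * orderOf v = orderOf s * 1 := by rw [h4, mul_one]
      exact Nat.eq_of_mul_eq_mul_left hpos this
    rw [orderOf_eq_one_iff.1 h5, map_one]
  have hShq : IsPGroup q Sh := S.2.map πq
  have huniq : ∀ H K : Subgroup Sh, Nat.card H = q → Nat.card K = q → H = K := by
    apply unique_subgroup_prime_of_abelian_cyclic q hShq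
    intro E hE
    have hASh : E.map Sh.subtype ≤ Sh := Subgroup.map_subtype_le E
    have hAc : IsMulCommutative ↥(E.map Sh.subtype) := ⟨⟨by
      rintro ⟨x, hx⟩ ⟨y, hy⟩
      obtain ⟨x', hx', rfl⟩ := Subgroup.mem_map.1 hx
      obtain ⟨y', hy', rfl⟩ := Subgroup.mem_map.1 hy
      apply Subtype.ext
      have h0 := hE x' hx' y' hy'
      have h0' : (x' : G ⧸ pCore q G) * (y' : G ⧸ pCore q G) =
          (y' : G ⧸ pCore q G) * (x' : G ⧸ pCore q G) := congrArg Subtype.val h0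
      exact h0'⟩⟩
    have hAsol : Group.IsSolvable ↥(E.map Sh.subtype) := by
      haveI := (hShq.to_le hASh).isNilpotent
      infer_instance
    have hAcyc : IsCyclic ↥(E.map Sh.subtype) := fpf_isCyclic (E.map Sh.subtype) Kh
      (by rw [Subgroup.normalizer_eq_top]; exact le_top) hKh1
      (fun a ha ha1 => hfpf a (hASh ha) ha1) hAsol (Or.inl hAc)
    exact isCyclic_of_surjective
      (Subgroup.equivMapOfInjective E Sh.subtype Sh.subtype_injective).symm
      (MulEquiv.surjective _)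
  have hres := Cfsg.Agent.S0016.result q hShq huniq
  have hπNsurj : Function.Surjective (QuotientGroup.mk' N) := QuotientGroup.mk'_surjective _
  have hSbcoe : ((S.mapSurjective hπNsurj : Sylow q (G ⧸ N)) : Subgroup (G ⧸ N)) =
      (S : Subgroup G).map (QuotientGroup.mk' N) := Sylow.coe_mapSurjective hπNsurj S
  let κ : G ⧸ pCore q G →* G ⧸ N :=
    QuotientGroup.map (pCore q G) N (MonoidHom.id G) (by intro x hx; exact hON hx)
  have hκ : ∀ g : G, κ (πq g) = QuotientGroup.mk' N g := fun g => rfl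
  let ψ : Sh →* ((S.mapSurjective hπNsurj : Sylow q (G ⧸ N)) : Subgroup (G ⧸ N)) :=
    (κ.comp Sh.subtype).codRestrict _ (by
      rintro ⟨x, hx⟩
      obtain ⟨s, hs, rfl⟩ := Subgroup.mem_map.1 hx
      show κ (πq s) ∈ ((S.mapSurjective hπNsurj : Sylow q (G ⧸ N)) : Subgroup (G ⧸ N))
      rw [hκ, hSbcoe]
      exact Subgroup.mem_map.2 ⟨s, hs, rfl⟩)
  have hψ : Function.Bijective ψ := by
    constructor
    · rw [injective_iff_map_eq_one]
      rintro ⟨x, hx⟩ h
      obtain ⟨s, hs, rfl⟩ := Subgroup.mem_map.1 hx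
      have h1 : κ (πq s) = 1 := congrArg Subtype.val h
      rw [hκ] at h1
      have h2 : s ∈ N := (QuotientGroup.eq_one_iff s).1 h1
      apply Subtype.ext
      exact (hπq1 s).2 (hSN s hs h2)
    · rintro ⟨y, hy⟩
      have hy' : y ∈ (S : Subgroup G).map (QuotientGroup.mk' N) := hSbcoe ▸ hy
      obtain ⟨s, hs, rfl⟩ := Subgroup.mem_map.1 hy'
      exact ⟨⟨πq s, Subgroup.mem_map.2 ⟨s, hs, rfl⟩⟩, Subtype.ext (hκ s)⟩
  let e1 : Sh ≃* ((S.mapSurjective hπNsurj : Sylow q (G ⧸ N)) : Subgroup (G ⧸ N)) :=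
    MulEquiv.ofBijective ψ hψ
  let e2 : ((S.mapSurjective hπNsurj : Sylow q (G ⧸ N)) : Subgroup (G ⧸ N)) ≃*
      (Q : Subgroup (G ⧸ N)) := Sylow.equiv (S.mapSurjective hπNsurj) Q
  rcases hres with h | ⟨-, n, ⟨e⟩⟩
  · left
    exact isCyclic_of_surjective (e1.trans e2) (MulEquiv.surjective _)
  · right
    exact ⟨n, ⟨(e1.trans e2).symm.trans e⟩⟩

end Cfsg.Agent.Helper7
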