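import Mathlib

set_option autoImplicit false

namespace Cfsg.Agent.Helper7

variable {G : Type*} [Group G]

/-- The conjugacy class of `x` has as many elements as the index of the centralizer of `x`. -/
theorem card_isConj_eq_index_centralizer (x : G) :
    Nat.card {y : G // IsConj x y} = (Subgroup.centralizer ({x} : Set G)).index := by
  have h1 : (Subgroup.centralizer ({x} : Set G)).map
      ((ConjAct.toConjAct (G := G) : G ≃* ConjAct G) : G →* ConjAct G) =
      MulAction.stabilizer (ConjAct G) x := by
    ext g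
    rw [Subgroup.mem_map, MulAction.mem_stabilizer_iff]
    constructor
    · rintro ⟨c, hc, rfl⟩
      rw [Subgroup.mem_centralizer_iff] at hc
      have h2 := hc x rfl
      show ConjAct.toConjAct c • x = x
      rw [ConjAct.toConjAct_smul, mul_inv_eq_iff_eq_mul]
      exact h2.symm
    · intro hg
      refine ⟨ConjAct.ofConjAct g, ?_, ?_⟩
      · rw [Subgroup.mem_centralizer_iff]
        intro h hh
        rw [Set.mem_singleton_iff] at hh
        subst hh
        rw [ConjAct.smul_def, mul_inv_eq_iff_eq_mul] at hg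
        exact hg.symm
      · show ConjAct.toConjAct (ConjAct.ofConjAct g) = g
        simp
  rw [← Subgroup.index_map_equiv _ (ConjAct.toConjAct (G := G)), h1,
    MulAction.index_stabilizer, ← Nat.card_coe_set_eq]
  apply Nat.card_congr
  refine Equiv.subtypeEquivRight ?_
  intro y
  rw [ConjAct.mem_orbit_conjAct, isConj_comm]

/-- A real element whose class has odd size is an involution or trivial. -/
theorem sq_eq_one_of_isConj_inv_of_odd_index [Finite G] (x : G) (hreal : IsConj x x⁻¹)
    (hodd : ¬ 2 ∣ (Subgroup.centralizer ({x} : Set G)).index) : x ^ 2 = 1 := by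
  classical
  letI : Fintype {y : G // IsConj x y} := Fintype.ofFinite _
  have hinv : ∀ y : G, IsConj x y → IsConj x y⁻¹ := by
    intro y hy
    refine hreal.trans ?_
    obtain ⟨c, hc⟩ := isConj_iff.1 hy
    refine isConj_iff.2 ⟨c, ?_⟩
    rw [← hc]
    group
  let σ : Equiv.Perm {y : G // IsConj x y} :=
    { toFun := fun y => ⟨y.1⁻¹, hinv y.1 y.2⟩
      invFun := fun y => ⟨y.1⁻¹, hinv y.1 y.2⟩
      left_inv := fun y => Subtype.ext (inv_inv _)
      right_inv := fun y => Subtype.ext (inv_inv _) }
  have hσ : σ ^ 2 ^ 1 = 1 := by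
    ext y
    simp [σ, pow_two]
  have hcard : ¬ 2 ∣ Fintype.card {y : G // IsConj x y} := by
    rw [← Nat.card_eq_fintype_card, card_isConj_eq_index_centralizer]
    exact hodd
  obtain ⟨a, ha⟩ := Equiv.Perm.exists_fixed_point_of_prime (p := 2) (n := 1) hcard hσ
  have ha' : (a.1)⁻¹ = a.1 := congrArg Subtype.val ha
  have ha2 : a.1 ^ 2 = 1 := by
    rw [pow_two]
    nth_rewrite 1 [← ha']
    exact inv_mul_cancel _
  obtain ⟨c, hc⟩ := isConj_iff.1 a.2
  rw [← hc, conj_pow] at ha2
  have : x ^ 2 = c⁻¹ * (c * x ^ 2 * c⁻¹) * c := by group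
  rw [this, ha2]
  group

end Cfsg.Agent.Helper7
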