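import Mathlib
import Cfsg.Agent.Helper7.SylowQuot2

set_option autoImplicit false

namespace Cfsg.Agent.Helper7

/-- In a finite nilpotent group, `y ^ [F : D] ∈ D` for every subgroup `D`. -/
theorem pow_index_mem_of_isNilpotent {F : Type*} [Group F] [Finite F] [Group.IsNilpotent F] :
    ∀ (n : ℕ) (D : Subgroup F), D.index = n → ∀ y : F, y ^ D.index ∈ D := by
  intro n
  induction n using Nat.strong_induction_on with
  | _ n ih =>
    intro D hD y
    by_cases htop : D = ⊤
    · rw [htop]; exact Subgroup.mem_top _
    · have hlt : D < Subgroup.normalizer (D : Set F) :=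
        Group.normalizerCondition_of_isNilpotent D (lt_top_iff_ne_top.mpr htop)
      set N := Subgroup.normalizer (D : Set F) with hN
      have hidx : D.relIndex N * N.index = D.index := Subgroup.relIndex_mul_index hlt.le
      have hrel1 : D.relIndex N ≠ 1 := by
        intro h1
        rw [Subgroup.relIndex_eq_one] at h1
        exact absurd h1 (not_le_of_gt hlt)
      have hDpos : D.index ≠ 0 := Subgroup.index_ne_zero_of_finite
      have hNpos : N.index ≠ 0 := Subgroup.index_ne_zero_of_finite
      have hrelpos : D.relIndex N ≠ 0 := by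
        intro h0; rw [h0, zero_mul] at hidx; exact hDpos hidx.symm
      have hNlt : N.index < n := by
        rw [← hD, ← hidx]
        have : 2 ≤ D.relIndex N := by omega
        nlinarith [Nat.pos_of_ne_zero hNpos]
      have h1 : y ^ N.index ∈ N := ih N.index hNlt N rfl y
      haveI : (D.subgroupOf N).Normal := Subgroup.normal_in_normalizer
      have h2 := Subgroup.pow_index_mem (D.subgroupOf N) (⟨y ^ N.index, h1⟩ : N)
      rw [Subgroup.mem_subgroupOf] at h2
      have h3 : ((⟨y ^ N.index, h1⟩ : N) ^ (D.subgroupOf N).index : N) = (y ^ N.index) ^ D.relIndex N := by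
        rfl
      rw [h3, ← pow_mul, mul_comm, hidx] at h2
      exact h2

/-- If `F` is a nilpotent normal subgroup of a finite group `G`, then `x ^ [G : H] ∈ H` for every
`x ∈ F` and every subgroup `H`. -/
theorem pow_index_mem_of_mem_normal_nilpotent {G : Type*} [Group G] [Finite G]
    (F : Subgroup G) [F.Normal] (hF : Group.IsNilpotent F) (H : Subgroup G) (x : G) (hx : x ∈ F) :
    x ^ H.index ∈ H := by
  have h1 := pow_index_mem_of_isNilpotent (F := F) _ (H.subgroupOf F) rfl ⟨x, hx⟩
  rw [Subgroup.mem_subgroupOf] at h1
  have h2 : x ^ H.relIndex F ∈ H := h1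
  have h3 : H.relIndex F ∣ H.index := by
    rw [← relIndex_sup_eq_relIndex_of_le_normalizer H F
      (by rw [Subgroup.normalizer_eq_top]; exact le_top)]
    exact Subgroup.relIndex_dvd_index_of_le le_sup_left
  obtain ⟨c, hc⟩ := h3
  rw [hc, pow_mul]
  exact H.pow_mem h2 c

end Cfsg.Agent.Helper7
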