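import Mathlib
import Cfsg.Agent.Helper7.SylowLemmas

set_option autoImplicit false

namespace Cfsg.Agent.Helper7

variable {G : Type*} [Group G]

/-- A subgroup of index prime to `p` contains a Sylow `p`-subgroup of the whole group through
any given `p`-element of it. -/
theorem exists_sylow_le_of_not_dvd_index [Finite G] {p : ℕ} [Fact p.Prime] (C : Subgroup G)
    (hC : ¬ p ∣ C.index) (u : G) (huC : u ∈ C) (k : ℕ) (hu : u ^ (p ^ k) = 1) :
    ∃ Q : Sylow p G, (Q : Subgroup G) ≤ C ∧ u ∈ Q := by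
  have hpg : IsPGroup p (Subgroup.zpowers (⟨u, huC⟩ : C)) := by
    rw [IsPGroup.iff_card, Nat.card_zpowers]
    have h1 : orderOf (⟨u, huC⟩ : C) ∣ p ^ k := by
      apply orderOf_dvd_of_pow_eq_one
      apply Subtype.ext
      exact hu
    obtain ⟨j, -, hj⟩ := (Nat.dvd_prime_pow (Fact.out : p.Prime)).1 h1
    exact ⟨j, hj⟩
  obtain ⟨Q', hQ'⟩ := hpg.exists_le_sylow
  have hQpg : IsPGroup p (Q'.1.map C.subtype) := Q'.isPGroup'.map _
  have hidx : ¬ p ∣ (Q'.1.map C.subtype).index := by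
    rw [Subgroup.index_map_subtype]
    intro h
    rcases (Nat.Prime.dvd_mul (Fact.out : p.Prime)).1 h with h | h
    · exact Q'.not_dvd_index h
    · exact hC h
  refine ⟨hQpg.toSylow hidx, ?_, ?_⟩
  · intro x hx
    have hx' : x ∈ Q'.1.map C.subtype := hx
    obtain ⟨c, -, rfl⟩ := hx'
    exact c.2
  · show u ∈ Q'.1.map C.subtype
    exact ⟨⟨u, huC⟩, hQ' (Subgroup.mem_zpowers _), rfl⟩

/-- Decomposition of an element into commuting `p`-part and `p'`-part. -/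
theorem exists_pPart_mul [Finite G] (p : ℕ) (hp : p.Prime) (y : G) :
    ∃ (u v : G) (a : ℕ), y = u * v ∧ Commute u v ∧ u ^ (p ^ a) = 1 ∧ (orderOf v).Coprime p ∧
      u ∈ Subgroup.zpowers y ∧ v ∈ Subgroup.zpowers y := by
  obtain ⟨a, m, hpm, ho⟩ := Nat.exists_eq_pow_mul_and_not_dvd (orderOf_pos y).ne' p hp.ne_one
  have hcop : Nat.Coprime p m := (Nat.Prime.coprime_iff_not_dvd hp).2 hpm
  have hco : Nat.Coprime (p ^ a) m := Nat.Coprime.pow_left a hcop
  obtain ⟨k, hk1, hk0⟩ := Nat.chineseRemainder hco 1 0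
  obtain ⟨k', hk'0, hk'1⟩ := Nat.chineseRemainder hco 0 1
  have hmk : m ∣ k := (Nat.modEq_zero_iff_dvd).1 hk0
  have hqk' : p ^ a ∣ k' := (Nat.modEq_zero_iff_dvd).1 hk'0
  have hkk' : k + k' ≡ 1 [MOD orderOf y] := by
    rw [ho, ← Nat.modEq_and_modEq_iff_modEq_mul hco]
    exact ⟨by simpa using hk1.add hk'0, by simpa using hk0.add hk'1⟩
  refine ⟨y ^ k, y ^ k', a, ?_, (Commute.refl y).pow_pow k k', ?_, ?_,
    Subgroup.pow_mem _ (Subgroup.mem_zpowers y) k, Subgroup.pow_mem _ (Subgroup.mem_zpowers y) k'⟩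
  · rw [← pow_add]
    have h1 : y ^ (k + k') = y ^ 1 := by
      rw [pow_eq_pow_iff_modEq]
      exact hkk'
    rw [h1, pow_one]
  · rw [← pow_mul, ← orderOf_dvd_iff_pow_eq_one, ho, mul_comm k]
    exact Nat.mul_dvd_mul_left _ hmk
  · have h1 : (y ^ k') ^ m = 1 := by
      rw [← pow_mul, ← orderOf_dvd_iff_pow_eq_one, ho]
      exact Nat.mul_dvd_mul_right hqk' _
    exact Nat.Coprime.coprime_dvd_left (orderOf_dvd_of_pow_eq_one h1) hcop.symm

end Cfsg.Agent.Helper7
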