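import Mathlib
import Cfsg.Agent.Helper7.Basic
import Cfsg.Agent.Helper7.SylowLemmas
import Cfsg.Agent.Helper7.SylowMore
import Cfsg.Agent.Helper7.SylowQuot2
import Cfsg.Agent.Helper7.NilpPow
import Cfsg.Agent.Helper7.Conj

set_option autoImplicit false

universe u

namespace Cfsg.Agent.Helper7

/-- The size of the conjugacy class of `x`, as an index. -/
theorem ncard_conjClasses_carrier {G : Type*} [Group G] (x : G) :
    (ConjClasses.mk x).carrier.ncard = (Subgroup.centralizer ({x} : Set G)).index := by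
  rw [← card_isConj_eq_index_centralizer]
  have h2 : (ConjClasses.mk x).carrier = {y : G | IsConj x y} := by
    ext y
    rw [ConjClasses.mem_carrier_iff_mk_eq, ConjClasses.mk_eq_mk_iff_isConj, isConj_comm]
    rfl
  rw [h2, ← Nat.card_coe_set_eq]
  rfl

/-- Every `p`-regular element has a centralizer of `p`-power index. -/
def PRegPow (p : ℕ) (G : Type*) [Group G] : Prop :=
  ∀ x : G, (orderOf x).Coprime p → ∃ k : ℕ, (Subgroup.centralizer ({x} : Set G)).index = p ^ k

/-- A `p`-regular element of a quotient lifts to a `p`-regular element. -/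
theorem exists_coprime_lift {p : ℕ} (hp : p.Prime) {G : Type*} [Group G] [Finite G]
    (N : Subgroup G) [N.Normal] (y : G ⧸ N) (hy : (orderOf y).Coprime p) :
    ∃ x : G, (orderOf x).Coprime p ∧ (x : G ⧸ N) = y := by
  obtain ⟨g, rfl⟩ := QuotientGroup.mk_surjective y
  obtain ⟨a, m, hpm, ho⟩ := Nat.exists_eq_pow_mul_and_not_dvd (orderOf_pos g).ne' p hp.ne_one
  have hcop : Nat.Coprime (p ^ a) (orderOf (g : G ⧸ N)) := Nat.Coprime.pow_left a hy.symm
  obtain ⟨j, hj⟩ := exists_pow_eq_self_of_coprime hcop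
  refine ⟨(g ^ (p ^ a)) ^ j, ?_, ?_⟩
  · have hxm : ((g ^ (p ^ a)) ^ j) ^ m = 1 := by
      rw [← pow_mul, ← pow_mul]
      have e1 : p ^ a * (j * m) = (p ^ a * m) * j := by ring
      rw [e1, ← ho, pow_mul, pow_orderOf_eq_one, one_pow]
    have h1 : orderOf ((g ^ (p ^ a)) ^ j) ∣ m := orderOf_dvd_of_pow_eq_one hxm
    have h2 : Nat.Coprime m p := ((Nat.Prime.coprime_iff_not_dvd hp).2 hpm).symm
    exact Nat.Coprime.coprime_dvd_left h1 h2
  · rw [QuotientGroup.mk_pow, QuotientGroup.mk_pow]
    exact hj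

theorem PRegPow.quotient {p : ℕ} (hp : p.Prime) {G : Type*} [Group G] [Finite G]
    (h : PRegPow p G) (N : Subgroup G) [N.Normal] : PRegPow p (G ⧸ N) := by
  intro y hy
  obtain ⟨x, hxo, rfl⟩ := exists_coprime_lift hp N y hy
  obtain ⟨k, hk⟩ := h x hxo
  have hle : (Subgroup.centralizer ({x} : Set G)).map (QuotientGroup.mk' N) ≤
      Subgroup.centralizer ({(x : G ⧸ N)} : Set (G ⧸ N)) := by
    rintro _ ⟨c, hc, rfl⟩
    have hc' : c ∈ Subgroup.centralizer ({x} : Set G) := hc
    rw [Subgroup.mem_centralizer_singleton_iff] at hc' ⊢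
    show (c : G ⧸ N) * (x : G ⧸ N) = (x : G ⧸ N) * (c : G ⧸ N)
    rw [← QuotientGroup.mk_mul, ← QuotientGroup.mk_mul, hc']
  have h1 := Subgroup.index_dvd_of_le hle
  have h2 := Subgroup.index_map_dvd (Subgroup.centralizer ({x} : Set G))
    (QuotientGroup.mk'_surjective N)
  rw [hk] at h2
  obtain ⟨k', -, hk'⟩ := (Nat.dvd_prime_pow hp).1 (h1.trans h2)
  exact ⟨k', hk'⟩

theorem PRegPow.normal {p : ℕ} (hp : p.Prime) {G : Type*} [Group G] [Finite G]
    (h : PRegPow p G) (M : Subgroup G) [M.Normal] : PRegPow p M := by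
  intro x hx
  have hxo : (orderOf (x : G)).Coprime p := by rwa [Subgroup.orderOf_coe]
  obtain ⟨k, hk⟩ := h x hxo
  have he : Subgroup.centralizer ({x} : Set M) =
      (Subgroup.centralizer ({(x : G)} : Set G)).subgroupOf M := by
    ext c
    rw [Subgroup.mem_subgroupOf, Subgroup.mem_centralizer_singleton_iff,
      Subgroup.mem_centralizer_singleton_iff]
    constructor
    · intro hc
      have := congrArg Subtype.val hc
      simpa using this
    · intro hc
      exact Subtype.ext (by simpa using hc)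
  have hd : (Subgroup.centralizer ({(x : G)} : Set G)).relIndex M ∣ p ^ k := by
    rw [← hk, ← relIndex_sup_eq_relIndex_of_le_normalizer _ M
      (by rw [Subgroup.normalizer_eq_top]; exact le_top)]
    exact Subgroup.relIndex_dvd_index_of_le le_sup_left
  rw [he]
  obtain ⟨k', -, hk'⟩ := (Nat.dvd_prime_pow hp).1 hd
  exact ⟨k', hk'⟩

/-- A nontrivial finite group has a simple quotient. -/
theorem exists_normal_simple_quotient (G : Type*) [Group G] [Finite G] [Nontrivial G] :
    ∃ (K : Subgroup G) (_ : K.Normal), K ≠ ⊤ ∧ IsSimpleGroup (G ⧸ K) := by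
  obtain ⟨K, -, hK⟩ := Finite.exists_le_maximal (α := Subgroup G)
    (p := fun K => K.Normal ∧ K ≠ ⊤) (a := ⊥) ⟨inferInstance, bot_ne_top⟩
  obtain ⟨⟨hKn, hKt⟩, hmax⟩ := hK
  refine ⟨K, hKn, hKt, ?_⟩
  haveI : Nontrivial (G ⧸ K) := by
    rw [← not_subsingleton_iff_nontrivial]
    intro hs
    exact hKt (QuotientGroup.subgroup_eq_top_of_subsingleton K hs)
  refine ⟨?_⟩
  intro H hH
  by_cases hc : H.comap (QuotientGroup.mk' K) = ⊤
  · right
    rw [← Subgroup.map_comap_eq_self_of_surjective (QuotientGroup.mk'_surjective K) H, hc,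
      Subgroup.map_top_of_surjective _ (QuotientGroup.mk'_surjective K)]
  · left
    have hle : K ≤ H.comap (QuotientGroup.mk' K) := by
      intro x hx
      rw [Subgroup.mem_comap]
      have : (QuotientGroup.mk' K) x = 1 := (QuotientGroup.eq_one_iff x).2 hx
      rw [this]
      exact H.one_mem
    have h2 := hmax ⟨inferInstance, hc⟩ hle
    rw [← Subgroup.map_comap_eq_self_of_surjective (QuotientGroup.mk'_surjective K) H]
    rw [Subgroup.map_eq_bot_iff, QuotientGroup.ker_mk']
    exact h2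

/-- A non-central element has a non-central power of prime-power order. -/
theorem exists_prime_pow_power_notMem_center {G : Type*} [Group G] [Finite G] :
    ∀ (n : ℕ) (x : G), orderOf x = n → x ∉ Subgroup.center G →
      ∃ (q j e : ℕ), q.Prime ∧ orderOf (x ^ j) = q ^ e ∧ x ^ j ∉ Subgroup.center G := by
  intro n
  induction n using Nat.strong_induction_on with
  | _ n ih =>
    intro x hxn hxc
    have hx1 : orderOf x ≠ 1 := by
      intro h
      rw [orderOf_eq_one_iff] at h
      rw [h] at hxc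
      exact hxc (Subgroup.one_mem _)
    obtain ⟨q, hq, hqd⟩ := Nat.exists_prime_and_dvd hx1
    obtain ⟨u, v, a, hxuv, -, hu, hv, huz, hvz⟩ := exists_pPart_mul q hq x
    rw [← mem_powers_iff_mem_zpowers] at huz hvz
    obtain ⟨j, rfl⟩ := huz
    obtain ⟨b, rfl⟩ := hvz
    by_cases huc : x ^ j ∈ Subgroup.center G
    · have hvc : x ^ b ∉ Subgroup.center G := by
        intro hvc
        apply hxc
        rw [hxuv]
        exact Subgroup.mul_mem _ huc hvc
      have hlt : orderOf (x ^ b) < n := by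
        have h1 : orderOf (x ^ b) ∣ orderOf x := orderOf_pow_dvd b
        have h2 : orderOf (x ^ b) ≠ orderOf x := by
          intro h
          rw [h] at hv
          exact (Nat.Prime.coprime_iff_not_dvd hq).1 hv.symm hqd
        rw [← hxn]
        exact lt_of_le_of_ne (Nat.le_of_dvd (orderOf_pos x) h1) h2
      obtain ⟨q', j', e', hq', hoe, hnc⟩ := ih _ hlt (x ^ b) rfl hvc
      rw [← pow_mul] at hoe hnc
      exact ⟨q', b * j', e', hq', hoe, hnc⟩
    · have h1 : orderOf (x ^ j) ∣ q ^ a := orderOf_dvd_of_pow_eq_one hu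
      obtain ⟨e, -, he⟩ := (Nat.dvd_prime_pow hq).1 h1
      exact ⟨q, j, e, hq, he, huc⟩

end Cfsg.Agent.Helper7
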