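import Mathlib
import Cfsg.Prelude.Def_Solvable
import Cfsg.Agent.Lead.Fitting
import Cfsg.Agent.Helper3.Cores
import Cfsg.Agent.Helper4.PGroup
import Cfsg.Agent.Helper7.BaerEngel
import Cfsg.Agent.Helper7.EqOrdSylow
import Cfsg.Agent.Helper7.PRegClass
import Cfsg.Agent.Helper7.SylowMore
import Cfsg.Agent.Helper7.SylowLemmas

set_option autoImplicit false

universe u

namespace Cfsg.Agent.Helper7

open Cfsg

/-- An element outside a subgroup has a power of prime-power order outside it. -/
theorem exists_prime_pow_power_notMem {G : Type u} [Group G] [Finite G] (Z : Subgroup G) :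
    ∀ (n : ℕ) (x : G), orderOf x = n → x ∉ Z →
      ∃ (q j e : ℕ), q.Prime ∧ orderOf (x ^ j) = q ^ e ∧ x ^ j ∉ Z := by
  intro n
  induction n using Nat.strong_induction_on with
  | _ n ih =>
    intro x hxn hxc
    have hx1 : orderOf x ≠ 1 := by
      intro h
      rw [orderOf_eq_one_iff] at h
      rw [h] at hxc
      exact hxc (Subgroup.one_mem _)
    obtain ⟨q, hq, hqd⟩ := Nat.exists_prime_and_dvd hx1
    obtain ⟨u, v, a, hxuv, -, hu, hv, huz, hvz⟩ := exists_pPart_mul q hq x
    rw [← mem_powers_iff_mem_zpowers] at huz hvz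
    obtain ⟨j, rfl⟩ := huz
    obtain ⟨b, rfl⟩ := hvz
    by_cases huc : x ^ j ∈ Z
    · have hvc : x ^ b ∉ Z := by
        intro hvc
        apply hxc
        rw [hxuv]
        exact Subgroup.mul_mem _ huc hvc
      have hlt : orderOf (x ^ b) < n := by
        have h1 : orderOf (x ^ b) ∣ orderOf x := orderOf_pow_dvd b
        have h2 : orderOf (x ^ b) ≠ orderOf x := by
          intro h
          rw [h] at hv
          exact (Nat.Prime.coprime_iff_not_dvd hq).1 hv.symm hqd
        rw [← hxn]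
        exact lt_of_le_of_ne (Nat.le_of_dvd (orderOf_pos x) h1) h2
      obtain ⟨q', j', e', hq', hoe, hnc⟩ := ih _ hlt (x ^ b) rfl hvc
      rw [← pow_mul] at hoe hnc
      exact ⟨q', b * j', e', hq', hoe, hnc⟩
    · have h1 : orderOf (x ^ j) ∣ q ^ a := orderOf_dvd_of_pow_eq_one hu
      obtain ⟨e, -, he⟩ := (Nat.dvd_prime_pow hq).1 h1
      exact ⟨q, j, e, hq, he, huc⟩

/-- In a finite nilpotent group a `p`-element commutes with every `p'`-element. -/
theorem commute_of_nilpotent_coprime {K : Type u} [Group K] [Finite K] [Group.IsNilpotent K]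
    (p : ℕ) [Fact p.Prime] (u v : K) (k : ℕ) (hu : u ^ (p ^ k) = 1)
    (hv : (orderOf v).Coprime p) : u * v = v * u := by
  have hF : fittingSubgroup K = ⊤ := by
    rw [eq_top_iff]
    exact le_sSup ⟨inferInstance, Group.nilpotent_of_mulEquiv Subgroup.topEquiv.symm⟩
  have huO : u ∈ pCore p K :=
    mem_pCore_of_mem_fitting_of_pow p u (hF ▸ Subgroup.mem_top u) k hu
  obtain ⟨hOn, hOp⟩ := Lead.pCore_normal_isPGroup (G := K) p
  obtain ⟨hLn, hLc⟩ := Lead.sSup_pCore_ne_coprime (G := K) p
  haveI := hOn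
  haveI := hLn
  have hvL : v ∈ sSup {N : Subgroup K | ∃ r : Nat.Primes, (r : ℕ) ≠ p ∧
      N = Cfsg.pCore (r : ℕ) K} := by
    have hv' : v ∈ ((pCore p K ⊔ sSup {N : Subgroup K | ∃ r : Nat.Primes, (r : ℕ) ≠ p ∧
        N = Cfsg.pCore (r : ℕ) K} : Subgroup K) : Set K) := by
      have h1 : v ∈ pCore p K ⊔ sSup {N : Subgroup K | ∃ r : Nat.Primes, (r : ℕ) ≠ p ∧
          N = Cfsg.pCore (r : ℕ) K} := by
        rw [← Lead.iSup_pCore_eq_sup p, ← Lead.fitting_eq_iSup_pCore, hF]
        exact Subgroup.mem_top v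
      exact h1
    rw [Subgroup.normal_mul] at hv'
    obtain ⟨a, ha, l, hl, rfl⟩ := Set.mem_mul.1 hv'
    have hW : (Nat.card ((sSup {N : Subgroup K | ∃ r : Nat.Primes, (r : ℕ) ≠ p ∧
        N = Cfsg.pCore (r : ℕ) K}) ⊔ Subgroup.zpowers (a * l) : Subgroup K)).Coprime p :=
      Nat.Coprime.coprime_dvd_left (Lead.card_sup_dvd_of_normal _ _)
        (Nat.Coprime.mul_left hLc (by rw [Nat.card_zpowers]; exact hv))
    have haW : a ∈ (sSup {N : Subgroup K | ∃ r : Nat.Primes, (r : ℕ) ≠ p ∧
        N = Cfsg.pCore (r : ℕ) K}) ⊔ Subgroup.zpowers (a * l) := by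
      have e : a = (a * l) * l⁻¹ := by group
      have h0 : (a * l) * l⁻¹ ∈ (sSup {N : Subgroup K | ∃ r : Nat.Primes, (r : ℕ) ≠ p ∧
          N = Cfsg.pCore (r : ℕ) K}) ⊔ Subgroup.zpowers (a * l) :=
        Subgroup.mul_mem _ (Subgroup.mem_sup_right (Subgroup.mem_zpowers _))
          (Subgroup.mem_sup_left (Subgroup.inv_mem _ hl))
      rw [← e] at h0
      exact h0
    have ha1 : a = 1 := by
      obtain ⟨j, hj⟩ := (IsPGroup.iff_orderOf.1 hOp) ⟨a, ha⟩
      rw [Subgroup.orderOf_mk] at hj
      have h3 : orderOf a ∣ Nat.card ((sSup {N : Subgroup K | ∃ r : Nat.Primes, (r : ℕ) ≠ p ∧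
          N = Cfsg.pCore (r : ℕ) K}) ⊔ Subgroup.zpowers (a * l) : Subgroup K) := by
        have := orderOf_dvd_natCard (⟨a, haW⟩ : ((sSup {N : Subgroup K | ∃ r : Nat.Primes,
          (r : ℕ) ≠ p ∧ N = Cfsg.pCore (r : ℕ) K}) ⊔ Subgroup.zpowers (a * l) : Subgroup K))
        rwa [Subgroup.orderOf_mk] at this
      have h4 : orderOf a = 1 :=
        Nat.eq_one_of_dvd_coprimes (Nat.Coprime.pow_right j hW) h3 (by rw [hj])
      exact orderOf_eq_one_iff.1 h4
    rw [ha1, one_mul]
    exact hl
  have hdisj : pCore p K ⊓ sSup {N : Subgroup K | ∃ r : Nat.Primes, (r : ℕ) ≠ p ∧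
      N = Cfsg.pCore (r : ℕ) K} = ⊥ := by
    apply (Subgroup.disjoint_of_coprime_natCard _).eq_bot
    obtain ⟨i, hi⟩ := IsPGroup.iff_card.1 hOp
    rw [hi]
    exact Nat.Coprime.pow_left i hLc.symm
  have h2 : u * v * u⁻¹ * v⁻¹ ∈ pCore p K ⊓ sSup {N : Subgroup K | ∃ r : Nat.Primes,
      (r : ℕ) ≠ p ∧ N = Cfsg.pCore (r : ℕ) K} := by
    constructor
    · have e : u * v * u⁻¹ * v⁻¹ = u * (v * u⁻¹ * v⁻¹) := by group
      rw [e]
      exact Subgroup.mul_mem _ huO (hOn.conj_mem _ (Subgroup.inv_mem _ huO) v)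
    · exact Subgroup.mul_mem _ (hLn.conj_mem _ hvL u) (Subgroup.inv_mem _ hvL)
  rw [hdisj, Subgroup.mem_bot] at h2
  calc u * v = (u * v * u⁻¹ * v⁻¹) * (v * u) := by group
    _ = v * u := by rw [h2, one_mul]

/-- A normal `p`-subgroup centralized by all `p'`-elements lies in the hypercenter. -/
theorem le_hypercenter_of_centralized : ∀ n : ℕ, ∀ (G : Type u) [Group G] [Finite G],
    Nat.card G = n → ∀ (p : ℕ) [Fact p.Prime] (D : Subgroup G) [D.Normal], IsPGroup p D →
    (∀ d ∈ D, ∀ v : G, (orderOf v).Coprime p → d * v = v * d) →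
    D ≤ ⨆ k : ℕ, Subgroup.upperCentralSeries G k := by
  intro n
  induction n using Nat.strong_induction_on with
  | _ n ih =>
  intro G _ _ hn p _ D _ hD hcent
  by_cases hD1 : D = ⊥
  · rw [hD1]; exact bot_le
  have hp : p.Prime := Fact.out
  obtain P : Sylow p G := default
  have hDP : D ≤ P := normal_pGroup_le_sylow D hD P
  haveI : (D.subgroupOf (P : Subgroup G)).Normal := Subgroup.Normal.subgroupOf inferInstance _
  have hne : D.subgroupOf (P : Subgroup G) ≠ ⊥ := by
    intro h
    rw [Subgroup.subgroupOf_eq_bot] at h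
    apply hD1
    rw [eq_bot_iff]
    intro d hd
    exact h.le_bot ⟨hd, hDP hd⟩
  obtain ⟨z, hzD, hz1, hzZ⟩ :=
    Helper4.exists_ne_one_mem_center_of_normal P.isPGroup' (D.subgroupOf (P : Subgroup G)) hne
  have hzD' : (z : G) ∈ D := hzD
  have hC : Subgroup.centralizer {(z : G)} = ⊤ := by
    by_contra hC
    have hi : (Subgroup.centralizer {(z : G)}).index ≠ 1 := by
      rwa [ne_eq, Subgroup.index_eq_one]
    obtain ⟨q, hq, hqd⟩ := Nat.exists_prime_and_dvd hi
    haveI := Fact.mk hq
    by_cases hqp : q = p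
    · subst hqp
      have hPC : (P : Subgroup G) ≤ Subgroup.centralizer {(z : G)} := by
        intro x hx
        rw [Subgroup.mem_centralizer_singleton_iff]
        have := Subgroup.mem_center_iff.1 hzZ ⟨x, hx⟩
        exact congrArg Subtype.val this
      exact P.not_dvd_index (dvd_trans hqd (Subgroup.index_dvd_of_le hPC))
    · obtain Q : Sylow q G := default
      have hQC : (Q : Subgroup G) ≤ Subgroup.centralizer {(z : G)} := by
        intro x hx
        rw [Subgroup.mem_centralizer_singleton_iff]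
        have hx' : (orderOf x).Coprime p := by
          obtain ⟨k, hk⟩ := (IsPGroup.iff_orderOf.1 Q.isPGroup') ⟨x, hx⟩
          rw [Subgroup.orderOf_mk] at hk
          rw [hk]
          exact Nat.Coprime.pow_left k ((Nat.coprime_primes hq hp).2 hqp)
        exact (hcent z hzD' x hx').symm
      exact Q.not_dvd_index (dvd_trans hqd (Subgroup.index_dvd_of_le hQC))
  have hzG : (z : G) ∈ Subgroup.center G := by
    rw [Subgroup.mem_center_iff]
    intro g
    have : g ∈ Subgroup.centralizer {(z : G)} := hC ▸ Subgroup.mem_top g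
    exact Subgroup.mem_centralizer_singleton_iff.1 this
  have hzne : (z : G) ≠ 1 := by
    intro h
    apply hz1
    exact Subtype.ext h
  have hlt : Nat.card (G ⧸ Subgroup.center G) < n := by
    have h1 := Subgroup.card_eq_card_quotient_mul_card_subgroup (Subgroup.center G)
    have h2 : 1 < Nat.card (Subgroup.center G) := by
      rw [Finite.one_lt_card_iff_nontrivial]
      exact ⟨⟨⟨(z : G), hzG⟩, 1, fun h => hzne (congrArg Subtype.val h)⟩⟩
    have h3 : 0 < Nat.card (G ⧸ Subgroup.center G) := Nat.card_pos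
    rw [← hn, h1]
    nlinarith
  haveI : (D.map (QuotientGroup.mk' (Subgroup.center G))).Normal :=
    Subgroup.Normal.map inferInstance _ (QuotientGroup.mk'_surjective _)
  have IH := ih _ hlt (G ⧸ Subgroup.center G) rfl p (D.map (QuotientGroup.mk' (Subgroup.center G)))
    (hD.map _) (by
      rintro _ ⟨d, hd, rfl⟩ v hv
      obtain ⟨x, hx, rfl⟩ := exists_coprime_lift hp (Subgroup.center G) v hv
      show ((d * x : G) : G ⧸ Subgroup.center G) = ((x * d : G) : G ⧸ Subgroup.center G)
      rw [hcent d hd x hx])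
  intro d hd
  have h1 : (QuotientGroup.mk' (Subgroup.center G) d) ∈
      ⨆ k : ℕ, Subgroup.upperCentralSeries (G ⧸ Subgroup.center G) k :=
    IH (Subgroup.mem_map_of_mem _ hd)
  rw [Subgroup.mem_iSup_of_directed (Subgroup.upperCentralSeries_mono _).directed_le] at h1
  obtain ⟨k, hk⟩ := h1
  have h2 : d ∈ Subgroup.upperCentralSeries G (k + 1) := by
    rw [← Subgroup.comap_upperCentralSeries_quotient_center]
    exact hk
  exact Subgroup.mem_iSup_of_mem (k + 1) h2

/-- Upper central series of the ambient group restrict into those of a subgroup. -/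
theorem mem_upperCentralSeries_subgroup {G : Type u} [Group G] (H : Subgroup G) :
    ∀ (k : ℕ) (h : H), (h : G) ∈ Subgroup.upperCentralSeries G k →
      h ∈ Subgroup.upperCentralSeries H k := by
  intro k
  induction k with
  | zero =>
    intro h hh
    rw [Subgroup.upperCentralSeries_zero, Subgroup.mem_bot] at hh ⊢
    exact Subtype.ext hh
  | succ k ih =>
    intro h hh
    rw [Subgroup.mem_upperCentralSeries_succ_iff] at hh ⊢
    intro y
    apply ih
    exact hh (y : G)

/-- If `g` lies in the hypercenter then `⟨x, g⟩` is nilpotent. -/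
theorem nilpotent_closure_of_mem_hypercenter {G : Type u} [Group G] (g x : G) (n : ℕ)
    (hg : g ∈ Subgroup.upperCentralSeries G n) :
    Group.IsNilpotent ↥(Subgroup.closure ({x, g} : Set G)) := by
  have hH : Subgroup.closure ({x, g} : Set G) ≤
      (Subgroup.zpowers (x : G ⧸ Subgroup.upperCentralSeries G n)).comap
        (QuotientGroup.mk' (Subgroup.upperCentralSeries G n)) := by
    rw [Subgroup.closure_le]
    rintro a (rfl | rfl)
    · exact Subgroup.mem_zpowers _
    · show ((a : G) : G ⧸ Subgroup.upperCentralSeries G n) ∈ Subgroup.zpowers _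
      rw [(QuotientGroup.eq_one_iff a).2 hg]
      exact Subgroup.one_mem _
  have hcomm : ∀ a b : G, a ∈ Subgroup.closure ({x, g} : Set G) →
      b ∈ Subgroup.closure ({x, g} : Set G) →
      a * b * a⁻¹ * b⁻¹ ∈ Subgroup.upperCentralSeries G n := by
    intro a b ha hb
    obtain ⟨i, hi⟩ := Subgroup.mem_zpowers_iff.1 (hH ha)
    obtain ⟨j, hj⟩ := Subgroup.mem_zpowers_iff.1 (hH hb)
    rw [← QuotientGroup.eq_one_iff]
    have hi' : ((a : G) : G ⧸ Subgroup.upperCentralSeries G n) =
        (x : G ⧸ Subgroup.upperCentralSeries G n) ^ i := hi.symm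
    have hj' : ((b : G) : G ⧸ Subgroup.upperCentralSeries G n) =
        (x : G ⧸ Subgroup.upperCentralSeries G n) ^ j := hj.symm
    show ((a * b * a⁻¹ * b⁻¹ : G) : G ⧸ Subgroup.upperCentralSeries G n) = 1
    rw [QuotientGroup.mk_mul, QuotientGroup.mk_mul, QuotientGroup.mk_mul, QuotientGroup.mk_inv,
      QuotientGroup.mk_inv, hi', hj']
    have hc : Commute ((x : G ⧸ Subgroup.upperCentralSeries G n) ^ i)
        ((x : G ⧸ Subgroup.upperCentralSeries G n) ^ j) :=
      (Commute.refl _).zpow_zpow i j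
    rw [hc.eq, mul_inv_cancel_right, mul_inv_cancel]
  refine ⟨⟨n + 1, ?_⟩⟩
  rw [eq_top_iff]
  intro h _
  rw [Subgroup.mem_upperCentralSeries_succ_iff]
  intro y
  apply mem_upperCentralSeries_subgroup
  exact hcomm _ _ h.2 y.2

/-- The hypercenter characterization: `g` is in the hypercenter iff `⟨x, g⟩` is nilpotent for
every `x`. -/
theorem mem_hypercenter_of_nilpotent_closure {G : Type u} [Group G] [Finite G] (g : G)
    (h : ∀ x : G, Group.IsNilpotent ↥(Subgroup.closure ({x, g} : Set G))) :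
    g ∈ ⨆ n : ℕ, Subgroup.upperCentralSeries G n := by
  by_contra hgZ
  obtain ⟨q, j, e, hq, hoe, hyZ⟩ :=
    exists_prime_pow_power_notMem (⨆ n : ℕ, Subgroup.upperCentralSeries G n) _ g rfl hgZ
  haveI := Fact.mk hq
  have hymem : ∀ x : G, g ^ j ∈ Subgroup.closure ({x, g} : Set G) := fun x =>
    Subgroup.pow_mem _ (Subgroup.subset_closure (by simp)) j
  have hxmem : ∀ x : G, x ∈ Subgroup.closure ({x, g} : Set G) := fun x =>
    Subgroup.subset_closure (by simp)
  -- `y = g ^ j` is a left Engel element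
  have hyF : g ^ j ∈ fittingSubgroup G := by
    apply engel_mem_fitting _ G rfl
    intro x
    obtain ⟨m, hm⟩ := (Subgroup.isNilpotent_iff_lowerCentralSeries
      (Subgroup.closure ({x, g} : Set G))).1 (h x)
    have hk : ∀ k : ℕ, engelSeq (g ^ j) x k ∈
        (Subgroup.closure ({x, g} : Set G)).lowerCentralSeries k := by
      intro k
      induction k with
      | zero =>
        show x ∈ Subgroup.closure ({x, g} : Set G)
        exact hxmem x
      | succ k ihk =>
        show engelSeq (g ^ j) x k * g ^ j * (engelSeq (g ^ j) x k)⁻¹ * (g ^ j)⁻¹ ∈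
          ⁅(Subgroup.closure ({x, g} : Set G)).lowerCentralSeries k,
            Subgroup.closure ({x, g} : Set G)⁆
        exact Subgroup.commutator_mem_commutator ihk (hymem x)
    refine ⟨m, ?_⟩
    have := hk m
    rw [hm, Subgroup.mem_bot] at this
    exact this
  have hye : (g ^ j) ^ (q ^ e) = 1 := by rw [← hoe]; exact pow_orderOf_eq_one _
  have hyO : g ^ j ∈ pCore q G := mem_pCore_of_mem_fitting_of_pow q _ hyF e hye
  have hycomm : ∀ v : G, (orderOf v).Coprime q → g ^ j * v = v * g ^ j := by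
    intro v hv
    haveI := h v
    have := commute_of_nilpotent_coprime q
      (⟨g ^ j, hymem v⟩ : Subgroup.closure ({v, g} : Set G))
      (⟨v, hxmem v⟩ : Subgroup.closure ({v, g} : Set G)) e (Subtype.ext hye)
      (by rw [Subgroup.orderOf_mk]; exact hv)
    exact congrArg Subtype.val this
  obtain ⟨hOn, hOp⟩ := Lead.pCore_normal_isPGroup (G := G) q
  have hDn : (pCore q G ⊓ Subgroup.centralizer {v : G | (orderOf v).Coprime q}).Normal := by
    constructor
    intro d hd c
    refine ⟨hOn.conj_mem d hd.1 c, ?_⟩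
    show _ ∈ Subgroup.centralizer _
    rw [Subgroup.mem_centralizer_iff]
    intro v hv
    have hv' : c⁻¹ * v * c ∈ {v : G | (orderOf v).Coprime q} := by
      show (orderOf (c⁻¹ * v * c)).Coprime q
      have := orderOf_conj_eq c⁻¹ v
      rw [inv_inv] at this
      rw [this]
      exact hv
    have h3 := (Subgroup.mem_centralizer_iff.1 hd.2) _ hv'
    calc v * (c * d * c⁻¹) = c * ((c⁻¹ * v * c) * d) * c⁻¹ := by group
      _ = c * (d * (c⁻¹ * v * c)) * c⁻¹ := by rw [h3]
      _ = (c * d * c⁻¹) * v := by group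
  haveI := hDn
  have hDp : IsPGroup q ↥(pCore q G ⊓ Subgroup.centralizer {v : G | (orderOf v).Coprime q}) :=
    hOp.to_le inf_le_left
  have hle := le_hypercenter_of_centralized _ G rfl q
    (pCore q G ⊓ Subgroup.centralizer {v : G | (orderOf v).Coprime q}) hDp (by
      intro d hd v hv
      exact ((Subgroup.mem_centralizer_iff.1 hd.2) v hv).symm)
  apply hyZ
  apply hle
  refine ⟨hyO, ?_⟩
  show _ ∈ Subgroup.centralizer _
  rw [Subgroup.mem_centralizer_iff]
  intro v hv
  exact (hycomm v hv).symm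

end Cfsg.Agent.Helper7
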