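import Mathlib
import Cfsg.Prelude.Def_Solvable
import Cfsg.Agent.Lead.Frobenius

set_option autoImplicit false

universe u

namespace Cfsg.Agent.Helper7

open Cfsg

/-- A fixed-point-free action gives a Frobenius group: if `N` is normal, `N ⊓ H = ⊥` and no
nontrivial element of `H` commutes with a nontrivial element of `N`, then `H` is a Frobenius
complement in `N ⊔ H` with kernel `N`. -/
theorem frobenius_of_fpf {G : Type u} [Group G] [Finite G] (N H : Subgroup G) [hNn : N.Normal]
    (hN1 : N ≠ ⊥) (hH1 : H ≠ ⊥) (hNH : N ⊓ H = ⊥)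
    (hfpf : ∀ h ∈ H, h ≠ 1 → ∀ n ∈ N, n * h = h * n → n = 1) :
    IsFrobeniusComplement (H.subgroupOf (N ⊔ H)) ∧
      frobeniusKernel (H.subgroupOf (N ⊔ H)) = (N.subgroupOf (N ⊔ H) : Set ↥(N ⊔ H)) := by
  have hdecomp : ∀ x ∈ N ⊔ H, ∃ n ∈ N, ∃ h ∈ H, x = n * h := by
    intro x hx
    have hx' : x ∈ ((N ⊔ H : Subgroup G) : Set G) := hx
    rw [Subgroup.normal_mul] at hx'
    obtain ⟨n, hn, h, hh, rfl⟩ := Set.mem_mul.1 hx'
    exact ⟨n, hn, h, hh, rfl⟩
  have hHL : H ≤ N ⊔ H := le_sup_right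
  have hNL : N ≤ N ⊔ H := le_sup_left
  refine ⟨⟨?_, ?_, ?_⟩, ?_⟩
  · intro h
    rw [Subgroup.subgroupOf_eq_bot] at h
    apply hH1
    rw [eq_bot_iff]
    intro x hx
    exact h.le_bot ⟨hx, hHL hx⟩
  · intro h
    rw [Subgroup.subgroupOf_eq_top] at h
    apply hN1
    rw [eq_bot_iff]
    intro x hx
    rw [← hNH]
    exact ⟨hx, h (hNL hx)⟩
  · intro g hg
    rw [eq_bot_iff]
    rintro x ⟨hx1, hx2⟩
    have hx2' := Lead.mem_conj_smul_iff'.1 hx2
    have hx1 : x ∈ H.subgroupOf (N ⊔ H) := hx1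
    rw [Subgroup.mem_subgroupOf] at hx1 hx2' hg
    rw [Subgroup.mem_bot]
    apply Subtype.ext
    show (x : G) = 1
    obtain ⟨n, hn, h₀, hh₀, hgn⟩ := hdecomp g.1 g.2
    have hx2'' : (g : G)⁻¹ * (x : G) * (g : G) ∈ H := hx2'
    set h' : G := h₀ * ((g : G)⁻¹ * (x : G) * (g : G)) * h₀⁻¹ with hh'
    have hh'H : h' ∈ H := H.mul_mem (H.mul_mem hh₀ hx2'') (H.inv_mem hh₀)
    have hxe : (x : G) = n * h' * n⁻¹ := by
      rw [hh', hgn]
      group
    have h1 : (x : G) * h'⁻¹ ∈ N := by
      have e : (x : G) * h'⁻¹ = n * (h' * n⁻¹ * h'⁻¹) := by rw [hxe]; group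
      rw [e]
      exact N.mul_mem hn (hNn.conj_mem _ (N.inv_mem hn) h')
    have h2 : (x : G) * h'⁻¹ ∈ H := H.mul_mem hx1 (H.inv_mem hh'H)
    have h3 : (x : G) * h'⁻¹ ∈ N ⊓ H := ⟨h1, h2⟩
    rw [hNH, Subgroup.mem_bot] at h3
    have hxh : (x : G) = h' := mul_inv_eq_one.1 h3
    by_cases hh1 : h' = 1
    · rw [hxh, hh1]
    · exfalso
      have hcomm : n * h' = h' * n := by
        have e : n * h' = (n * h' * n⁻¹) * n := by group
        rw [e, ← hxe, hxh]
      have hn1 := hfpf h' hh'H hh1 n hn hcomm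
      apply hg
      rw [hgn, hn1, one_mul]
      exact hh₀
  · ext x
    constructor
    · intro hx
      show x ∈ N.subgroupOf (N ⊔ H)
      rw [Subgroup.mem_subgroupOf]
      rcases hx with hx | hx
      · rw [hx]
        exact N.one_mem
      · obtain ⟨n, hn, h, hh, hxn⟩ := hdecomp x.1 x.2
        by_cases hh1 : h = 1
        · rw [hxn, hh1, mul_one]
          exact hn
        · exfalso
          let φ : N → N := fun m => ⟨(m : G) * h * (m : G)⁻¹ * h⁻¹, by
            have e : (m : G) * h * (m : G)⁻¹ * h⁻¹ = (m : G) * (h * (m : G)⁻¹ * h⁻¹) := by group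
            rw [e]
            exact N.mul_mem m.2 (hNn.conj_mem _ (N.inv_mem m.2) h)⟩
          have hinj : Function.Injective φ := by
            intro m m' hmm
            have h1 : (m : G) * h * (m : G)⁻¹ * h⁻¹ = (m' : G) * h * (m' : G)⁻¹ * h⁻¹ :=
              congrArg Subtype.val hmm
            have h2 : (m : G) * h * (m : G)⁻¹ = (m' : G) * h * (m' : G)⁻¹ := mul_right_cancel h1
            have h3 : ((m' : G)⁻¹ * (m : G)) * h = h * ((m' : G)⁻¹ * (m : G)) := by
              calc ((m' : G)⁻¹ * (m : G)) * h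
                  = (m' : G)⁻¹ * ((m : G) * h * (m : G)⁻¹) * (m : G) := by group
                _ = (m' : G)⁻¹ * ((m' : G) * h * (m' : G)⁻¹) * (m : G) := by rw [h2]
                _ = h * ((m' : G)⁻¹ * (m : G)) := by group
            have h4 := hfpf h hh hh1 _ (N.mul_mem (N.inv_mem m'.2) m.2) h3
            apply Subtype.ext
            calc (m : G) = (m' : G) * ((m' : G)⁻¹ * (m : G)) := by group
              _ = (m' : G) := by rw [h4, mul_one]
          obtain ⟨m, hm⟩ := Finite.surjective_of_injective hinj ⟨n, hn⟩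
          have hm' : (m : G) * h * (m : G)⁻¹ * h⁻¹ = n := congrArg Subtype.val hm
          have hxm : (x : G) = (m : G) * h * (m : G)⁻¹ := by
            rw [hxn, ← hm']
            group
          apply hx ⟨(m : G), hNL m.2⟩
          rw [Lead.mem_conj_smul_iff', Subgroup.mem_subgroupOf]
          show (m : G)⁻¹ * (x : G) * (m : G) ∈ H
          rw [hxm]
          have e : (m : G)⁻¹ * ((m : G) * h * (m : G)⁻¹) * (m : G) = h := by group
          rw [e]
          exact hh
    · intro hx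
      have hx' : (x : G) ∈ N := Subgroup.mem_subgroupOf.1 hx
      by_cases hx1 : x = 1
      · exact Or.inl hx1
      · right
        intro g hg
        rw [Lead.mem_conj_smul_iff', Subgroup.mem_subgroupOf] at hg
        have hg' : (g : G)⁻¹ * (x : G) * (g : G) ∈ H := hg
        have h1 : (g : G)⁻¹ * (x : G) * (g : G) ∈ N := by
          have := hNn.conj_mem _ hx' (g : G)⁻¹
          rwa [inv_inv] at this
        have h2 : (g : G)⁻¹ * (x : G) * (g : G) ∈ N ⊓ H := ⟨h1, hg'⟩
        rw [hNH, Subgroup.mem_bot] at h2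
        apply hx1
        apply Subtype.ext
        show (x : G) = 1
        calc (x : G) = (g : G) * ((g : G)⁻¹ * (x : G) * (g : G)) * (g : G)⁻¹ := by group
          _ = 1 := by rw [h2]; group

/-- S4108: equal-order cosets of a normal `p`-subgroup make every `p'`-subgroup act
fixed-point-freely. -/
theorem frobenius_of_equal_order_cosets {G : Type u} [Group G] [Finite G] (N : Subgroup G)
    [N.Normal] (hN1 : N ≠ ⊥)
    (heq : ∀ x : G, x ∉ N → ∀ n ∈ N, orderOf (x * n) = orderOf x)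
    (p : ℕ) [Fact p.Prime] (hNp : IsPGroup p N) (H : Subgroup G) (hH1 : H ≠ ⊥)
    (hcop : (Nat.card H).Coprime p) :
    IsFrobeniusComplement (H.subgroupOf (N ⊔ H)) ∧
      frobeniusKernel (H.subgroupOf (N ⊔ H)) = (N.subgroupOf (N ⊔ H) : Set ↥(N ⊔ H)) := by
  obtain ⟨k, hk⟩ := IsPGroup.iff_card.1 hNp
  have hcopNH : (Nat.card N).Coprime (Nat.card H) := by
    rw [hk]
    exact Nat.Coprime.pow_left k hcop.symm
  have hNH : N ⊓ H = ⊥ := (Subgroup.disjoint_of_coprime_natCard hcopNH).eq_bot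
  apply frobenius_of_fpf N H hN1 hH1 hNH
  intro h hh hh1 n hn hnh
  have hhN : h ∉ N := by
    intro hhN
    have : h ∈ N ⊓ H := ⟨hhN, hh⟩
    rw [hNH, Subgroup.mem_bot] at this
    exact hh1 this
  have h1 := heq h hhN n hn
  have hco : (orderOf h).Coprime (orderOf n) := by
    have e1 : orderOf h ∣ Nat.card H := by
      have := orderOf_dvd_natCard (⟨h, hh⟩ : H)
      rwa [Subgroup.orderOf_mk] at this
    have e2 : orderOf n ∣ Nat.card N := by
      have := orderOf_dvd_natCard (⟨n, hn⟩ : N)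
      rwa [Subgroup.orderOf_mk] at this
    exact Nat.Coprime.coprime_dvd_left e1 (Nat.Coprime.coprime_dvd_right e2 hcopNH.symm)
  have hc : Commute h n := hnh.symm
  rw [hc.orderOf_mul_eq_mul_orderOf_of_coprime hco] at h1
  have h2 : orderOf n = 1 := by
    have hpos : 0 < orderOf h := orderOf_pos h
    have : orderOf h * orderOf n = orderOf h * 1 := by rw [h1, mul_one]
    exact Nat.eq_of_mul_eq_mul_left hpos this
  exact orderOf_eq_one_iff.1 h2

end Cfsg.Agent.Helper7
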