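import Mathlib
import Cfsg.Agent.Helper7.Basic

set_option autoImplicit false

namespace Cfsg.Agent.Helper7

universe u

variable {G : Type u} [Group G]

/-- The number of generators of a cyclic subgroup. -/
theorem card_zpowers_eq_zpowers [Finite G] (x0 : G) :
    Nat.card {x : G // Subgroup.zpowers x = Subgroup.zpowers x0} = Nat.totient (orderOf x0) := by
  classical
  let _ : Fintype (Subgroup.zpowers x0) := Fintype.ofFinite _
  have h1 := IsCyclic.card_orderOf_eq_totient (α := Subgroup.zpowers x0) (d := orderOf x0)
    (by rw [← Nat.card_eq_fintype_card, Nat.card_zpowers])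
  rw [← h1, ← Fintype.card_subtype, ← Nat.card_eq_fintype_card]
  apply Nat.card_congr
  refine ⟨fun x => ⟨⟨x.1, ?_⟩, ?_⟩, fun c => ⟨c.1.1, ?_⟩, ?_, ?_⟩
  · have h2 := x.2
    have h3 := Subgroup.mem_zpowers x.1
    rw [h2] at h3
    exact h3
  · have h2 := x.2
    rw [Subgroup.orderOf_mk, ← Nat.card_zpowers, h2, Nat.card_zpowers]
  · apply Subgroup.eq_of_le_of_card_ge
    · exact (Subgroup.zpowers_le).2 c.1.2
    · have h2 := c.2
      rw [← Subgroup.orderOf_coe] at h2
      rw [Nat.card_zpowers, Nat.card_zpowers, h2]
  · intro x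
    rfl
  · intro c
    rfl

/-- A set of group elements that is a union of sets of generators of cyclic subgroups has
cardinality divisible by any common divisor of the relevant totients. -/
theorem dvd_card_of_zpowers_closed [Finite G] (P : G → Prop) (d : ℕ)
    (hP : ∀ x y : G, Subgroup.zpowers x = Subgroup.zpowers y → P x → P y)
    (hd : ∀ x, P x → d ∣ Nat.totient (orderOf x)) : d ∣ Nat.card {x : G // P x} := by
  classical
  let _ : Fintype G := Fintype.ofFinite _
  rw [Nat.card_eq_fintype_card, Fintype.card_subtype]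
  rw [Finset.card_eq_sum_card_image (fun x => Subgroup.zpowers x)]
  apply Finset.dvd_sum
  intro C hC
  rw [Finset.mem_image] at hC
  obtain ⟨x0, hx0, rfl⟩ := hC
  rw [Finset.mem_filter] at hx0
  have h1 : (Finset.filter (fun x => Subgroup.zpowers x = Subgroup.zpowers x0)
      (Finset.filter P Finset.univ)) =
      Finset.univ.filter (fun x => Subgroup.zpowers x = Subgroup.zpowers x0) := by
    ext x
    simp only [Finset.mem_filter, Finset.mem_univ, true_and]
    exact ⟨fun h => h.2, fun h => ⟨hP x0 x h.symm hx0.2, h⟩⟩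
  rw [h1, ← Fintype.card_subtype, ← Nat.card_eq_fintype_card, card_zpowers_eq_zpowers]
  exact hd x0 hx0.2

/-- A sum of a class function is divisible by `m` as soon as each class contributes a
multiple of `m`. -/
theorem dvd_sum_of_class_fun [Fintype G] (m : ℕ) (F : G → ℕ)
    (hF : ∀ g u : G, F (g * u * g⁻¹) = F u)
    (h : ∀ u, m ∣ (Subgroup.centralizer ({u} : Set G)).index * F u) : m ∣ ∑ u : G, F u := by
  classical
  rw [← Finset.sum_fiberwise (Finset.univ) (ConjClasses.mk) F]
  apply Finset.dvd_sum
  intro c _
  obtain ⟨u0, rfl⟩ := ConjClasses.mk_surjective c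
  have h1 : ∀ u ∈ Finset.univ.filter (fun u : G => ConjClasses.mk u = ConjClasses.mk u0),
      F u = F u0 := by
    intro u hu
    rw [Finset.mem_filter, ConjClasses.mk_eq_mk_iff_isConj, isConj_comm, isConj_iff] at hu
    obtain ⟨g, hg⟩ := hu.2
    rw [← hg, hF]
  rw [Finset.sum_congr rfl h1, Finset.sum_const, smul_eq_mul]
  have h2 : (Finset.univ.filter (fun u : G => ConjClasses.mk u = ConjClasses.mk u0)).card =
      (Subgroup.centralizer ({u0} : Set G)).index := by
    rw [← card_isConj_eq_index_centralizer, Nat.card_eq_fintype_card, Fintype.card_subtype]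
    congr 1
    ext u
    simp only [Finset.mem_filter, Finset.mem_univ, true_and]
    rw [ConjClasses.mk_eq_mk_iff_isConj, isConj_comm]
  rw [h2]
  exact h u0

/-- Passing to the quotient by a central subgroup of exponent prime to `m` does not change the
number of solutions of `y ^ m = 1`. -/
theorem card_pow_eq_one_quotient {H : Type u} [Group H] (Z : Subgroup H) [Z.Normal]
    (hZ : Z ≤ Subgroup.center H) (q m : ℕ) (hq : ∀ z ∈ Z, z ^ q = 1) (hqm : Nat.Coprime q m) :
    Nat.card {y : H // y ^ m = 1} = Nat.card {y : H ⧸ Z // y ^ m = 1} := by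
  have hmap : ∀ y : {y : H // y ^ m = 1}, ((y.1 : H) : H ⧸ Z) ^ m = 1 := by
    intro y
    rw [← QuotientGroup.mk_pow, y.2]
    rfl
  apply Nat.card_congr
  refine Equiv.ofBijective (fun y => ⟨((y.1 : H) : H ⧸ Z), hmap y⟩) ⟨?_, ?_⟩
  · intro y1 y2 h12
    have h1 : ((y1.1 : H) : H ⧸ Z) = ((y2.1 : H) : H ⧸ Z) := congrArg Subtype.val h12
    rw [QuotientGroup.eq] at h1
    have hz : y1.1⁻¹ * y2.1 ∈ Subgroup.center H := hZ h1
    have h2 : y2.1 = y1.1 * (y1.1⁻¹ * y2.1) := by group
    have hc : Commute y1.1 (y1.1⁻¹ * y2.1) := by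
      rw [Subgroup.mem_center_iff] at hz
      exact (hz y1.1)
    have h3 : (y1.1⁻¹ * y2.1) ^ m = 1 := by
      have h4 := y2.2
      rw [h2, hc.mul_pow, y1.2, one_mul] at h4
      exact h4
    have h5 : (y1.1⁻¹ * y2.1) ^ q = 1 := hq _ h1
    have h6 : orderOf (y1.1⁻¹ * y2.1) ∣ 1 := by
      have h7 := Nat.dvd_gcd (orderOf_dvd_of_pow_eq_one h5) (orderOf_dvd_of_pow_eq_one h3)
      rwa [hqm] at h7
    have h8 : y1.1⁻¹ * y2.1 = 1 := by
      rw [← orderOf_eq_one_iff]
      exact Nat.dvd_one.1 h6
    apply Subtype.ext
    rw [h2, h8, mul_one]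
  · rintro ⟨yb, hyb⟩
    obtain ⟨y, rfl⟩ := QuotientGroup.mk_surjective yb
    have h1 : y ^ m ∈ Z := by
      rw [← QuotientGroup.eq_one_iff, QuotientGroup.mk_pow]
      exact hyb
    have h2 : y ^ (m * q) = 1 := by
      rw [pow_mul]
      exact hq _ h1
    obtain ⟨k, hk0, hk1⟩ := Nat.chineseRemainder hqm 0 1
    have hk0' : q ∣ k := (Nat.modEq_zero_iff_dvd).1 hk0
    have h3 : (y ^ k) ^ m = 1 := by
      obtain ⟨t, rfl⟩ := hk0'
      rw [← pow_mul, show q * t * m = m * q * t by ring, pow_mul, h2, one_pow]
    refine ⟨⟨y ^ k, h3⟩, ?_⟩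
    apply Subtype.ext
    show ((y ^ k : H) : H ⧸ Z) = (y : H ⧸ Z)
    rw [QuotientGroup.mk_pow]
    have h4 : (y : H ⧸ Z) ^ k = (y : H ⧸ Z) ^ 1 := by
      rw [pow_eq_pow_iff_modEq]
      exact hk1.of_dvd (orderOf_dvd_of_pow_eq_one hyb)
    rw [h4, pow_one]

/-- Key step of the Isaacs–Robinson proof of Frobenius' theorem. -/
theorem frobenius_step [Finite G]
    (IH : ∀ (H : Type u) [Group H] [Finite H], Nat.card H < Nat.card G →
      ∀ n, n ∣ Nat.card H → n ∣ Nat.card {h : H // h ^ n = 1})
    (p b m : ℕ) (hp : p.Prime) (hpm : ¬ p ∣ m) (hdvd : p ^ (b + 1) * m ∣ Nat.card G) :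
    p ^ b * m ∣ Nat.card {x : G // x ^ (p ^ (b + 1) * m) = 1 ∧ x ^ (p ^ b * m) ≠ 1} := by
  classical
  haveI := Fact.mk hp
  have hcop : Nat.Coprime p m := (Nat.Prime.coprime_iff_not_dvd hp).2 hpm
  apply Nat.Coprime.mul_dvd_of_dvd_of_dvd (Nat.Coprime.pow_left b hcop)
  · -- the `p`-part
    apply dvd_card_of_zpowers_closed
    · intro x y hxy hx
      have ho : orderOf x = orderOf y := by
        rw [← Nat.card_zpowers, hxy, Nat.card_zpowers]
      rw [← orderOf_dvd_iff_pow_eq_one, ne_eq, ← orderOf_dvd_iff_pow_eq_one] at hx ⊢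
      rwa [← ho]
    · intro x hx
      have h1 : orderOf x ∣ p ^ (b + 1) * m := orderOf_dvd_of_pow_eq_one hx.1
      have h2 : ¬ orderOf x ∣ p ^ b * m := fun h => hx.2 (orderOf_dvd_iff_pow_eq_one.1 h)
      obtain ⟨j, o', ho', ho⟩ :=
        Nat.exists_eq_pow_mul_and_not_dvd (orderOf_pos x).ne' p hp.ne_one
      have h3 : o' ∣ m := by
        have h4 : Nat.Coprime o' (p ^ (b + 1)) :=
          Nat.Coprime.pow_right _ ((Nat.Prime.coprime_iff_not_dvd hp).2 ho').symm
        apply h4.dvd_of_dvd_mul_left
        exact (Dvd.intro_left _ ho.symm).trans h1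
      have h5 : b + 1 ≤ j := by
        by_contra hcon
        push Not at hcon
        apply h2
        rw [ho]
        exact Nat.mul_dvd_mul (pow_dvd_pow p (by omega)) h3
      have h6 : p ^ (b + 1) ∣ orderOf x := by
        rw [ho]
        exact (pow_dvd_pow p h5).trans (Dvd.intro _ rfl)
      have h7 := Nat.totient_dvd_of_dvd h6
      rw [Nat.totient_prime_pow_succ hp] at h7
      exact (Dvd.intro _ rfl).trans h7
  · -- the `p'`-part
    let _ : Fintype G := Fintype.ofFinite _
    have hqdef : ∃ q, q = p ^ (b + 1) := ⟨_, rfl⟩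
    obtain ⟨q, hq⟩ := hqdef
    rw [← hq] at hdvd ⊢
    have hqm : Nat.Coprime q m := by
      rw [hq]
      exact Nat.Coprime.pow_left _ hcop
    have hq2 : 2 ≤ q := by
      rw [hq]
      calc 2 ≤ p := hp.two_le
        _ = p ^ 1 := (pow_one p).symm
        _ ≤ p ^ (b + 1) := Nat.pow_le_pow_right hp.pos (by omega)
    obtain ⟨k, hk1, hk0⟩ := Nat.chineseRemainder hqm 1 0
    obtain ⟨k', hk'0, hk'1⟩ := Nat.chineseRemainder hqm 0 1
    have hmk : m ∣ k := (Nat.modEq_zero_iff_dvd).1 hk0
    have hqk' : q ∣ k' := (Nat.modEq_zero_iff_dvd).1 hk'0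
    have hkk' : k + k' ≡ 1 [MOD q * m] := by
      rw [← Nat.modEq_and_modEq_iff_modEq_mul hqm]
      exact ⟨by simpa using hk1.add hk'0, by simpa using hk0.add hk'1⟩
    -- general facts
    have A1 : ∀ x : G, x ^ (q * m) = 1 → (x ^ k') ^ m = 1 := by
      intro x hx
      obtain ⟨t, rfl⟩ := hqk'
      rw [← pow_mul, show q * t * m = q * m * t by ring, pow_mul, hx, one_pow]
    have A2 : ∀ x : G, x ^ (q * m) = 1 → x ^ k * x ^ k' = x := by
      intro x hx
      rw [← pow_add]
      have h1 : x ^ (k + k') = x ^ 1 := by
        rw [pow_eq_pow_iff_modEq]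
        exact hkk'.of_dvd (orderOf_dvd_of_pow_eq_one hx)
      rw [h1, pow_one]
    have A3 : ∀ x : G, x ^ (q * m) = 1 → (x ^ k) ^ q = 1 := by
      intro x hx
      obtain ⟨t, rfl⟩ := hmk
      rw [← pow_mul, show m * t * q = q * m * t by ring, pow_mul, hx, one_pow]
    have B1 : ∀ u y : G, orderOf u = q → Commute u y → y ^ m = 1 → (u * y) ^ (q * m) = 1 := by
      intro u y hu hc hy
      rw [hc.mul_pow, pow_mul, ← hu, pow_orderOf_eq_one, one_pow, one_mul, mul_comm, pow_mul, hy,
        one_pow]
    have B2 : ∀ u y : G, orderOf u = q → Commute u y → y ^ m = 1 →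
        (u * y) ^ (p ^ b * m) ≠ 1 := by
      intro u y hu hc hy h
      rw [hc.mul_pow, mul_comm (p ^ b) m, pow_mul y, hy, one_pow, mul_one,
        ← orderOf_dvd_iff_pow_eq_one, hu, hq, pow_succ, mul_comm m] at h
      exact hpm (Nat.dvd_of_mul_dvd_mul_left (pow_pos hp.pos b) h)
    have B3 : ∀ u y : G, orderOf u = q → Commute u y → y ^ m = 1 → (u * y) ^ k = u := by
      intro u y hu hc hy
      have h1 : u ^ k = u ^ 1 := by
        rw [pow_eq_pow_iff_modEq, hu]
        exact hk1
      have h2 : y ^ k = 1 := by
        obtain ⟨t, rfl⟩ := hmk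
        rw [pow_mul, hy, one_pow]
      rw [hc.mul_pow, h1, h2, pow_one, mul_one]
    have B4 : ∀ u y : G, orderOf u = q → Commute u y → y ^ m = 1 → (u * y) ^ k' = y := by
      intro u y hu hc hy
      have h1 : y ^ k' = y ^ 1 := by
        rw [pow_eq_pow_iff_modEq]
        exact hk'1.of_dvd (orderOf_dvd_of_pow_eq_one hy)
      have h2 : u ^ k' = 1 := by
        obtain ⟨t, rfl⟩ := hqk'
        rw [pow_mul, ← hu, pow_orderOf_eq_one, one_pow]
      rw [hc.mul_pow, h1, h2, pow_one, one_mul]
    -- the class function
    let F : G → ℕ := fun u => Nat.card {y : G // Commute u y ∧ y ^ m = 1}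
    have hX : Nat.card {x : G // x ^ (q * m) = 1 ∧ x ^ (p ^ b * m) ≠ 1} =
        ∑ u : G, if orderOf u = q then F u else 0 := by
      rw [Nat.card_eq_fintype_card, Fintype.card_subtype, ← Finset.sum_filter]
      rw [Finset.card_eq_sum_card_fiberwise (f := fun x => x ^ k)
        (t := Finset.univ.filter (fun u => orderOf u = q))]
      · apply Finset.sum_congr rfl
        intro u hu
        rw [Finset.mem_filter] at hu
        have hu' := hu.2
        show _ = Nat.card {y : G // Commute u y ∧ y ^ m = 1}
        rw [Nat.card_eq_fintype_card, Fintype.card_subtype]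
        apply Finset.card_nbij' (fun x => x ^ k') (fun y => u * y)
        · intro x hx
          simp only [Finset.coe_filter, Finset.mem_filter, Finset.mem_univ, true_and,
            Set.mem_ofPred_eq] at hx ⊢
          refine ⟨?_, A1 x hx.1.1⟩
          rw [← hx.2]
          exact (Commute.refl x).pow_pow k k'
        · intro y hy
          simp only [Finset.coe_filter, Finset.mem_filter, Finset.mem_univ, true_and,
            Set.mem_ofPred_eq] at hy ⊢
          exact ⟨⟨B1 u y hu' hy.1 hy.2, B2 u y hu' hy.1 hy.2⟩, B3 u y hu' hy.1 hy.2⟩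
        · intro x hx
          simp only [Finset.coe_filter, Finset.mem_filter, Finset.mem_univ, true_and,
            Set.mem_ofPred_eq] at hx
          show u * x ^ k' = x
          rw [← hx.2]
          exact A2 x hx.1.1
        · intro y hy
          simp only [Finset.coe_filter, Finset.mem_filter, Finset.mem_univ, true_and,
            Set.mem_ofPred_eq] at hy
          exact B4 u y hu' hy.1 hy.2
      · intro x hx
        simp only [Finset.coe_filter, Finset.mem_filter, Finset.mem_univ, true_and,
          Set.mem_ofPred_eq] at hx ⊢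
        rw [hq]
        apply orderOf_eq_prime_pow
        · intro h
          apply hx.2
          have h1 : x ^ (p ^ b * m) = (x ^ k) ^ (p ^ b * m) * (x ^ k') ^ (p ^ b * m) := by
            rw [← ((Commute.refl x).pow_pow k k').mul_pow, A2 x hx.1]
          rw [h1, pow_mul, h, one_pow, one_mul, mul_comm, pow_mul, A1 x hx.1, one_pow]
        · rw [← hq]
          exact A3 x hx.1
    rw [hX]
    apply dvd_sum_of_class_fun
    · intro g u
      have h1 : orderOf (g * u * g⁻¹) = orderOf u := (MulAut.conj g).orderOf_eq u
      have h2 : F (g * u * g⁻¹) = F u := by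
        apply Nat.card_congr
        refine ⟨fun y => ⟨MulAut.conj g⁻¹ y.1, ?_, ?_⟩, fun y => ⟨MulAut.conj g y.1, ?_, ?_⟩,
          ?_, ?_⟩
        · have h3 := y.2.1.map (MulAut.conj g⁻¹)
          have h4 : MulAut.conj g⁻¹ (g * u * g⁻¹) = u := by
            simp [MulAut.conj_apply, mul_assoc]
          rwa [h4] at h3
        · rw [← map_pow, y.2.2, map_one]
        · have h3 := y.2.1.map (MulAut.conj g)
          exact h3
        · rw [← map_pow, y.2.2, map_one]
        · intro y
          apply Subtype.ext
          simp [MulAut.conj_apply, mul_assoc]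
        · intro y
          apply Subtype.ext
          simp [MulAut.conj_apply, mul_assoc]
      rw [h1, h2]
    · intro u
      split_ifs with hu
      swap
      · simp
      -- the centralizer of `u` and its quotient by `⟨u⟩`
      have hmem : u ∈ Subgroup.centralizer ({u} : Set G) := by
        rw [Subgroup.mem_centralizer_iff]
        intro h hh
        rw [Set.mem_singleton_iff] at hh
        rw [hh]
      have hcen : (⟨u, hmem⟩ : Subgroup.centralizer ({u} : Set G)) ∈
          Subgroup.center (Subgroup.centralizer ({u} : Set G)) := by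
        rw [Subgroup.mem_center_iff]
        intro h
        apply Subtype.ext
        have h1 := h.2
        rw [Subgroup.mem_centralizer_iff] at h1
        exact (h1 u rfl).symm
      have hZc : Subgroup.zpowers (⟨u, hmem⟩ : Subgroup.centralizer ({u} : Set G)) ≤
          Subgroup.center (Subgroup.centralizer ({u} : Set G)) :=
        (Subgroup.zpowers_le).2 hcen
      haveI hZn : (Subgroup.zpowers (⟨u, hmem⟩ : Subgroup.centralizer ({u} : Set G))).Normal := by
        constructor
        intro z hz g
        have h1 := hZc hz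
        rw [Subgroup.mem_center_iff] at h1
        rw [h1 g, mul_inv_cancel_right]
        exact hz
      have hZcard : Nat.card (Subgroup.zpowers
          (⟨u, hmem⟩ : Subgroup.centralizer ({u} : Set G))) = q := by
        rw [Nat.card_zpowers, Subgroup.orderOf_mk, hu]
      have hZq : ∀ z ∈ Subgroup.zpowers (⟨u, hmem⟩ : Subgroup.centralizer ({u} : Set G)),
          z ^ q = 1 := by
        intro z hz
        have h1 : (⟨z, hz⟩ : Subgroup.zpowers
            (⟨u, hmem⟩ : Subgroup.centralizer ({u} : Set G))) ^ q = 1 := by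
          rw [← hZcard]
          exact pow_card_eq_one'
        exact congrArg Subtype.val h1
      have hF1 : F u = Nat.card {y : Subgroup.centralizer ({u} : Set G) // y ^ m = 1} := by
        apply Nat.card_congr
        refine ⟨fun y => ⟨⟨y.1, ?_⟩, ?_⟩, fun y => ⟨y.1.1, ?_, ?_⟩, ?_, ?_⟩
        · rw [Subgroup.mem_centralizer_iff]
          intro h hh
          rw [Set.mem_singleton_iff] at hh
          rw [hh]
          exact y.2.1.eq
        · apply Subtype.ext
          exact y.2.2
        · have h1 := y.1.2
          rw [Subgroup.mem_centralizer_iff] at h1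
          exact h1 u rfl
        · exact congrArg Subtype.val y.2
        · intro y
          rfl
        · intro y
          rfl
      have hF2 := card_pow_eq_one_quotient
        (Subgroup.zpowers (⟨u, hmem⟩ : Subgroup.centralizer ({u} : Set G))) hZc q m hZq hqm
      have hcardH := Subgroup.card_eq_card_quotient_mul_card_subgroup
        (Subgroup.zpowers (⟨u, hmem⟩ : Subgroup.centralizer ({u} : Set G)))
      rw [hZcard] at hcardH
      have hle : Nat.card (Subgroup.centralizer ({u} : Set G)) ≤ Nat.card G :=
        Subgroup.card_le_card_group _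
      have hpos : 0 < Nat.card (Subgroup.centralizer ({u} : Set G) ⧸
          Subgroup.zpowers (⟨u, hmem⟩ : Subgroup.centralizer ({u} : Set G))) := Nat.card_pos
      have hlt : Nat.card (Subgroup.centralizer ({u} : Set G) ⧸
          Subgroup.zpowers (⟨u, hmem⟩ : Subgroup.centralizer ({u} : Set G))) < Nat.card G := by
        nlinarith
      have hIH := IH _ hlt (Nat.gcd m (Nat.card (Subgroup.centralizer ({u} : Set G) ⧸
          Subgroup.zpowers (⟨u, hmem⟩ : Subgroup.centralizer ({u} : Set G)))))
          (Nat.gcd_dvd_right _ _)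
      have hL : Nat.card {h : Subgroup.centralizer ({u} : Set G) ⧸
          Subgroup.zpowers (⟨u, hmem⟩ : Subgroup.centralizer ({u} : Set G)) //
          h ^ (Nat.gcd m (Nat.card (Subgroup.centralizer ({u} : Set G) ⧸
          Subgroup.zpowers (⟨u, hmem⟩ : Subgroup.centralizer ({u} : Set G))))) = 1} =
          Nat.card {h : Subgroup.centralizer ({u} : Set G) ⧸
          Subgroup.zpowers (⟨u, hmem⟩ : Subgroup.centralizer ({u} : Set G)) // h ^ m = 1} := by
        apply Nat.card_congr
        apply Equiv.subtypeEquivRight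
        intro h
        rw [← orderOf_dvd_iff_pow_eq_one, ← orderOf_dvd_iff_pow_eq_one, Nat.dvd_gcd_iff]
        exact ⟨fun h1 => h1.1, fun h1 => ⟨h1, orderOf_dvd_natCard h⟩⟩
      rw [hL, ← hF2, ← hF1] at hIH
      have h1 : m ∣ (Subgroup.centralizer ({u} : Set G)).index *
          Nat.card (Subgroup.centralizer ({u} : Set G) ⧸
          Subgroup.zpowers (⟨u, hmem⟩ : Subgroup.centralizer ({u} : Set G))) := by
        have h2 : m ∣ (Subgroup.centralizer ({u} : Set G)).index *
          Nat.card (Subgroup.centralizer ({u} : Set G) ⧸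
          Subgroup.zpowers (⟨u, hmem⟩ : Subgroup.centralizer ({u} : Set G))) * q := by
          rw [mul_assoc, ← hcardH, mul_comm, Subgroup.card_mul_index]
          exact (Dvd.intro_left _ rfl).trans hdvd
        exact hqm.symm.dvd_of_dvd_mul_right h2
      have h3 := Nat.dvd_gcd (Dvd.intro_left _ rfl :
        m ∣ (Subgroup.centralizer ({u} : Set G)).index * m) h1
      rw [Nat.gcd_mul_left] at h3
      exact h3.trans (Nat.mul_dvd_mul_left _ hIH)

/-- Frobenius' theorem: if `n` divides the order of `G`, then it divides the number of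
solutions of `x ^ n = 1`. -/
theorem frobenius_aux (N : ℕ) : ∀ (G : Type u) [Group G] [Finite G], Nat.card G = N →
    ∀ n, n ∣ N → n ∣ Nat.card {x : G // x ^ n = 1} := by
  induction N using Nat.strong_induction_on with
  | _ N ih =>
    intro G _ _ hG
    have hN : 0 < N := hG ▸ Nat.card_pos
    have IH : ∀ (H : Type u) [Group H] [Finite H], Nat.card H < Nat.card G →
        ∀ n, n ∣ Nat.card H → n ∣ Nat.card {h : H // h ^ n = 1} := by
      intro H _ _ hlt n hn
      exact ih (Nat.card H) (hG ▸ hlt) H rfl n hn
    have key : ∀ k n : ℕ, n * k = N → n ∣ Nat.card {x : G // x ^ n = 1} := by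
      intro k
      induction k using Nat.strong_induction_on with
      | _ k ihk =>
        intro n hnk
        rcases Nat.lt_or_ge 1 k with hk | hk
        · -- a prime divisor of `k`
          have hk1 : k ≠ 1 := by omega
          obtain ⟨P, hp, k', hk'⟩ : ∃ P : ℕ, P.Prime ∧ ∃ k', k = P * k' :=
            ⟨_, Nat.minFac_prime hk1, Nat.minFac_dvd k⟩
          have hk'pos : 0 < k' := by
            rcases Nat.eq_zero_or_pos k' with h | h
            · rw [h, mul_zero] at hk'
              omega
            · exact h
          have hk'lt : k' < k := by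
            rw [hk']
            nlinarith [hp.two_le]
          have hn0 : n ≠ 0 := by
            rintro rfl
            rw [zero_mul] at hnk
            omega
          have h1 := ihk k' hk'lt (n * P) (by rw [mul_assoc, ← hk', hnk])
          obtain ⟨b, m, hpm, hnbm⟩ := Nat.exists_eq_pow_mul_and_not_dvd hn0 P hp.ne_one
          have hdvd : P ^ (b + 1) * m ∣ Nat.card G := by
            rw [hG, ← hnk, hk', hnbm]
            exact ⟨k', by ring⟩
          have h2 := frobenius_step IH P b m hp hpm hdvd
          have h3 : n * P = P ^ (b + 1) * m := by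
            rw [hnbm]
            ring
          rw [h3] at h1
          rw [← hnbm] at h2
          classical
          let _ : Fintype G := Fintype.ofFinite _
          have h4 : Nat.card {x : G // x ^ (P ^ (b + 1) * m) = 1} =
              Nat.card {x : G // x ^ n = 1} +
              Nat.card {x : G // x ^ (P ^ (b + 1) * m) = 1 ∧ x ^ n ≠ 1} := by
            rw [Nat.card_eq_fintype_card, Nat.card_eq_fintype_card, Nat.card_eq_fintype_card,
              Fintype.card_subtype, Fintype.card_subtype, Fintype.card_subtype,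
              ← Finset.card_filter_add_card_filter_not (fun x : G => x ^ n = 1),
              Finset.filter_filter, Finset.filter_filter]
            congr 2
            ext x
            simp only [Finset.mem_filter, Finset.mem_univ, true_and]
            constructor
            · intro h
              exact h.2
            · intro h
              refine ⟨?_, h⟩
              rw [← h3, pow_mul, h, one_pow]
          rw [h4] at h1
          exact (Nat.dvd_add_iff_left h2).2 ((Dvd.intro _ h3).trans h1)
        · -- `k = 1`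
          have hk1 : k = 1 := by
            rcases Nat.eq_zero_or_pos k with h | h
            · rw [h, mul_zero] at hnk
              omega
            · omega
          rw [hk1, mul_one] at hnk
          have h1 : Nat.card {x : G // x ^ n = 1} = Nat.card G := by
            apply Nat.card_congr
            refine Equiv.subtypeUnivEquiv ?_
            intro x
            rw [hnk, ← hG]
            exact pow_card_eq_one'
          rw [h1, hG, hnk]
    intro n hn
    obtain ⟨k, hk⟩ := hn
    exact key k n hk.symm

/-- Frobenius' theorem: if `n` divides the order of `G`, then it divides the number of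
solutions of `x ^ n = 1`. -/
theorem dvd_card_pow_eq_one {G : Type u} [Group G] [Finite G] (n : ℕ) (hn : n ∣ Nat.card G) :
    n ∣ Nat.card {x : G // x ^ n = 1} :=
  frobenius_aux (Nat.card G) G rfl n hn

end Cfsg.Agent.Helper7
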