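import Mathlib
import Cfsg.Agent.Helper7.SylowLemmas

set_option autoImplicit false

universe u

namespace Cfsg.Agent.Helper7

/-- Orbit–stabilizer for conjugation by a subgroup `N` on an element `x`. -/
theorem card_conj_orbit {G : Type u} [Group G] [Finite G] (N : Subgroup G) (x : G) :
    Nat.card {y : G // ∃ n ∈ N, y = n * x * n⁻¹} =
      Nat.card N / Nat.card ↥(N ⊓ Subgroup.centralizer ({x} : Set G)) := by
  letI act : MulAction N G :=
    MulAction.compHom G ((MulAut.conj : G →* MulAut G).comp N.subtype)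
  have hsmul : ∀ (n : N) (y : G), n • y = (n : G) * y * (n : G)⁻¹ := fun n y => rfl
  have h1 : (MulAction.stabilizer N x).index = (MulAction.orbit N x).ncard :=
    MulAction.index_stabilizer N x
  have h2 : Nat.card (MulAction.stabilizer N x) =
      Nat.card ↥(N ⊓ Subgroup.centralizer ({x} : Set G)) := by
    apply Nat.card_congr
    refine ⟨fun n => ⟨n.1.1, n.1.2, ?_⟩, fun c => ⟨⟨c.1, c.2.1⟩, ?_⟩, fun n => rfl, fun c => rfl⟩
    · show (n.1 : G) ∈ Subgroup.centralizer ({x} : Set G)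
      rw [Subgroup.mem_centralizer_singleton_iff]
      have h := n.2
      rw [MulAction.mem_stabilizer_iff, hsmul] at h
      calc (n.1 : G) * x = (n.1 : G) * x * (n.1 : G)⁻¹ * (n.1 : G) := by group
        _ = x * (n.1 : G) := by rw [h]
    · rw [MulAction.mem_stabilizer_iff, hsmul]
      have h : (c : G) ∈ Subgroup.centralizer ({x} : Set G) := c.2.2
      rw [Subgroup.mem_centralizer_singleton_iff] at h
      show (c : G) * x * (c : G)⁻¹ = x
      rw [h]
      group
  have h3 : Nat.card {y : G // ∃ n ∈ N, y = n * x * n⁻¹} = (MulAction.orbit N x).ncard := by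
    rw [← Nat.card_coe_set_eq]
    apply Nat.card_congr
    apply Equiv.subtypeEquivRight
    intro y
    constructor
    · rintro ⟨n, hn, rfl⟩
      exact ⟨⟨n, hn⟩, rfl⟩
    · rintro ⟨n, rfl⟩
      exact ⟨n.1, n.2, rfl⟩
  have h4 := Subgroup.card_mul_index (MulAction.stabilizer N x)
  rw [h3, ← h1, ← h2]
  exact (Nat.div_eq_of_eq_mul_right Nat.card_pos h4.symm).symm

/-- With a normal `p`-complement `N`, the number of `p`-elements is `Σ_{x ∈ P} |N : C_N(x)|`. -/
theorem card_pElements_normal_pComplement {G : Type u} [Group G] [Finite G] (p : ℕ)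
    [Fact p.Prime] (P : Sylow p G) (N : Subgroup G) [hNn : N.Normal]
    (hNP : N.IsComplement' (P : Subgroup G)) :
    Nat.card {g : G // ∃ k : ℕ, orderOf g = p ^ k} =
      ∑ᶠ x : (P : Subgroup G),
        Nat.card N / Nat.card ↥(N ⊓ Subgroup.centralizer ({(x : G)} : Set G)) := by
  classical
  letI : Fintype ↥(P : Subgroup G) := Fintype.ofFinite _
  rw [finsum_eq_sum_of_fintype]
  have hNPbot : N ⊓ (P : Subgroup G) = ⊥ := hNP.disjoint.eq_bot
  let F : (Σ x : ↥(P : Subgroup G), {y : G // ∃ n ∈ N, y = n * (x : G) * n⁻¹}) →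
      {g : G // ∃ k : ℕ, orderOf g = p ^ k} :=
    fun s => ⟨s.2.1, by
      obtain ⟨n, hn, hy⟩ := s.2.2
      obtain ⟨k, hk⟩ := (IsPGroup.iff_orderOf.1 P.2) s.1
      exact ⟨k, by rw [hy, orderOf_conj_eq, ← hk, Subgroup.orderOf_coe]⟩⟩
  have hF : Function.Bijective F := by
    constructor
    · rintro ⟨x, y, n, hn, hy⟩ ⟨x', y', n', hn', hy'⟩ h
      have h1 : y = y' := congrArg Subtype.val h
      have hxx : x = x' := by
        have e1 : (x : G) = (n⁻¹ * n') * (x' : G) * (n⁻¹ * n')⁻¹ := by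
          have : n * (x : G) * n⁻¹ = n' * (x' : G) * n'⁻¹ := by rw [← hy, ← hy', h1]
          calc (x : G) = n⁻¹ * (n * (x : G) * n⁻¹) * n := by group
            _ = n⁻¹ * (n' * (x' : G) * n'⁻¹) * n := by rw [this]
            _ = (n⁻¹ * n') * (x' : G) * (n⁻¹ * n')⁻¹ := by group
        have hm : n⁻¹ * n' ∈ N := N.mul_mem (N.inv_mem hn) hn'
        have h2 : (x' : G)⁻¹ * (x : G) ∈ N := by
          have e2 : (x' : G)⁻¹ * (x : G) =
              ((x' : G)⁻¹ * (n⁻¹ * n') * (x' : G)⁻¹⁻¹) * (n⁻¹ * n')⁻¹ := by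
            rw [e1]; group
          rw [e2]
          exact N.mul_mem (hNn.conj_mem _ hm _) (N.inv_mem hm)
        have h3 : (x' : G)⁻¹ * (x : G) ∈ N ⊓ (P : Subgroup G) :=
          ⟨h2, Subgroup.mul_mem _ (Subgroup.inv_mem _ x'.2) x.2⟩
        rw [hNPbot, Subgroup.mem_bot] at h3
        apply Subtype.ext
        calc (x : G) = (x' : G) * ((x' : G)⁻¹ * (x : G)) := by group
          _ = (x' : G) := by rw [h3, mul_one]
      subst hxx
      subst h1
      rfl
    · rintro ⟨g, k, hk⟩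
      obtain ⟨Q, hgQ⟩ := exists_sylow_mem_of_orderOf_eq_prime_pow g k hk
      obtain ⟨c, hc⟩ := MulAction.exists_smul_eq G P Q
      rw [← hc, mem_smul_sylow_iff] at hgQ
      obtain ⟨⟨n, u⟩, hnu, -⟩ := hNP.existsUnique c
      have hnu' : (n : G) * (u : G) = c := hnu
      have hx : (n : G)⁻¹ * g * (n : G) ∈ (P : Subgroup G) := by
        have e : (n : G)⁻¹ * g * (n : G) = (u : G) * (c⁻¹ * g * c) * (u : G)⁻¹ := by
          rw [← hnu']; group
        rw [e]
        exact Subgroup.mul_mem _ (Subgroup.mul_mem _ u.2 hgQ) (Subgroup.inv_mem _ u.2)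
      refine ⟨⟨⟨(n : G)⁻¹ * g * (n : G), hx⟩, ⟨g, (n : G), n.2, ?_⟩⟩, rfl⟩
      show g = (n : G) * ((n : G)⁻¹ * g * (n : G)) * (n : G)⁻¹
      group
  rw [← Nat.card_congr (Equiv.ofBijective F hF), Nat.card_sigma]
  apply Finset.sum_congr rfl
  intro x _
  exact card_conj_orbit N (x : G)

end Cfsg.Agent.Helper7
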