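import Mathlib
import Cfsg.Agent.Helper7.PRegClass
import Cfsg.Agent.Lead.SubTools
import Cfsg.Agent.S0143
import Cfsg.Agent.S0003

set_option autoImplicit false

universe u

namespace Cfsg.Agent.Helper7

/-- If `K` centralizes the normal subgroup `N`, commutes with `x` modulo `N`, and `|N|` is coprime
to the class size of `x`, then `K` commutes with `x`. -/
theorem commute_of_index_coprime {G : Type*} [Group G] [Finite G] (N : Subgroup G) [N.Normal]
    (x : G) (K : Subgroup G)
    (hKN : ∀ c ∈ K, ∀ n ∈ N, c * n = n * c)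
    (hxK : ∀ c ∈ K, x * c * x⁻¹ * c⁻¹ ∈ N)
    (hcop : (Nat.card N).Coprime (Subgroup.centralizer ({x} : Set G)).index) :
    ∀ c ∈ K, x * c = c * x := by
  classical
  set Γ : Subgroup G := Subgroup.centralizer (N : Set G) with hΓ
  haveI hΓn : Γ.Normal := by rw [hΓ]; infer_instance
  set C : Subgroup G := Subgroup.centralizer ({x} : Set G) with hC
  have hmemΓ : ∀ c : G, c ∈ Γ ↔ ∀ n ∈ N, c * n = n * c := by
    intro c
    rw [hΓ, Subgroup.mem_centralizer_iff]
    constructor
    · intro h n hn
      exact (h n hn).symm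
    · intro h n hn
      exact (h n hn).symm
  -- the subgroup D
  let D : Subgroup G :=
    { carrier := {c | c ∈ Γ ∧ x * c * x⁻¹ * c⁻¹ ∈ N}
      one_mem' := ⟨Γ.one_mem, by simp⟩
      mul_mem' := by
        rintro c d ⟨hc, hc'⟩ ⟨hd, hd'⟩
        refine ⟨Γ.mul_mem hc hd, ?_⟩
        have e : x * (c * d) * x⁻¹ * (c * d)⁻¹ =
            (x * c * x⁻¹ * c⁻¹) * (c * (x * d * x⁻¹ * d⁻¹) * c⁻¹) := by group
        rw [e]
        exact N.mul_mem hc' (Subgroup.Normal.conj_mem inferInstance _ hd' c)
      inv_mem' := by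
        rintro c ⟨hc, hc'⟩
        refine ⟨Γ.inv_mem hc, ?_⟩
        have e : x * c⁻¹ * x⁻¹ * c⁻¹⁻¹ = c⁻¹ * (x * c * x⁻¹ * c⁻¹)⁻¹ * c⁻¹⁻¹ := by group
        rw [e]
        exact Subgroup.Normal.conj_mem inferInstance _ (N.inv_mem hc') c⁻¹ }
  have hmemD : ∀ c : G, c ∈ D ↔ c ∈ Γ ∧ x * c * x⁻¹ * c⁻¹ ∈ N := fun c => Iff.rfl
  -- the homomorphism
  let φ : D →* N :=
    { toFun := fun c => ⟨x * (c : G) * x⁻¹ * (c : G)⁻¹, ((hmemD c).1 c.2).2⟩
      map_one' := by
        apply Subtype.ext
        simp
      map_mul' := by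
        rintro ⟨c, hc⟩ ⟨d, hd⟩
        apply Subtype.ext
        show x * (c * d) * x⁻¹ * (c * d)⁻¹ = (x * c * x⁻¹ * c⁻¹) * (x * d * x⁻¹ * d⁻¹)
        have h1 := (hmemΓ c).1 ((hmemD c).1 hc).1 _ ((hmemD d).1 hd).2
        have e : x * (c * d) * x⁻¹ * (c * d)⁻¹ =
            (x * c * x⁻¹) * ((x * d * x⁻¹ * d⁻¹) * c⁻¹) := by group
        have e2 : (x * d * x⁻¹ * d⁻¹) * c⁻¹ = c⁻¹ * (x * d * x⁻¹ * d⁻¹) := by
          rw [eq_inv_mul_iff_mul_eq, ← mul_assoc, h1, mul_assoc, mul_inv_cancel, mul_one]
        rw [e, e2]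
        group }
  have hker : φ.ker = C.subgroupOf D := by
    ext ⟨c, hc⟩
    rw [MonoidHom.mem_ker, Subgroup.mem_subgroupOf, hC, Subgroup.mem_centralizer_singleton_iff]
    constructor
    · intro h
      have h' : x * c * x⁻¹ * c⁻¹ = 1 := congrArg Subtype.val h
      show c * x = x * c
      have : x * c = c * x := by
        rw [mul_inv_eq_one, mul_inv_eq_iff_eq_mul] at h'
        exact h'
      exact this.symm
    · intro h
      have h' : c * x = x * c := h
      apply Subtype.ext
      show x * c * x⁻¹ * c⁻¹ = 1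
      rw [← h']
      group
  have h1 : C.relIndex D ∣ Nat.card N := by
    have h2 : φ.ker.index = Nat.card φ.range := Subgroup.index_ker φ
    rw [hker] at h2
    show (C.subgroupOf D).index ∣ Nat.card N
    rw [h2]
    exact Subgroup.card_subgroup_dvd_card _
  have hE : C ⊓ Γ ≤ D := by
    rintro c ⟨hc1, hc2⟩
    rw [hmemD]
    refine ⟨hc2, ?_⟩
    have hc1' : c ∈ Subgroup.centralizer ({x} : Set G) := hc1
    rw [Subgroup.mem_centralizer_singleton_iff] at hc1'
    have : x * c * x⁻¹ * c⁻¹ = 1 := by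
      rw [← hc1']
      group
    rw [this]
    exact N.one_mem
  have hDΓ : D ≤ Γ := fun c hc => ((hmemD c).1 hc).1
  have h3 : C.relIndex D ∣ C.index := by
    have e1 : C.relIndex D = (C ⊓ Γ).relIndex D := by
      rw [← Subgroup.inf_relIndex_right C D, ← Subgroup.inf_relIndex_right (C ⊓ Γ) D]
      congr 1
      rw [inf_assoc, inf_eq_right.2 hDΓ]
    have e2 : (C ⊓ Γ).relIndex D * D.relIndex Γ = (C ⊓ Γ).relIndex Γ :=
      Subgroup.relIndex_mul_relIndex _ _ _ hE hDΓ
    have e3 : (C ⊓ Γ).relIndex Γ = C.relIndex Γ := Subgroup.inf_relIndex_right C Γ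
    have e4 : C.relIndex Γ ∣ C.index := by
      rw [← relIndex_sup_eq_relIndex_of_le_normalizer C Γ
        (by rw [Subgroup.normalizer_eq_top]; exact le_top)]
      exact Subgroup.relIndex_dvd_index_of_le le_sup_left
    rw [e1]
    exact (Dvd.intro _ e2).trans (e3 ▸ e4)
  have h4 : C.relIndex D = 1 := by
    have := Nat.Coprime.eq_one_of_dvd (Nat.Coprime.coprime_dvd_left h1 hcop) h3
    exact this
  rw [Subgroup.relIndex_eq_one] at h4
  intro c hc
  have hcD : c ∈ D := by
    rw [hmemD]
    exact ⟨(hmemΓ c).2 (hKN c hc), hxK c hc⟩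
  have hcC := h4 hcD
  rw [hC, Subgroup.mem_centralizer_singleton_iff] at hcC
  exact hcC.symm

/-- Wielandt for abelian Hall subgroups: a `p`-regular element is conjugate into an abelian
`p`-complement. -/
theorem exists_conj_mem_abelian_pComplement (p : ℕ) (hp : p.Prime) :
    ∀ (n : ℕ) (G : Type u) [Group G] [Finite G], Nat.card G = n →
      ∀ (H : Subgroup G), IsMulCommutative H → (∃ k : ℕ, H.index = p ^ k) →
      ∀ x : G, (orderOf x).Coprime p → ∃ g : G, g * x * g⁻¹ ∈ H := by
  intro n
  induction n using Nat.strong_induction_on with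
  | _ n ih =>
    intro G _ _ hGn H hHc hHi x hx
    obtain ⟨k, hk⟩ := hHi
    by_cases hxc : x ∈ Subgroup.center G
    · refine ⟨1, ?_⟩
      rw [one_mul, inv_one, mul_one]
      have hnil : Group.IsNilpotent (Subgroup.center G) :=
        Subgroup.nilpotent_iff_lowerCentralSeries.mpr
          ⟨1, Subgroup.lowerCentralSeries_one_eq_bot_iff.mpr inferInstance⟩
      have h1 := pow_index_mem_of_mem_normal_nilpotent (Subgroup.center G) hnil H x hxc
      rw [hk] at h1
      have hcop : Nat.Coprime (p ^ k) (orderOf x) := Nat.Coprime.pow_left k hx.symm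
      obtain ⟨m, hm⟩ := exists_pow_eq_self_of_coprime hcop
      rw [← hm]
      exact H.pow_mem h1 m
    · obtain ⟨q, j, e, hq, hoe, hnc⟩ := exists_prime_pow_power_notMem_center _ x rfl hxc
      haveI : Fact q.Prime := ⟨hq⟩
      have he : e ≠ 0 := by
        rintro rfl
        rw [pow_zero, orderOf_eq_one_iff] at hoe
        rw [hoe] at hnc
        exact hnc (Subgroup.one_mem _)
      have hqp : q ≠ p := by
        rintro rfl
        have h1 : q ∣ orderOf (x ^ j) := by rw [hoe]; exact dvd_pow_self q he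
        have h2 : q ∣ orderOf x := h1.trans (orderOf_pow_dvd j)
        exact (Nat.Prime.coprime_iff_not_dvd hq).1 hx.symm h2
      have hqH : ¬ q ∣ H.index := by
        rw [hk]
        intro h
        exact hqp ((Nat.prime_dvd_prime_iff_eq hq hp).1 (hq.dvd_of_dvd_pow h))
      obtain ⟨Q, hQH, -⟩ := exists_sylow_le_of_not_dvd_index H hqH 1 H.one_mem 0 (by simp)
      obtain ⟨Q', hQ'⟩ := exists_sylow_mem_of_orderOf_eq_prime_pow (x ^ j) e hoe
      obtain ⟨g, hg⟩ := MulAction.exists_smul_eq G Q' Q
      have hz : g * x ^ j * g⁻¹ ∈ H := by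
        apply hQH
        rw [← hg]
        show g * x ^ j * g⁻¹ ∈ g • Q'
        rw [mem_smul_sylow_iff]
        have e1 : g⁻¹ * (g * x ^ j * g⁻¹) * g = x ^ j := by group
        rw [e1]
        exact hQ'
      set z := g * x ^ j * g⁻¹ with hzdef
      have hznc : z ∉ Subgroup.center G := by
        intro h
        apply hnc
        have h2 := Subgroup.Normal.conj_mem (inferInstance : (Subgroup.center G).Normal) z h g⁻¹
        have e1 : g⁻¹ * z * g⁻¹⁻¹ = x ^ j := by rw [hzdef]; group
        rw [e1] at h2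
        exact h2
      set C : Subgroup G := Subgroup.centralizer ({z} : Set G) with hC
      have hCtop : C ≠ ⊤ := by
        intro h
        rw [hC, Subgroup.centralizer_eq_top_iff_subset] at h
        exact hznc (h rfl)
      have hHC : H ≤ C := by
        intro h hh
        rw [hC, Subgroup.mem_centralizer_singleton_iff]
        have := hHc.is_comm.comm (⟨h, hh⟩ : H) ⟨z, hz⟩
        exact congrArg Subtype.val this
      have hcardlt : Nat.card C < n := by
        rw [← hGn]
        apply lt_of_le_of_ne (Subgroup.card_le_card_group C)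
        intro h
        exact hCtop (Subgroup.eq_top_of_card_eq C h)
      have hx'C : g * x * g⁻¹ ∈ C := by
        rw [hC, Subgroup.mem_centralizer_singleton_iff, hzdef]
        have e1 : g * x * g⁻¹ * (g * x ^ j * g⁻¹) = g * (x * x ^ j) * g⁻¹ := by group
        have e2 : g * x ^ j * g⁻¹ * (g * x * g⁻¹) = g * (x ^ j * x) * g⁻¹ := by group
        rw [e1, e2, ← pow_succ, ← pow_succ']
      -- apply induction in `C`
      have hHc' : IsMulCommutative (H.subgroupOf C) := by
        refine ⟨⟨?_⟩⟩
        rintro ⟨⟨a, ha⟩, ha'⟩ ⟨⟨b, hb⟩, hb'⟩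
        rw [Subgroup.mem_subgroupOf] at ha' hb'
        apply Subtype.ext
        apply Subtype.ext
        show a * b = b * a
        have := hHc.is_comm.comm (⟨a, ha'⟩ : H) ⟨b, hb'⟩
        exact congrArg Subtype.val this
      have hidx : ∃ k' : ℕ, (H.subgroupOf C).index = p ^ k' := by
        have h1 : H.relIndex C * C.index = H.index := Subgroup.relIndex_mul_index hHC
        have h2 : H.relIndex C ∣ p ^ k := by rw [← hk]; exact Dvd.intro _ h1
        obtain ⟨k', -, hk'⟩ := (Nat.dvd_prime_pow hp).1 h2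
        exact ⟨k', hk'⟩
      have hxo : (orderOf (⟨g * x * g⁻¹, hx'C⟩ : C)).Coprime p := by
        rw [Subgroup.orderOf_mk, orderOf_conj_eq]
        exact hx
      obtain ⟨c, hc⟩ := ih _ hcardlt C rfl (H.subgroupOf C) hHc' hidx ⟨g * x * g⁻¹, hx'C⟩ hxo
      rw [Subgroup.mem_subgroupOf] at hc
      refine ⟨(c : G) * g, ?_⟩
      have e1 : (c : G) * g * x * ((c : G) * g)⁻¹ = (c : G) * (g * x * g⁻¹) * (c : G)⁻¹ := by group
      rw [e1]
      exact hc

/-- Groups in which all `p`-regular class sizes are powers of `p` are solvable. -/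
theorem PRegPow.isSolvable (p : ℕ) (hp : p.Prime) :
    ∀ (n : ℕ) (G : Type u) [Group G] [Finite G], Nat.card G = n → PRegPow p G →
      Group.IsSolvable G := by
  intro n
  induction n using Nat.strong_induction_on with
  | _ n ih =>
    intro G _ _ hGn h
    haveI : Fact p.Prime := ⟨hp⟩
    by_cases hnt : Nontrivial G
    · obtain ⟨K, hKn, hKt, hsimple⟩ := exists_normal_simple_quotient G
      have hq := h.quotient hp K
      have hex : ∃ (g : G ⧸ K) (k : ℕ), g ≠ 1 ∧
          (Subgroup.centralizer ({g} : Set (G ⧸ K))).index = p ^ k := by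
        by_cases hpg : IsPGroup p (G ⧸ K)
        · obtain ⟨g, hg⟩ := exists_ne (1 : G ⧸ K)
          obtain ⟨m, hm⟩ := IsPGroup.iff_card.1 hpg
          have h1 : (Subgroup.centralizer ({g} : Set (G ⧸ K))).index ∣ p ^ m := by
            rw [← hm]
            exact Subgroup.index_dvd_card _
          obtain ⟨k, -, hk⟩ := (Nat.dvd_prime_pow hp).1 h1
          exact ⟨g, k, hg, hk⟩
        · unfold IsPGroup at hpg
          push Not at hpg
          obtain ⟨g, hg⟩ := hpg
          obtain ⟨u, v, a, hguv, -, hu, hv, -, -⟩ := exists_pPart_mul p hp g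
          have hv1 : v ≠ 1 := by
            rintro rfl
            rw [mul_one] at hguv
            rw [hguv] at hg
            exact hg a hu
          obtain ⟨k, hk⟩ := hq v hv
          exact ⟨v, k, hv1, hk⟩
      obtain ⟨g, k, hg, hk⟩ := hex
      have hprime := Cfsg.Agent.S0143.result p k hp g hg hk
      haveI : Fact (Nat.card (G ⧸ K)).Prime := ⟨hprime⟩
      haveI : IsCyclic (G ⧸ K) := isCyclic_of_prime_card rfl
      haveI hs1 : Group.IsSolvable (G ⧸ K) := Group.isSolvable_of_comm mul_comm_of_isCyclic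
      have hcardlt : Nat.card K < n := by
        rw [← hGn]
        apply lt_of_le_of_ne (Subgroup.card_le_card_group K)
        intro h
        exact hKt (Subgroup.eq_top_of_card_eq K h)
      haveI hs2 : Group.IsSolvable K := ih _ hcardlt K rfl (h.normal hp K)
      exact Group.isSolvable_of_ker_le_range K.subtype (QuotientGroup.mk' K) (by simp)
    · rw [not_nontrivial_iff_subsingleton] at hnt
      exact Group.isSolvable_of_comm (fun a b => Subsingleton.elim _ _)

/-- In a group in which all `p`-regular class sizes are powers of `p`, all `p'`-subgroups are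
abelian. -/
theorem PRegPow.comm_of_not_dvd (p : ℕ) (hp : p.Prime) :
    ∀ (n : ℕ) (G : Type u) [Group G] [Finite G], Nat.card G = n → PRegPow p G →
      ∀ K : Subgroup G, ¬ p ∣ Nat.card K → ∀ a ∈ K, ∀ b ∈ K, a * b = b * a := by
  intro n
  induction n using Nat.strong_induction_on with
  | _ n ih =>
    intro G _ _ hGn h K hK a ha b hb
    by_cases hnt : Nontrivial G
    · haveI := PRegPow.isSolvable p hp _ G rfl h
      obtain ⟨r, N, hr, hNn, hNr, hNbot⟩ := Cfsg.Agent.Lead.exists_normal_pSubgroup_of_solvable G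
      haveI := hNn
      haveI : Fact r.Prime := ⟨hr⟩
      have hcardlt : Nat.card (G ⧸ N) < n := by
        rw [← hGn, ← Subgroup.card_mul_index N, Subgroup.index_eq_card]
        have h1 : 1 < Nat.card N := by
          rw [Subgroup.one_lt_card_iff_ne_bot]
          exact hNbot
        have h2 : 0 < Nat.card (G ⧸ N) := Nat.card_pos
        nlinarith
      have hKmap : ¬ p ∣ Nat.card (K.map (QuotientGroup.mk' N)) := by
        intro hd
        exact hK (hd.trans (Subgroup.card_map_dvd K (QuotientGroup.mk' N)))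
      have hKcop : ∀ c ∈ K, (orderOf c).Coprime p := by
        intro c hc
        have h1 : orderOf c ∣ Nat.card K := Subgroup.orderOf_dvd_natCard K hc
        exact Nat.Coprime.coprime_dvd_left h1 ((Nat.Prime.coprime_iff_not_dvd hp).2 hK).symm
      have hcomm : ∀ c ∈ K, ∀ d ∈ K, c * d * c⁻¹ * d⁻¹ ∈ N := by
        intro c hc d hd
        have h1 := ih _ hcardlt (G ⧸ N) rfl (h.quotient hp N) _ hKmap
          (QuotientGroup.mk' N c) (Subgroup.mem_map_of_mem _ hc)
          (QuotientGroup.mk' N d) (Subgroup.mem_map_of_mem _ hd)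
        rw [← QuotientGroup.eq_one_iff]
        have h2 : ((c * d * c⁻¹ * d⁻¹ : G) : G ⧸ N) =
            (QuotientGroup.mk' N c) * (QuotientGroup.mk' N d) * (QuotientGroup.mk' N c)⁻¹ *
              (QuotientGroup.mk' N d)⁻¹ := by
          simp
        rw [h2, h1]
        group
      by_cases hrp : r = p
      · subst hrp
        have hw := hcomm a ha b hb
        have hwK : a * b * a⁻¹ * b⁻¹ ∈ K :=
          K.mul_mem (K.mul_mem (K.mul_mem ha hb) (K.inv_mem ha)) (K.inv_mem hb)
        have h1 := hKcop _ hwK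
        obtain ⟨i, hi⟩ := hNr ⟨_, hw⟩
        have hi' : (a * b * a⁻¹ * b⁻¹) ^ r ^ i = 1 := by
          have := congrArg Subtype.val hi
          simpa using this
        have h2 : orderOf (a * b * a⁻¹ * b⁻¹) ∣ r ^ i := orderOf_dvd_of_pow_eq_one hi'
        have h3 : orderOf (a * b * a⁻¹ * b⁻¹) = 1 :=
          Nat.Coprime.eq_one_of_dvd (Nat.Coprime.pow_right i h1) h2
        rw [orderOf_eq_one_iff] at h3
        have e1 : a * b = (a * b * a⁻¹ * b⁻¹) * (b * a) := by group
        rw [e1, h3, one_mul]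
      · -- `N` is centralized by all `p`-regular elements
        have hcent : ∀ c : G, (orderOf c).Coprime p → ∀ m ∈ N, c * m = m * c := by
          intro c hc m hm
          obtain ⟨k, hk⟩ := h c hc
          have hrC : ¬ r ∣ (Subgroup.centralizer ({c} : Set G)).index := by
            rw [hk]
            intro hd
            exact hrp ((Nat.prime_dvd_prime_iff_eq hr hp).1 (hr.dvd_of_dvd_pow hd))
          obtain ⟨Q, hQC, -⟩ := exists_sylow_le_of_not_dvd_index _ hrC 1 (Subgroup.one_mem _) 0
            (by simp)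
          have hmC := hQC (normal_pGroup_le_sylow N hNr Q hm)
          rw [Subgroup.mem_centralizer_singleton_iff] at hmC
          exact hmC.symm
        obtain ⟨k, hk⟩ := h a (hKcop a ha)
        obtain ⟨i, hi⟩ := IsPGroup.iff_card.1 hNr
        have hcop : (Nat.card N).Coprime (Subgroup.centralizer ({a} : Set G)).index := by
          rw [hk, hi]
          exact Nat.Coprime.pow _ _ ((Nat.coprime_primes hr hp).2 hrp)
        exact commute_of_index_coprime N a K (fun c hc m hm => hcent c (hKcop c hc) m hm)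
          (fun c hc => hcomm a ha c hc) hcop b hb
    · rw [not_nontrivial_iff_subsingleton] at hnt
      rw [Subsingleton.elim a 1, Subsingleton.elim b 1]

/-- Groups in which all `p`-regular class sizes are powers of `p` have an abelian
`p`-complement. -/
theorem PRegPow.exists_abelian_pComplement {p : ℕ} (hp : p.Prime) {G : Type u} [Group G]
    [Finite G] (h : PRegPow p G) :
    ∃ H : Subgroup G, IsMulCommutative H ∧ ¬ p ∣ Nat.card H ∧ ∃ k : ℕ, H.index = p ^ k := by
  haveI := PRegPow.isSolvable p hp _ G rfl h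
  obtain ⟨a, m, hpm, ho⟩ := Nat.exists_eq_pow_mul_and_not_dvd
    (Nat.card_pos (α := G)).ne' p hp.ne_one
  have hcop : Nat.Coprime m (p ^ a) :=
    (Nat.Coprime.pow_left a ((Nat.Prime.coprime_iff_not_dvd hp).2 hpm)).symm
  obtain ⟨H, hH⟩ := Cfsg.Agent.S0003.result m (p ^ a) (by rw [ho, mul_comm]) hcop
  refine ⟨H, ?_, ?_, a, ?_⟩
  · refine ⟨⟨?_⟩⟩
    rintro ⟨x, hx⟩ ⟨y, hy⟩
    apply Subtype.ext
    exact PRegPow.comm_of_not_dvd p hp _ G rfl h H (by rw [hH]; exact hpm) x hx y hy
  · rw [hH]; exact hpm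
  · have h1 := Subgroup.card_mul_index H
    rw [hH, ho, mul_comm] at h1
    have hm : 0 < m := Nat.pos_of_ne_zero (by rintro rfl; exact hpm (dvd_zero p))
    exact Nat.eq_of_mul_eq_mul_right hm h1

end Cfsg.Agent.Helper7
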