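import Mathlib
import Cfsg.Agent.Helper7.Basic
import Cfsg.Agent.Helper7.SylowLemmas
import Cfsg.Agent.Helper7.Frobenius

set_option autoImplicit false

namespace Cfsg.Agent.Helper7

universe u

variable {G : Type u} [Group G]

/-- Counting elements by their `π`-part: if `D` and `K` are coprime, `K` divides the group
order, and `k` is `1` mod `D` and `0` mod `K`, then the number of solutions `x` of
`x ^ (D * K) = 1` whose "`D`-part" `x ^ k` satisfies a class-invariant property is divisible
by `K`. -/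
theorem dvd_card_pi_decomp [Finite G] (D K : ℕ) (hco : Nat.Coprime D K) (hKG : K ∣ Nat.card G)
    (Q : G → Prop) (hQ : ∀ g u : G, Q u → Q (g * u * g⁻¹)) (k : ℕ)
    (hk1 : k ≡ 1 [MOD D]) (hk0 : k ≡ 0 [MOD K]) :
    K ∣ Nat.card {x : G // x ^ (D * K) = 1 ∧ Q (x ^ k)} := by
  classical
  let _ : Fintype G := Fintype.ofFinite _
  obtain ⟨k', hk'0, hk'1⟩ := Nat.chineseRemainder hco 0 1
  have hmk : K ∣ k := (Nat.modEq_zero_iff_dvd).1 hk0
  have hqk' : D ∣ k' := (Nat.modEq_zero_iff_dvd).1 hk'0
  have hkk' : k + k' ≡ 1 [MOD D * K] := by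
    rw [← Nat.modEq_and_modEq_iff_modEq_mul hco]
    exact ⟨by simpa using hk1.add hk'0, by simpa using hk0.add hk'1⟩
  have A1 : ∀ x : G, x ^ (D * K) = 1 → (x ^ k') ^ K = 1 := by
    intro x hx
    obtain ⟨t, rfl⟩ := hqk'
    rw [← pow_mul, show D * t * K = D * K * t by ring, pow_mul, hx, one_pow]
  have A2 : ∀ x : G, x ^ (D * K) = 1 → x ^ k * x ^ k' = x := by
    intro x hx
    rw [← pow_add]
    have h1 : x ^ (k + k') = x ^ 1 := by
      rw [pow_eq_pow_iff_modEq]
      exact hkk'.of_dvd (orderOf_dvd_of_pow_eq_one hx)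
    rw [h1, pow_one]
  have A3 : ∀ x : G, x ^ (D * K) = 1 → (x ^ k) ^ D = 1 := by
    intro x hx
    obtain ⟨t, rfl⟩ := hmk
    rw [← pow_mul, show K * t * D = D * K * t by ring, pow_mul, hx, one_pow]
  have B1 : ∀ u y : G, u ^ D = 1 → Commute u y → y ^ K = 1 → (u * y) ^ (D * K) = 1 := by
    intro u y hu hc hy
    rw [hc.mul_pow, pow_mul, hu, one_pow, one_mul, mul_comm, pow_mul, hy, one_pow]
  have B3 : ∀ u y : G, u ^ D = 1 → Commute u y → y ^ K = 1 → (u * y) ^ k = u := by
    intro u y hu hc hy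
    have h1 : u ^ k = u ^ 1 := by
      rw [pow_eq_pow_iff_modEq]
      exact hk1.of_dvd (orderOf_dvd_of_pow_eq_one hu)
    have h2 : y ^ k = 1 := by
      obtain ⟨t, rfl⟩ := hmk
      rw [pow_mul, hy, one_pow]
    rw [hc.mul_pow, h1, h2, pow_one, mul_one]
  have B4 : ∀ u y : G, u ^ D = 1 → Commute u y → y ^ K = 1 → (u * y) ^ k' = y := by
    intro u y hu hc hy
    have h1 : y ^ k' = y ^ 1 := by
      rw [pow_eq_pow_iff_modEq]
      exact hk'1.of_dvd (orderOf_dvd_of_pow_eq_one hy)
    have h2 : u ^ k' = 1 := by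
      obtain ⟨t, rfl⟩ := hqk'
      rw [pow_mul, hu, one_pow]
    rw [hc.mul_pow, h1, h2, pow_one, one_mul]
  let F : G → ℕ := fun u => Nat.card {y : G // Commute u y ∧ y ^ K = 1}
  have hX : Nat.card {x : G // x ^ (D * K) = 1 ∧ Q (x ^ k)} =
      ∑ u : G, if (u ^ D = 1 ∧ Q u) then F u else 0 := by
    rw [Nat.card_eq_fintype_card, Fintype.card_subtype, ← Finset.sum_filter]
    rw [Finset.card_eq_sum_card_fiberwise (f := fun x => x ^ k)
      (t := Finset.univ.filter (fun u => u ^ D = 1 ∧ Q u))]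
    · apply Finset.sum_congr rfl
      intro u hu
      rw [Finset.mem_filter] at hu
      have hu' := hu.2
      show _ = Nat.card {y : G // Commute u y ∧ y ^ K = 1}
      rw [Nat.card_eq_fintype_card, Fintype.card_subtype]
      apply Finset.card_nbij' (fun x => x ^ k') (fun y => u * y)
      · intro x hx
        simp only [Finset.coe_filter, Finset.mem_filter, Finset.mem_univ, true_and,
          Set.mem_ofPred_eq] at hx ⊢
        refine ⟨?_, A1 x hx.1.1⟩
        rw [← hx.2]
        exact (Commute.refl x).pow_pow k k'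
      · intro y hy
        simp only [Finset.coe_filter, Finset.mem_filter, Finset.mem_univ, true_and,
          Set.mem_ofPred_eq] at hy ⊢
        have h3 := B3 u y hu'.1 hy.1 hy.2
        refine ⟨⟨B1 u y hu'.1 hy.1 hy.2, ?_⟩, h3⟩
        rw [h3]
        exact hu'.2
      · intro x hx
        simp only [Finset.coe_filter, Finset.mem_filter, Finset.mem_univ, true_and,
          Set.mem_ofPred_eq] at hx
        show u * x ^ k' = x
        rw [← hx.2]
        exact A2 x hx.1.1
      · intro y hy
        simp only [Finset.coe_filter, Finset.mem_univ, true_and,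
          Set.mem_ofPred_eq] at hy
        exact B4 u y hu'.1 hy.1 hy.2
    · intro x hx
      simp only [Finset.coe_filter, Finset.mem_univ, true_and,
        Set.mem_ofPred_eq] at hx ⊢
      exact ⟨A3 x hx.1, hx.2⟩
  rw [hX]
  apply dvd_sum_of_class_fun
  · intro g u
    have h1 : ((g * u * g⁻¹) ^ D = 1 ∧ Q (g * u * g⁻¹)) ↔ (u ^ D = 1 ∧ Q u) := by
      constructor
      · rintro ⟨h2, h3⟩
        refine ⟨?_, ?_⟩
        · rw [conj_pow] at h2
          have h4 : u ^ D = g⁻¹ * (g * u ^ D * g⁻¹) * g := by group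
          rw [h4, h2]
          group
        · have h4 := hQ g⁻¹ _ h3
          have h5 : g⁻¹ * (g * u * g⁻¹) * g⁻¹⁻¹ = u := by group
          rwa [h5] at h4
      · rintro ⟨h2, h3⟩
        refine ⟨?_, hQ g u h3⟩
        rw [conj_pow, h2, mul_one, mul_inv_cancel]
    have h2 : F (g * u * g⁻¹) = F u := by
      apply Nat.card_congr
      refine ⟨fun y => ⟨MulAut.conj g⁻¹ y.1, ?_, ?_⟩, fun y => ⟨MulAut.conj g y.1, ?_, ?_⟩,
        ?_, ?_⟩
      · have h3 := y.2.1.map (MulAut.conj g⁻¹)
        have h4 : MulAut.conj g⁻¹ (g * u * g⁻¹) = u := by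
          simp [mul_assoc]
        rwa [h4] at h3
      · rw [← map_pow, y.2.2, map_one]
      · have h3 := y.2.1.map (MulAut.conj g)
        exact h3
      · rw [← map_pow, y.2.2, map_one]
      · intro y
        apply Subtype.ext
        simp [mul_assoc]
      · intro y
        apply Subtype.ext
        simp [mul_assoc]
    rw [h2]
    simp only [h1]
  · intro u
    split_ifs with hu
    swap
    · simp
    have hF1 : F u = Nat.card {y : Subgroup.centralizer ({u} : Set G) // y ^ K = 1} := by
      apply Nat.card_congr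
      refine ⟨fun y => ⟨⟨y.1, ?_⟩, ?_⟩, fun y => ⟨y.1.1, ?_, ?_⟩, ?_, ?_⟩
      · rw [Subgroup.mem_centralizer_iff]
        intro h hh
        rw [Set.mem_singleton_iff] at hh
        rw [hh]
        exact y.2.1.eq
      · apply Subtype.ext
        exact y.2.2
      · have h1 := y.1.2
        rw [Subgroup.mem_centralizer_iff] at h1
        exact h1 u rfl
      · exact congrArg Subtype.val y.2
      · intro y
        rfl
      · intro y
        rfl
    have hfrob := dvd_card_pow_eq_one (G := Subgroup.centralizer ({u} : Set G))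
      (Nat.gcd K (Nat.card (Subgroup.centralizer ({u} : Set G)))) (Nat.gcd_dvd_right _ _)
    have hL : Nat.card {h : Subgroup.centralizer ({u} : Set G) //
        h ^ (Nat.gcd K (Nat.card (Subgroup.centralizer ({u} : Set G)))) = 1} =
        Nat.card {h : Subgroup.centralizer ({u} : Set G) // h ^ K = 1} := by
      apply Nat.card_congr
      apply Equiv.subtypeEquivRight
      intro h
      rw [← orderOf_dvd_iff_pow_eq_one, ← orderOf_dvd_iff_pow_eq_one, Nat.dvd_gcd_iff]
      exact ⟨fun h1 => h1.1, fun h1 => ⟨h1, orderOf_dvd_natCard h⟩⟩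
    rw [hL, ← hF1] at hfrob
    have h1 : K ∣ (Subgroup.centralizer ({u} : Set G)).index *
        Nat.card (Subgroup.centralizer ({u} : Set G)) := by
      rw [mul_comm, Subgroup.card_mul_index]
      exact hKG
    have h3 := Nat.dvd_gcd (Dvd.intro_left _ rfl :
      K ∣ (Subgroup.centralizer ({u} : Set G)).index * K) h1
    rw [Nat.gcd_mul_left] at h3
    exact h3.trans (Nat.mul_dvd_mul_left _ hfrob)

end Cfsg.Agent.Helper7

set_option autoImplicit false

namespace Cfsg.Agent.Helper7

/-- `x` is a `π`-element (for a set `π` of numbers): every prime divisor of its order is in `π`. -/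
def IsPiEl {G : Type*} [Group G] (π : Set ℕ) (x : G) : Prop :=
  ∀ q : ℕ, q.Prime → q ∣ orderOf x → q ∈ π

/-- Splitting a positive integer into its `π`-part and `π'`-part. -/
theorem exists_pi_split (π : Set ℕ) (n : ℕ) (hn : n ≠ 0) :
    ∃ a b : ℕ, n = a * b ∧ (∀ q : ℕ, q.Prime → q ∣ a → q ∈ π) ∧
      (∀ q : ℕ, q.Prime → q ∣ b → q ∉ π) := by
  induction n using Nat.recOnMul with
  | zero => exact absurd rfl hn
  | one => exact ⟨1, 1, rfl, fun q hq h => absurd (Nat.dvd_one.1 h) hq.ne_one,
      fun q hq h => absurd (Nat.dvd_one.1 h) hq.ne_one⟩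
  | prime p hp =>
    by_cases hpπ : p ∈ π
    · refine ⟨p, 1, (mul_one p).symm, ?_, fun q hq h => absurd (Nat.dvd_one.1 h) hq.ne_one⟩
      intro q hq hqp
      rw [(Nat.prime_dvd_prime_iff_eq hq hp).1 hqp]
      exact hpπ
    · refine ⟨1, p, (one_mul p).symm, fun q hq h => absurd (Nat.dvd_one.1 h) hq.ne_one, ?_⟩
      intro q hq hqp
      rw [(Nat.prime_dvd_prime_iff_eq hq hp).1 hqp]
      exact hpπ
  | mul a b iha ihb =>
    have ha : a ≠ 0 := fun h => hn (by rw [h, zero_mul])
    have hb : b ≠ 0 := fun h => hn (by rw [h, mul_zero])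
    obtain ⟨a₁, b₁, h1, h2, h3⟩ := iha ha
    obtain ⟨a₂, b₂, h4, h5, h6⟩ := ihb hb
    refine ⟨a₁ * a₂, b₁ * b₂, ?_, ?_, ?_⟩
    · rw [h1, h4]
      ring
    · intro q hq hqd
      rcases (Nat.Prime.dvd_mul hq).1 hqd with h | h
      · exact h2 q hq h
      · exact h5 q hq h
    · intro q hq hqd
      rcases (Nat.Prime.dvd_mul hq).1 hqd with h | h
      · exact h3 q hq h
      · exact h6 q hq h

theorem coprime_of_pi_split (π : Set ℕ) (a b : ℕ) (ha : ∀ q : ℕ, q.Prime → q ∣ a → q ∈ π)
    (hb : ∀ q : ℕ, q.Prime → q ∣ b → q ∉ π) : Nat.Coprime a b :=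
  Nat.coprime_of_dvd (fun q hq hqa hqb => hb q hq hqb (ha q hq hqa))

/-- Decomposition of an element into commuting `π`-part and `π'`-part. -/
theorem exists_piPart_mul {G : Type*} [Group G] [Finite G] (π : Set ℕ) (y : G) :
    ∃ (u v : G), y = u * v ∧ u ∈ Subgroup.zpowers y ∧ v ∈ Subgroup.zpowers y ∧
      IsPiEl π u ∧ IsPiEl πᶜ v := by
  obtain ⟨a, b, ho, ha, hb⟩ := exists_pi_split π (orderOf y) (orderOf_pos y).ne'
  have hco : Nat.Coprime a b := coprime_of_pi_split π a b ha hb
  obtain ⟨k, hk1, hk0⟩ := Nat.chineseRemainder hco 1 0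
  obtain ⟨k', hk'0, hk'1⟩ := Nat.chineseRemainder hco 0 1
  have hbk : b ∣ k := (Nat.modEq_zero_iff_dvd).1 hk0
  have hak' : a ∣ k' := (Nat.modEq_zero_iff_dvd).1 hk'0
  have hkk' : k + k' ≡ 1 [MOD orderOf y] := by
    rw [ho, ← Nat.modEq_and_modEq_iff_modEq_mul hco]
    exact ⟨by simpa using hk1.add hk'0, by simpa using hk0.add hk'1⟩
  refine ⟨y ^ k, y ^ k', ?_, Subgroup.pow_mem _ (Subgroup.mem_zpowers y) k,
    Subgroup.pow_mem _ (Subgroup.mem_zpowers y) k', ?_, ?_⟩
  · rw [← pow_add]
    have h1 : y ^ (k + k') = y ^ 1 := by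
      rw [pow_eq_pow_iff_modEq]
      exact hkk'
    rw [h1, pow_one]
  · have h1 : (y ^ k) ^ a = 1 := by
      rw [← pow_mul, ← orderOf_dvd_iff_pow_eq_one, ho, mul_comm k]
      exact Nat.mul_dvd_mul_left _ hbk
    intro q hq hqd
    exact ha q hq (hqd.trans (orderOf_dvd_of_pow_eq_one h1))
  · have h1 : (y ^ k') ^ b = 1 := by
      rw [← pow_mul, ← orderOf_dvd_iff_pow_eq_one, ho]
      exact Nat.mul_dvd_mul_right hak' _
    intro q hq hqd
    exact hb q hq (hqd.trans (orderOf_dvd_of_pow_eq_one h1))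

/-- Uniqueness of the `π`-decomposition. -/
theorem piPart_unique {G : Type*} [Group G] [Finite G] (π : Set ℕ) (x v x' v' : G)
    (hx : IsPiEl π x) (hv : IsPiEl πᶜ v) (hx' : IsPiEl π x') (hv' : IsPiEl πᶜ v')
    (hc : Commute x v) (hc' : Commute x' v') (h : x * v = x' * v') : x = x' ∧ v = v' := by
  set a := orderOf x * orderOf x' with ha
  set b := orderOf v * orderOf v' with hb
  have ha0 : a ≠ 0 := Nat.mul_ne_zero (orderOf_pos x).ne' (orderOf_pos x').ne'
  have hco : Nat.Coprime b a := by
    apply Nat.coprime_of_dvd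
    intro q hq hqb hqa
    have h1 : q ∈ π := by
      rcases (Nat.Prime.dvd_mul hq).1 hqa with h | h
      · exact hx q hq h
      · exact hx' q hq h
    have h2 : q ∉ π := by
      rcases (Nat.Prime.dvd_mul hq).1 hqb with h | h
      · exact hv q hq h
      · exact hv' q hq h
    exact h2 h1
  obtain ⟨c, -, hc1⟩ := Nat.exists_mul_mod_eq_of_coprime 1 hco ha0
  have hmod : b * c ≡ 1 [MOD a] := hc1
  have hvb : v ^ b = 1 := by
    rw [← orderOf_dvd_iff_pow_eq_one]
    exact Dvd.intro _ rfl
  have hv'b : v' ^ b = 1 := by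
    rw [← orderOf_dvd_iff_pow_eq_one]
    exact Dvd.intro_left _ rfl
  have h1 : x ^ b = x' ^ b := by
    have e1 : (x * v) ^ b = x ^ b := by rw [hc.mul_pow, hvb, mul_one]
    have e2 : (x' * v') ^ b = x' ^ b := by rw [hc'.mul_pow, hv'b, mul_one]
    rw [← e1, ← e2, h]
  have h2 : x ^ (b * c) = x := by
    have : x ^ (b * c) = x ^ 1 := by
      rw [pow_eq_pow_iff_modEq]
      exact hmod.of_dvd (Dvd.intro _ rfl)
    rw [this, pow_one]
  have h3 : x' ^ (b * c) = x' := by
    have : x' ^ (b * c) = x' ^ 1 := by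
      rw [pow_eq_pow_iff_modEq]
      exact hmod.of_dvd (Dvd.intro_left _ rfl)
    rw [this, pow_one]
  have hxx : x = x' := by
    have e1 : x ^ (b * c) = (x ^ b) ^ c := pow_mul x b c
    have e2 : x' ^ (b * c) = (x' ^ b) ^ c := pow_mul x' b c
    rw [← h2, ← h3, e1, e2, h1]
  refine ⟨hxx, ?_⟩
  rw [hxx] at h
  exact mul_left_cancel h

theorem pair_sum_left {α β : Type*} [Fintype α] [Finite β] (R : α → β → Prop) :
    Nat.card {p : α × β // R p.1 p.2} = ∑ a, Nat.card {b // R a b} := by
  rw [Nat.card_congr (Equiv.subtypeProdEquivSigmaSubtype R), Nat.card_sigma]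

theorem pair_sum_right {α β : Type*} [Finite α] [Fintype β] (R : α → β → Prop) :
    Nat.card {p : α × β // R p.1 p.2} = ∑ b, Nat.card {a // R a b} := by
  rw [← Nat.card_sigma]
  apply Nat.card_congr
  exact ((Equiv.prodComm α β).subtypeEquiv (fun p => Iff.rfl)).trans
    (Equiv.subtypeProdEquivSigmaSubtype (fun b a => R a b))

/-- The sum of the centralizer orders over a conjugacy class is the group order. -/
theorem sum_card_centralizer_class {H : Type*} [Group H] [Fintype H] [DecidableEq (ConjClasses H)]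
    (C : ConjClasses H) :
    ∑ x ∈ Finset.univ.filter (fun x : H => ConjClasses.mk x = C),
      Nat.card (Subgroup.centralizer {x} : Subgroup H) = Nat.card H := by
  classical
  obtain ⟨x₀, rfl⟩ := ConjClasses.exists_rep C
  set F := Finset.univ.filter (fun x : H => ConjClasses.mk x = ConjClasses.mk x₀) with hF
  have hcx : ∀ x ∈ F, Nat.card (Subgroup.centralizer {x} : Subgroup H) * F.card = Nat.card H := by
    intro x hx
    have hx' : ConjClasses.mk x = ConjClasses.mk x₀ := (Finset.mem_filter.1 hx).2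
    have h1 := card_isConj_eq_index_centralizer x
    have h2 : Nat.card {y : H // IsConj x y} = F.card := by
      rw [Nat.card_eq_fintype_card, Fintype.card_subtype]
      congr 1
      ext y
      rw [Finset.mem_filter, Finset.mem_filter, ← ConjClasses.mk_eq_mk_iff_isConj, hx']
      constructor
      · rintro ⟨h, h'⟩
        exact ⟨h, h'.symm⟩
      · rintro ⟨h, h'⟩
        exact ⟨h, h'.symm⟩
    rw [← h2, h1]
    exact Subgroup.card_mul_index _
  have hx₀ : x₀ ∈ F := by
    rw [hF, Finset.mem_filter]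
    exact ⟨Finset.mem_univ _, rfl⟩
  have hk : 0 < F.card := Finset.card_pos.2 ⟨x₀, hx₀⟩
  have h3 : ∑ x ∈ F, Nat.card (Subgroup.centralizer {x} : Subgroup H) =
      ∑ x ∈ F, Nat.card (Subgroup.centralizer {x₀} : Subgroup H) := by
    apply Finset.sum_congr rfl
    intro x hx
    have e1 := hcx x hx
    have e2 := hcx x₀ hx₀
    exact Nat.eq_of_mul_eq_mul_right hk (e1.trans e2.symm)
  rw [h3, Finset.sum_const, smul_eq_mul, mul_comm]
  exact hcx x₀ hx₀

/-- Burnside-type count of the classes satisfying a predicate. -/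
theorem sum_card_centralizer_eq {H : Type*} [Group H] [Fintype H] (Q : ConjClasses H → Prop)
    [DecidablePred Q] :
    ∑ x : H, (if Q (ConjClasses.mk x) then Nat.card (Subgroup.centralizer {x} : Subgroup H) else 0)
      = Nat.card {C : ConjClasses H // Q C} * Nat.card H := by
  classical
  haveI : Fintype (ConjClasses H) := Fintype.ofFinite _
  rw [← Finset.sum_fiberwise Finset.univ (fun x : H => ConjClasses.mk x)]
  have h1 : ∀ C : ConjClasses H,
      ∑ x ∈ Finset.univ.filter (fun x : H => ConjClasses.mk x = C),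
        (if Q (ConjClasses.mk x) then Nat.card (Subgroup.centralizer {x} : Subgroup H) else 0) =
      if Q C then Nat.card H else 0 := by
    intro C
    by_cases hQ : Q C
    · rw [if_pos hQ, ← sum_card_centralizer_class C]
      apply Finset.sum_congr rfl
      intro x hx
      rw [(Finset.mem_filter.1 hx).2, if_pos hQ]
    · rw [if_neg hQ]
      apply Finset.sum_eq_zero
      intro x hx
      rw [(Finset.mem_filter.1 hx).2, if_neg hQ]
  rw [Finset.sum_congr rfl (fun C _ => h1 C), Finset.sum_ite, Finset.sum_const_zero, add_zero,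
    Finset.sum_const, smul_eq_mul, Nat.card_eq_fintype_card (α := {C : ConjClasses H // Q C}),
    Fintype.card_subtype]

/-- The class predicate of the statements in terms of a representative. -/
theorem class_pred_iff {H : Type*} [Group H] (π : Set ℕ) (x : H) :
    (∀ q : ℕ, q.Prime → (∃ g : H, ConjClasses.mk g = ConjClasses.mk x ∧ q ∣ orderOf g) → q ∈ π) ↔
      IsPiEl π x := by
  constructor
  · intro h q hq hqd
    exact h q hq ⟨x, rfl, hqd⟩
  · rintro h q hq ⟨g, hg, hqd⟩
    rw [ConjClasses.mk_eq_mk_iff_isConj, isConj_iff] at hg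
    obtain ⟨c, hc⟩ := hg
    rw [← hc] at h
    have h' := h q hq
    rw [orderOf_conj_eq] at h'
    exact h' hqd

/-- Burnside count for the classes of `π`-elements. -/
theorem sum_card_centralizer_pi {H : Type*} [Group H] [Fintype H] (π : Set ℕ)
    [DecidablePred (fun x : H => IsPiEl π x)] :
    ∑ x : H, (if IsPiEl π x then Nat.card (Subgroup.centralizer {x} : Subgroup H) else 0)
      = Nat.card {C : ConjClasses H // ∀ q : ℕ, q.Prime →
          (∃ g : H, ConjClasses.mk g = C ∧ q ∣ orderOf g) → q ∈ π} * Nat.card H := by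
  classical
  rw [← sum_card_centralizer_eq]
  apply Finset.sum_congr rfl
  intro x _
  by_cases hx : IsPiEl π x
  · rw [if_pos hx, if_pos ((class_pred_iff π x).2 hx)]
  · rw [if_neg hx, if_neg (fun h => hx ((class_pred_iff π x).1 h))]

end Cfsg.Agent.Helper7
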