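import Mathlib
import Cfsg.Agent.Helper5.Basic
import Cfsg.Agent.Lead.PGroupFrattini
import Cfsg.Agent.Helper7.SylowLemmas

set_option autoImplicit false

universe u

namespace Cfsg.Agent.Helper7

/-- Every non-abelian subgroup is self-normalizing. -/
def SN (G : Type*) [Group G] : Prop :=
  ∀ H : Subgroup G, ¬ IsMulCommutative H → Subgroup.normalizer (H : Set G) = H

theorem not_isMulCommutative_of {G : Type*} [Group G] {H : Subgroup G} {x y : G} (hx : x ∈ H)
    (hy : y ∈ H) (hxy : x * y ≠ y * x) : ¬ IsMulCommutative H := by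
  intro h
  apply hxy
  have := h.is_comm.comm ⟨x, hx⟩ ⟨y, hy⟩
  exact congrArg Subtype.val this

theorem exists_noncomm_of_not {G : Type*} [Group G] {H : Subgroup G} (h : ¬ IsMulCommutative H) :
    ∃ x ∈ H, ∃ y ∈ H, x * y ≠ y * x := by
  by_contra hc
  push Not at hc
  exact h ⟨⟨fun a b => Subtype.ext (hc a a.2 b b.2)⟩⟩

theorem comm_of_isCyclic {α : Type*} [Group α] [IsCyclic α] (u v : α) : u * v = v * u := by
  obtain ⟨g, hg⟩ := IsCyclic.exists_generator (α := α)
  obtain ⟨i, rfl⟩ := Subgroup.mem_zpowers_iff.1 (hg u)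
  obtain ⟨j, rfl⟩ := Subgroup.mem_zpowers_iff.1 (hg v)
  rw [← zpow_add, ← zpow_add, add_comm]

/-- Proper normal subgroups are abelian. -/
theorem SN.comm_of_normal {G : Type*} [Group G] (hSN : SN G) (K : Subgroup G) [hK : K.Normal]
    (hne : K ≠ ⊤) : ∀ x ∈ K, ∀ y ∈ K, x * y = y * x := by
  by_contra hc
  push Not at hc
  obtain ⟨x, hx, y, hy, hxy⟩ := hc
  have h1 := hSN K (not_isMulCommutative_of hx hy hxy)
  have h2 : Subgroup.normalizer (K : Set G) = ⊤ := Subgroup.normalizer_eq_top_iff.2 hK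
  rw [h2] at h1
  exact hne h1.symm

/-- The property passes to quotients. -/
theorem SN.quotient {G : Type*} [Group G] (hSN : SN G) (N : Subgroup G) [N.Normal] :
    SN (G ⧸ N) := by
  intro Hb hHb
  obtain ⟨xb, hxb, yb, hyb, hxy⟩ := exists_noncomm_of_not hHb
  obtain ⟨x, rfl⟩ := QuotientGroup.mk_surjective xb
  obtain ⟨y, rfl⟩ := QuotientGroup.mk_surjective yb
  set H := Hb.comap (QuotientGroup.mk' N) with hH
  have hxH : x ∈ H := hxb
  have hyH : y ∈ H := hyb
  have hxy' : x * y ≠ y * x := by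
    intro h
    apply hxy
    rw [← QuotientGroup.mk_mul, ← QuotientGroup.mk_mul, h]
  have h1 := hSN H (not_isMulCommutative_of hxH hyH hxy')
  apply le_antisymm
  · intro sb hsb
    obtain ⟨s, rfl⟩ := QuotientGroup.mk_surjective sb
    have hs : s ∈ Subgroup.normalizer (H : Set G) := by
      rw [Subgroup.mem_normalizer_iff]
      intro h
      rw [Subgroup.mem_normalizer_iff] at hsb
      have := hsb (QuotientGroup.mk h)
      exact this
    rw [h1] at hs
    exact hs
  · exact Subgroup.le_normalizer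

theorem mem_normalizer_sup {G : Type*} [Group G] {A B : Subgroup G} {y : G}
    (hA : y ∈ Subgroup.normalizer (A : Set G)) (hB : y ∈ Subgroup.normalizer (B : Set G)) :
    y ∈ Subgroup.normalizer ((A ⊔ B : Subgroup G) : Set G) := by
  have key : ∀ g : G, g ∈ Subgroup.normalizer (A : Set G) → g ∈ Subgroup.normalizer (B : Set G) →
      ∀ h ∈ A ⊔ B, g * h * g⁻¹ ∈ A ⊔ B := by
    intro g hgA hgB
    have hle : A ⊔ B ≤ (A ⊔ B).comap (MulAut.conj g).toMonoidHom := by
      apply sup_le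
      · intro a ha
        rw [Subgroup.mem_comap]
        show g * a * g⁻¹ ∈ A ⊔ B
        exact Subgroup.mem_sup_left ((Subgroup.mem_normalizer_iff.1 hgA a).1 ha)
      · intro b hb
        rw [Subgroup.mem_comap]
        show g * b * g⁻¹ ∈ A ⊔ B
        exact Subgroup.mem_sup_right ((Subgroup.mem_normalizer_iff.1 hgB b).1 hb)
    intro h hh
    exact hle hh
  rw [Subgroup.mem_normalizer_iff]
  intro h
  constructor
  · exact key y hA hB h
  · intro hh
    have := key y⁻¹ (Subgroup.inv_mem _ hA) (Subgroup.inv_mem _ hB) _ hh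
    have e : y⁻¹ * (y * h * y⁻¹) * y⁻¹⁻¹ = h := by group
    rw [e] at this
    exact this

/-- Structure of the commutators of a minimal non-abelian `p`-group. -/
theorem mna_commutator {P : Type*} [Group P] [Finite P] (p : ℕ) [Fact p.Prime] (hP : IsPGroup p P)
    (hmin : ∀ H : Subgroup P, H ≠ ⊤ → ∀ x ∈ H, ∀ y ∈ H, x * y = y * x) (a b : P)
    (hab : a * b ≠ b * a) :
    (∀ g : P, (a * b * a⁻¹ * b⁻¹) * g = g * (a * b * a⁻¹ * b⁻¹)) ∧ (a * b * a⁻¹ * b⁻¹) ^ p = 1 ∧
      (∀ x y : P, x * y * x⁻¹ * y⁻¹ ∈ Subgroup.zpowers (a * b * a⁻¹ * b⁻¹)) := by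
  have hp : p.Prime := Fact.out
  have hza : Subgroup.zpowers a ≠ ⊤ := by
    intro h
    have hb : b ∈ Subgroup.zpowers a := by rw [h]; exact Subgroup.mem_top b
    obtain ⟨i, rfl⟩ := Subgroup.mem_zpowers_iff.1 hb
    apply hab
    exact ((Commute.refl a).zpow_right i).eq
  have hzb : Subgroup.zpowers b ≠ ⊤ := by
    intro h
    have ha : a ∈ Subgroup.zpowers b := by rw [h]; exact Subgroup.mem_top a
    obtain ⟨i, rfl⟩ := Subgroup.mem_zpowers_iff.1 ha
    apply hab
    exact ((Commute.refl b).zpow_left i).eq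
  obtain ⟨M₁, hM₁, haM₁⟩ := (eq_top_or_exists_le_coatom (Subgroup.zpowers a)).resolve_left hza
  obtain ⟨M₂, hM₂, hbM₂⟩ := (eq_top_or_exists_le_coatom (Subgroup.zpowers b)).resolve_left hzb
  have ha1 : a ∈ M₁ := haM₁ (Subgroup.mem_zpowers a)
  have hb2 : b ∈ M₂ := hbM₂ (Subgroup.mem_zpowers b)
  haveI hn1 : M₁.Normal := Cfsg.Agent.Lead.coatom_normal_of_isPGroup p hP M₁ hM₁
  haveI hn2 : M₂.Normal := Cfsg.Agent.Lead.coatom_normal_of_isPGroup p hP M₂ hM₂
  have hi1 : M₁.index = p := Cfsg.Agent.Lead.coatom_index_of_isPGroup p hP M₁ hM₁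
  have hi2 : M₂.index = p := Cfsg.Agent.Lead.coatom_index_of_isPGroup p hP M₂ hM₂
  have hne : M₁ ≠ M₂ := by
    intro h
    apply hab
    exact hmin M₁ hM₁.1 a ha1 b (h ▸ hb2)
  have hsup : M₁ ⊔ M₂ = ⊤ := by
    apply hM₁.2
    refine lt_of_le_of_ne le_sup_left ?_
    intro h
    have h2 : M₂ ≤ M₁ := by
      rw [h]
      exact le_sup_right
    rcases eq_or_lt_of_le h2 with h3 | h3
    · exact hne h3.symm
    · exact hM₁.1 (hM₂.2 M₁ h3)
  -- elements of M₁ ⊓ M₂ are central
  have key1 : ∀ w ∈ M₁ ⊓ M₂, ∀ g : P, w * g = g * w := by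
    intro w hw g
    have hle : M₁ ⊔ M₂ ≤ Subgroup.centralizer {w} := by
      apply sup_le
      · intro m hm
        rw [Subgroup.mem_centralizer_singleton_iff]
        exact hmin M₁ hM₁.1 m hm w hw.1
      · intro m hm
        rw [Subgroup.mem_centralizer_singleton_iff]
        exact hmin M₂ hM₂.1 m hm w hw.2
    have hg : g ∈ Subgroup.centralizer {w} := hle (hsup ▸ Subgroup.mem_top g)
    rw [Subgroup.mem_centralizer_singleton_iff] at hg
    exact hg.symm
  -- commutators lie in M₁ ⊓ M₂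
  have key2 : ∀ (M : Subgroup P) [M.Normal], M.index = p → ∀ x y : P, x * y * x⁻¹ * y⁻¹ ∈ M := by
    intro M _ hi x y
    have hcard : Nat.card (P ⧸ M) = p := hi
    haveI : IsCyclic (P ⧸ M) := isCyclic_of_prime_card hcard
    rw [← QuotientGroup.eq_one_iff]
    have h1 := comm_of_isCyclic (QuotientGroup.mk x : P ⧸ M) (QuotientGroup.mk y)
    rw [QuotientGroup.mk_mul, QuotientGroup.mk_mul, QuotientGroup.mk_mul, h1, QuotientGroup.mk_inv,
      QuotientGroup.mk_inv]
    group
  have key3 : ∀ x y : P, x * y * x⁻¹ * y⁻¹ ∈ M₁ ⊓ M₂ := fun x y =>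
    ⟨key2 M₁ hi1 x y, key2 M₂ hi2 x y⟩
  set c := a * b * a⁻¹ * b⁻¹ with hc
  have hcc : ∀ g : P, c * g = g * c := key1 c (key3 a b)
  -- x ↦ [a, x] is multiplicative
  have hmul : ∀ x y : P, a * (x * y) * a⁻¹ * (x * y)⁻¹ = (a * x * a⁻¹ * x⁻¹) * (a * y * a⁻¹ * y⁻¹) := by
    intro x y
    have h1 := key1 _ (key3 a y) x
    calc a * (x * y) * a⁻¹ * (x * y)⁻¹ = (a * x * a⁻¹ * x⁻¹) * (x * (a * y * a⁻¹ * y⁻¹)) * x⁻¹ := by
          group
      _ = (a * x * a⁻¹ * x⁻¹) * ((a * y * a⁻¹ * y⁻¹) * x) * x⁻¹ := by rw [h1]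
      _ = (a * x * a⁻¹ * x⁻¹) * (a * y * a⁻¹ * y⁻¹) := by group
  have hpow : ∀ n : ℕ, a * b ^ n * a⁻¹ * (b ^ n)⁻¹ = c ^ n := by
    intro n
    induction n with
    | zero => simp
    | succ n ih =>
      rw [pow_succ, hmul, ih, pow_succ]
  have hbp : b ^ p ∈ M₁ ⊓ M₂ := by
    constructor
    · have := Subgroup.pow_index_mem M₁ b
      rw [hi1] at this
      exact this
    · have := Subgroup.pow_index_mem M₂ b
      rw [hi2] at this
      exact this
  have hcp : c ^ p = 1 := by
    rw [← hpow p]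
    have h1 := key1 _ hbp a
    calc a * b ^ p * a⁻¹ * (b ^ p)⁻¹ = (b ^ p * a) * a⁻¹ * (b ^ p)⁻¹ := by rw [h1]
      _ = 1 := by group
  refine ⟨hcc, hcp, ?_⟩
  -- the quotient by ⟨c⟩ is abelian
  have hcl : Subgroup.closure ({a, b} : Set P) = ⊤ := by
    by_contra hcon
    apply hab
    exact hmin _ hcon a (Subgroup.subset_closure (Set.mem_insert _ _)) b
      (Subgroup.subset_closure (Set.mem_insert_of_mem _ rfl))
  haveI hDn : (Subgroup.zpowers c).Normal := by
    constructor
    intro n hn g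
    obtain ⟨i, rfl⟩ := Subgroup.mem_zpowers_iff.1 hn
    have h1 : g * c ^ i * g⁻¹ = c ^ i := by
      have h2 : Commute c g := hcc g
      have h3 : c ^ i * g = g * c ^ i := (h2.zpow_left i).eq
      rw [← h3]
      group
    rw [h1]
    exact Subgroup.zpow_mem _ (Subgroup.mem_zpowers c) i
  set D := Subgroup.zpowers c with hD
  have hab' : (QuotientGroup.mk a : P ⧸ D) * QuotientGroup.mk b = QuotientGroup.mk b * QuotientGroup.mk a := by
    rw [← QuotientGroup.mk_mul, ← QuotientGroup.mk_mul, QuotientGroup.eq]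
    have h1 : (a * b)⁻¹ * (b * a) = (b⁻¹ * a⁻¹) * c⁻¹ * (a * b) := by
      rw [hc]
      group
    have h2 : (b⁻¹ * a⁻¹) * c⁻¹ * (a * b) = c⁻¹ := by
      have h3 : Commute c (a * b) := hcc (a * b)
      have h4 : c⁻¹ * (a * b) = (a * b) * c⁻¹ := h3.inv_left.eq
      calc (b⁻¹ * a⁻¹) * c⁻¹ * (a * b) = (b⁻¹ * a⁻¹) * (c⁻¹ * (a * b)) := by group
        _ = (b⁻¹ * a⁻¹) * ((a * b) * c⁻¹) := by rw [h4]
        _ = c⁻¹ := by group
    rw [h1, h2]
    exact Subgroup.inv_mem _ (Subgroup.mem_zpowers c)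
  -- centralizers in the quotient
  have hcent : ∀ t : P, (QuotientGroup.mk t : P ⧸ D) * QuotientGroup.mk a = QuotientGroup.mk a * QuotientGroup.mk t ∧
      (QuotientGroup.mk t : P ⧸ D) * QuotientGroup.mk b = QuotientGroup.mk b * QuotientGroup.mk t := by
    intro t
    have hle : Subgroup.closure ({a, b} : Set P) ≤
        (Subgroup.centralizer {(QuotientGroup.mk a : P ⧸ D)} ⊓
          Subgroup.centralizer {(QuotientGroup.mk b : P ⧸ D)}).comap (QuotientGroup.mk' D) := by
      rw [Subgroup.closure_le]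
      intro s hs
      rw [SetLike.mem_coe, Subgroup.mem_comap]
      constructor
      · show _ ∈ Subgroup.centralizer _
        rw [Subgroup.mem_centralizer_singleton_iff]
        rcases hs with rfl | hs
        · rfl
        · rw [Set.mem_singleton_iff] at hs
          rw [hs]
          exact hab'.symm
      · show _ ∈ Subgroup.centralizer _
        rw [Subgroup.mem_centralizer_singleton_iff]
        rcases hs with rfl | hs
        · exact hab'
        · rw [Set.mem_singleton_iff] at hs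
          rw [hs]
          rfl
    have ht : t ∈ Subgroup.closure ({a, b} : Set P) := hcl ▸ Subgroup.mem_top t
    have ht' := hle ht
    rw [Subgroup.mem_comap] at ht'
    obtain ⟨h1, h2⟩ := ht'
    have h1' : (QuotientGroup.mk' D) t ∈ Subgroup.centralizer {(QuotientGroup.mk a : P ⧸ D)} := h1
    have h2' : (QuotientGroup.mk' D) t ∈ Subgroup.centralizer {(QuotientGroup.mk b : P ⧸ D)} := h2
    rw [Subgroup.mem_centralizer_singleton_iff] at h1' h2'
    exact ⟨h1', h2'⟩
  have hcomm : ∀ x y : P, (QuotientGroup.mk x : P ⧸ D) * QuotientGroup.mk y =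
      QuotientGroup.mk y * QuotientGroup.mk x := by
    intro x y
    have hle : Subgroup.closure ({a, b} : Set P) ≤
        (Subgroup.centralizer {(QuotientGroup.mk x : P ⧸ D)}).comap (QuotientGroup.mk' D) := by
      rw [Subgroup.closure_le]
      intro s hs
      rw [SetLike.mem_coe, Subgroup.mem_comap, Subgroup.mem_centralizer_singleton_iff]
      rcases hs with rfl | hs
      · exact ((hcent x).1).symm
      · rw [Set.mem_singleton_iff] at hs
        rw [hs]
        exact ((hcent x).2).symm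
    have hy : y ∈ Subgroup.closure ({a, b} : Set P) := hcl ▸ Subgroup.mem_top y
    have hy' := hle hy
    rw [Subgroup.mem_comap, Subgroup.mem_centralizer_singleton_iff] at hy'
    exact hy'.symm
  intro x y
  rw [← QuotientGroup.eq_one_iff]
  rw [QuotientGroup.mk_mul, QuotientGroup.mk_mul, QuotientGroup.mk_mul, hcomm x y, QuotientGroup.mk_inv,
    QuotientGroup.mk_inv]
  group

end Cfsg.Agent.Helper7
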